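/-
Counting in finite groups: sets with trivial intersections and cyclic subgroups.
-/
import Mathlib.GroupTheory.Index
import Mathlib.GroupTheory.SpecificGroups.Cyclic
import Mathlib.Tactic.Group

set_option autoImplicit false

namespace CfsgLib.Lie.Ree.Count

variable {G : Type*} [Group G]

/-- the number of conjugates of elements of a set whose members are fused only by `N` -/
theorem card_conj_union (N : Subgroup G) (S : Set G) (huniq : ∀ g : G, ∀ s ∈ S, g * s * g⁻¹ ∈ S → g ∈ N)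
    (hinv : ∀ n ∈ N, ∀ s ∈ S, n * s * n⁻¹ ∈ S) :
    Nat.card {y : G // ∃ g : G, g⁻¹ * y * g ∈ S} * Nat.card N = Nat.card G * Nat.card S := by
  have hc : ∀ y : {y : G // ∃ g : G, g⁻¹ * y * g ∈ S}, ∃ g : G, g⁻¹ * (y : G) * g ∈ S := fun y => y.2
  choose gy hgy using hc
  rw [← Nat.card_prod, ← Nat.card_prod]
  refine Nat.card_eq_of_bijective
    (fun p => (gy p.1 * (p.2 : G), ⟨(p.2 : G)⁻¹ * ((gy p.1)⁻¹ * (p.1 : G) * gy p.1) * p.2, by
      simpa using hinv _ (inv_mem p.2.2) _ (hgy p.1)⟩)) ⟨?_, ?_⟩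
  · rintro ⟨y, n⟩ ⟨y', n'⟩ e
    obtain ⟨e1, e2⟩ := Prod.mk.injEq _ _ _ _ ▸ e
    have e3 := congrArg Subtype.val e2
    have hy : y = y' := Subtype.ext <| by
      calc (y : G) = (gy y * n) * ((n : G)⁻¹ * ((gy y)⁻¹ * (y : G) * gy y) * n) * (gy y * n)⁻¹ := by group
        _ = (gy y' * n') * ((n' : G)⁻¹ * ((gy y')⁻¹ * (y' : G) * gy y') * n') * (gy y' * n')⁻¹ := by
          rw [e1]; simp only at e3; rw [e3]
        _ = y' := by group
    subst hy
    exact Prod.ext rfl (Subtype.ext (mul_left_cancel e1))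
  · rintro ⟨g, ⟨s, hs⟩⟩
    have hy : ∃ h : G, h⁻¹ * (g * s * g⁻¹) * h ∈ S := ⟨g, by simpa [mul_assoc] using hs⟩
    have hn : (gy ⟨_, hy⟩)⁻¹ * g ∈ N := huniq _ s hs (by
      have h1 := hgy ⟨_, hy⟩
      convert h1 using 1; group)
    refine ⟨(⟨_, hy⟩, ⟨_, hn⟩), Prod.ext (by simp) (Subtype.ext ?_)⟩
    simp only
    group

theorem pow_card_of_mem {X : Subgroup G} {x : G} (h : x ∈ X) : x ^ Nat.card X = 1 :=
  (SubgroupClass.coe_pow (⟨x, h⟩ : X) _).symm.trans (congrArg Subtype.val pow_card_eq_one')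

/-- the members of a subgroup of a cyclic subgroup are cut out by their order -/
theorem mem_iff_pow_card {A X : Subgroup G} [Finite G] (hA : IsCyclic A) (hX : X ≤ A) {x : G} :
    x ∈ X ↔ x ∈ A ∧ x ^ Nat.card X = 1 := by
  classical
  refine ⟨fun h => ⟨hX h, pow_card_of_mem h⟩, ?_⟩
  rintro ⟨hxA, hx⟩
  have : Fintype A := Fintype.ofFinite _
  have hle : ((X.subgroupOf A : Set A)).toFinset ⊆ Finset.univ.filter (fun a : A => a ^ Nat.card X = 1) := by
    intro a ha
    rw [Set.mem_toFinset, SetLike.mem_coe, Subgroup.mem_subgroupOf] at ha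
    refine Finset.mem_filter.2 ⟨Finset.mem_univ _, Subtype.ext ?_⟩
    exact (SubgroupClass.coe_pow a _).trans (pow_card_of_mem ha)
  have hcard : ((X.subgroupOf A : Set A)).toFinset.card = Nat.card X := by
    rw [← Nat.card_congr (Subgroup.subgroupOfEquivOfLe hX).toEquiv, Set.toFinset_card, ← Nat.card_eq_fintype_card]
    rfl
  have heq := Finset.eq_of_subset_of_card_le hle (by
    rw [hcard]; exact IsCyclic.card_pow_eq_one_le Nat.card_pos)
  have hmem : (⟨x, hxA⟩ : A) ∈ Finset.univ.filter (fun a : A => a ^ Nat.card X = 1) :=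
    Finset.mem_filter.2 ⟨Finset.mem_univ _, Subtype.ext (by simpa using hx)⟩
  rw [← heq, Set.mem_toFinset, SetLike.mem_coe, Subgroup.mem_subgroupOf] at hmem
  exact hmem

theorem eq_of_card_eq [Finite G] {A X Y : Subgroup G} (hA : IsCyclic A) (hX : X ≤ A) (hY : Y ≤ A)
    (h : Nat.card X = Nat.card Y) : X = Y := by
  ext x
  rw [mem_iff_pow_card hA hX, mem_iff_pow_card hA hY, h]

theorem normalizer_le_normalizer [Finite G] {A X : Subgroup G} (hA : IsCyclic A) (hX : X ≤ A) :
    Subgroup.normalizer (A : Set G) ≤ Subgroup.normalizer (X : Set G) := fun g hg => by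
  rw [Subgroup.mem_normalizer_iff] at hg ⊢
  intro x
  rw [mem_iff_pow_card hA hX, mem_iff_pow_card hA hX, conj_pow, ← hg x]
  simp [conj_eq_one_iff]

/-- Euler's function counts the elements of given order in a cyclic subgroup -/
theorem card_orderOf_eq [Finite G] {A : Subgroup G} (hA : IsCyclic A) {i : ℕ} (hi : i ∣ Nat.card A) :
    Nat.card ({g : G | g ∈ A ∧ orderOf g = i} : Set G) = Nat.totient i := by
  classical
  have : Fintype A := Fintype.ofFinite _
  rw [← IsCyclic.card_orderOf_eq_totient (α := A) (d := i) (by rwa [← Nat.card_eq_fintype_card]),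
    ← Fintype.card_subtype, ← Nat.card_eq_fintype_card]
  exact Nat.card_congr
    { toFun := fun g => ⟨⟨g.1, g.2.1⟩, by rw [Subgroup.orderOf_mk]; exact g.2.2⟩
      invFun := fun a => ⟨(a.1 : G), a.1.2, by rw [Subgroup.orderOf_coe]; exact a.2⟩
      left_inv := fun g => rfl
      right_inv := fun a => rfl }

end CfsgLib.Lie.Ree.Count
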