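/-
The small Ree groups with their split structure, in coordinates.
-/
import Cfsg.Agent.Lib.Lie.Twisted.G2Rank

set_option autoImplicit false

namespace CfsgLib.Lie.Ree

open Cfsg.Lie CfsgLib.Lie CfsgLib.Lie.Chev CfsgLib.Lie.Chev.TwGroups

/-- the small Ree group -/
abbrev RG (K : Type*) [Field K] (m : ℕ) : Type _ := ↥(twistedG2 K (3 ^ m))

variable {K : Type*} [Field K] {m : ℕ}

/-- the element of the unipotent part with given coordinates -/
noncomputable def uEl (m : ℕ) (t u v : K) : RG K m :=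
  ⟨((xU m t u v : ↥(chevG2.group K)) : GL chevG2.Idx K), Subgroup.mem_subgroupOf.1 (xU_mem m t u v)⟩

theorem uEl_val (t u v : K) : ((uEl m t u v : RG K m) : GL chevG2.Idx K) = ((xU m t u v : ↥(chevG2.group K)) : GL chevG2.Idx K) := rfl

/-- the fixed unipotent part -/
noncomputable def UR (K : Type*) [Field K] (m : ℕ) : Subgroup (RG K m) :=
  (U1G2 K m).subgroupOf (twistedG2 K (3 ^ m))

/-- the fixed torus -/
noncomputable def HR (K : Type*) [Field K] (m : ℕ) : Subgroup (RG K m) :=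
  (H1G2 K m).subgroupOf (twistedG2 K (3 ^ m))

/-- the fixed Borel subgroup -/
noncomputable def BR (K : Type*) [Field K] (m : ℕ) : Subgroup (RG K m) :=
  (chevG2.borelSubgroup K ⊓ twistedG2 K (3 ^ m)).subgroupOf (twistedG2 K (3 ^ m))

variable [Fintype K] (hK : Fintype.card K = 3 ^ (2 * m + 1))

/-- the element of the torus with a given coordinate -/
noncomputable def hEl : Kˣ →* RG K m :=
  (((chevG2.group K).subtype).comp (psiG2 K m)).codRestrict (twistedG2 K (3 ^ m)) fun c =>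
    Subgroup.mem_subgroupOf.1 (by rw [← twG2_P1 hK]; exact psiG2_mem hK c)

theorem hEl_val (c : Kˣ) : ((hEl hK c : RG K m) : GL chevG2.Idx K) = ((psiG2 K m c : ↥(chevG2.group K)) : GL chevG2.Idx K) := rfl

/-- the involution of the torus -/
noncomputable def jEl : RG K m := hEl hK (-1)

include hK

theorem mem_UR_iff (g : RG K m) : g ∈ UR K m ↔ ∃ t u v, g = uEl m t u v := by
  rw [UR, Subgroup.mem_subgroupOf, mem_U1_iff hK]
  exact exists₃_congr fun t u v => ⟨fun e => Subtype.ext e, fun e => congrArg Subtype.val e⟩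

theorem mem_HR_iff (g : RG K m) : g ∈ HR K m ↔ ∃ c, g = hEl hK c := by
  rw [HR, Subgroup.mem_subgroupOf, mem_H1_iff hK]
  exact exists_congr fun c => ⟨fun e => Subtype.ext e, fun e => congrArg Subtype.val e⟩

theorem uEl_mem (t u v : K) : uEl m t u v ∈ UR K m := (mem_UR_iff hK _).2 ⟨t, u, v, rfl⟩

theorem hEl_mem (c : Kˣ) : hEl hK c ∈ HR K m := (mem_HR_iff hK _).2 ⟨c, rfl⟩

theorem uEl_inj {t u v t' u' v' : K} (h : uEl m t u v = uEl m t' u' v') : t = t' ∧ u = u' ∧ v = v' :=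
  xU_inj hK (Subtype.ext (congrArg (fun g : RG K m => (g : GL chevG2.Idx K)) h))

theorem hEl_injective : Function.Injective (hEl hK) := fun a b h =>
  psiG2_injective m (Subtype.ext (congrArg (fun g : RG K m => (g : GL chevG2.Idx K)) h))

theorem uEl_zero : uEl m (0 : K) 0 0 = 1 := Subtype.ext (by
  rw [uEl_val, xU_zero hK]; rfl)

theorem uEl_mul (a u v b u' v' : K) : uEl m a u v * uEl m b u' v' =
    uEl m (a + b) (u + u' - (b ^ 3 ^ m) ^ (3 : ℕ) * a)
      (v + v' - b * u - (b ^ 3 ^ m) ^ (3 : ℕ) * a ^ (2 : ℕ) + (b ^ 3 ^ m) ^ (3 : ℕ) * a * b) := Subtype.ext (by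
  rw [Subgroup.coe_mul, uEl_val, uEl_val, uEl_val, ← Subgroup.coe_mul, xU_mul hK])

theorem hEl_conj_uEl (c : Kˣ) (t u v : K) : hEl hK c * uEl m t u v * (hEl hK c)⁻¹ =
    uEl m ((c : K) ^ (2 : ℕ) * (((c : K) ^ 3 ^ m) ^ (3 : ℕ))⁻¹ * t)
      (((c : K) ^ 3 ^ m) ^ (3 : ℕ) * (c : K)⁻¹ * u) ((c : K) * v) := Subtype.ext (by
  rw [Subgroup.coe_mul, Subgroup.coe_mul, Subgroup.coe_inv, hEl_val, uEl_val, uEl_val, ← Subgroup.coe_inv,
    ← Subgroup.coe_mul, ← Subgroup.coe_mul, psiG2_conj_xU hK])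

theorem exists_split : ∃ n : RG K m, SplitRankOne (BR K m) (UR K m) (HR K m) n := split_G2 hK

/-- the representative of the non-trivial double coset -/
noncomputable def nEl : RG K m := (exists_split hK).choose

theorem split : SplitRankOne (BR K m) (UR K m) (HR K m) (nEl hK) := (exists_split hK).choose_spec

theorem UR_inf_HR {g : RG K m} (hu : g ∈ UR K m) (hh : g ∈ HR K m) : g = 1 := by
  rw [UR, Subgroup.mem_subgroupOf, U1G2, Subgroup.mem_inf, posUnipotent_eq certG2 K] at hu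
  rw [HR, Subgroup.mem_subgroupOf, H1G2, Subgroup.mem_inf, diagonalSubgroup_eq certG2 K] at hh
  obtain ⟨⟨x, hx, ex⟩, -⟩ := hu
  obtain ⟨⟨y, hy, ey⟩, -⟩ := hh
  have exy : x = y := Subtype.ext (ex.trans ey.symm)
  have : x ∈ (chevRel certG2 K).UP ⊓ (chevRel certG2 K).HS := Subgroup.mem_inf.2 ⟨hx, exy ▸ hy⟩
  rw [(chevRel certG2 K).UP_inf_HS, Subgroup.mem_bot] at this
  refine Subtype.ext ?_
  rw [← ex, this]
  rfl

theorem HR_comm {a b : RG K m} (ha : a ∈ HR K m) (hb : b ∈ HR K m) : a * b = b * a := by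
  obtain ⟨c, rfl⟩ := (mem_HR_iff hK _).1 ha
  obtain ⟨d, rfl⟩ := (mem_HR_iff hK _).1 hb
  rw [← map_mul, mul_comm, map_mul]

theorem BR_unique {u u' h h' : RG K m} (hu : u ∈ UR K m) (hu' : u' ∈ UR K m) (hh : h ∈ HR K m) (hh' : h' ∈ HR K m)
    (e : u * h = u' * h') : u = u' ∧ h = h' := by
  have h1 : u'⁻¹ * u = h' * h⁻¹ := by rw [eq_mul_inv_iff_mul_eq, mul_assoc, e, inv_mul_cancel_left]
  have h2 := UR_inf_HR hK (mul_mem (inv_mem hu') hu) (h1 ▸ mul_mem hh' (inv_mem hh))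
  rw [inv_mul_eq_one] at h2
  subst h2
  exact ⟨rfl, mul_left_cancel e⟩

theorem cover_unique {u u' b b' : RG K m} (hu : u ∈ UR K m) (hu' : u' ∈ UR K m) (hb : b ∈ BR K m)
    (hb' : b' ∈ BR K m) (e : u * nEl hK * b = u' * nEl hK * b') : u = u' ∧ b = b' := by
  have h2 := (split hK).coset_inj hu hu' (QuotientGroup.eq.2 (by
    have : (u * nEl hK)⁻¹ * (u' * nEl hK) = b * b'⁻¹ := by
      rw [inv_mul_eq_iff_eq_mul, ← mul_assoc, e, mul_inv_cancel_right]
    rw [this]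
    exact mul_mem hb (inv_mem hb')))
  subst h2
  exact ⟨rfl, mul_left_cancel e⟩

theorem nEl_not_mem : nEl hK ∉ BR K m :=
  (split hK).not_mem (uEl m 0 0 1) (uEl_mem hK _ _ _) fun h => one_ne_zero (uEl_inj hK (h.trans (uEl_zero hK).symm)).2.2

/-- an element of the torus commuting with an element of the unipotent part -/
theorem hEl_commute_iff (c : Kˣ) (t u v : K) : hEl hK c * uEl m t u v = uEl m t u v * hEl hK c ↔
    (t ≠ 0 → (c : K) = 1) ∧ (u ≠ 0 → (c : K) = 1 ∨ (c : K) = -1) ∧ (v ≠ 0 → (c : K) = 1) := by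
  have hC : (c : K) ≠ 0 := c.ne_zero
  have hQ : ((c : K) ^ 3 ^ m) ^ (3 : ℕ) ≠ 0 := pow_ne_zero _ (pow_ne_zero _ hC)
  rw [← mul_inv_eq_iff_eq_mul, hEl_conj_uEl hK]
  constructor
  · intro h
    obtain ⟨et, eu, ev⟩ := uEl_inj hK h
    refine ⟨fun ht => ?_, fun hu => ?_, fun hv => (mul_eq_right₀ hv).1 ev⟩
    · have e1 := (mul_inv_eq_one₀ hQ).1 ((mul_eq_right₀ ht).1 et)
      have e2 := pow_twG2' hK (c : K)
      rw [← e1, pow_right_comm] at e2
      have e3 : (c : K) ^ (3 : ℕ) = (c : K) ^ (4 : ℕ) := by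
        conv_lhs => rw [← e2]
        rw [pow_right_comm _ 2 3, ← e1]
        ring
      exact mul_left_cancel₀ (pow_ne_zero 3 hC) (by rw [mul_one, ← pow_succ]; exact e3.symm)
    · have e1 := (mul_inv_eq_one₀ hC).1 ((mul_eq_right₀ hu).1 eu)
      have e2 := pow_twG2' hK (c : K)
      rw [e1] at e2
      rw [e2] at e1
      exact sq_eq_one_iff.1 (mul_left_cancel₀ hC (by rw [mul_one]; linear_combination e1))
  · rintro ⟨h1, h2, h3⟩
    congr 1
    · by_cases ht : t = 0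
      · rw [ht, mul_zero]
      · simp [h1 ht]
    · by_cases hu : u = 0
      · rw [hu, mul_zero]
      · rcases h2 hu with e | e <;> simp [e, neg_powG2, neg_cubeG2]
    · by_cases hv : v = 0
      · rw [hv, mul_zero]
      · simp [h3 hv]

theorem neg_one_ne : (-1 : K) ≠ 1 := fun e =>
  one_ne_zero (α := K) (by linear_combination three_eq_zero_G2 hK + e)

theorem jEl_mul_self : jEl hK * jEl hK = 1 := by
  rw [jEl, ← map_mul, neg_one_mul, neg_neg, map_one]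

theorem jEl_ne_one : jEl hK ≠ 1 := fun h => neg_one_ne hK (by
  simpa using congrArg Units.val (hEl_injective hK (h.trans (map_one _).symm)))

theorem eq_jEl {h : RG K m} (hh : h ∈ HR K m) (h1 : h ≠ 1) (h2 : h * h = 1) : h = jEl hK := by
  obtain ⟨c, rfl⟩ := (mem_HR_iff hK _).1 hh
  rw [← map_mul, ← map_one (hEl hK)] at h2
  have h3 := congrArg Units.val (hEl_injective hK h2)
  rw [Units.val_mul, Units.val_one] at h3
  rcases mul_self_eq_one_iff.1 h3 with e | e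
  · exact absurd (by rw [show c = 1 from Units.ext e, map_one]) h1
  · rw [jEl, show c = -1 from Units.ext (by rw [e, Units.val_neg, Units.val_one])]

theorem nEl_commute_jEl : nEl hK * jEl hK = jEl hK * nEl hK := by
  have h1 := (split hK).conj_H _ (hEl_mem hK (-1))
  have e : (nEl hK)⁻¹ * jEl hK * nEl hK = jEl hK := by
    refine eq_jEl hK h1 (fun h => jEl_ne_one hK ?_) ?_
    · calc jEl hK = nEl hK * ((nEl hK)⁻¹ * jEl hK * nEl hK) * (nEl hK)⁻¹ := by group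
        _ = 1 := by rw [h]; group
    · calc _ = (nEl hK)⁻¹ * (jEl hK * jEl hK) * nEl hK := by group
        _ = 1 := by rw [jEl_mul_self]; group
  calc nEl hK * jEl hK = nEl hK * ((nEl hK)⁻¹ * jEl hK * nEl hK) := by rw [e]
    _ = _ := by group

theorem jEl_commute_uEl_iff (t u v : K) :
    jEl hK * uEl m t u v = uEl m t u v * jEl hK ↔ t = 0 ∧ v = 0 := by
  rw [jEl, hEl_commute_iff hK, Units.val_neg, Units.val_one]
  refine ⟨fun ⟨h1, _, h3⟩ => ⟨?_, ?_⟩, fun ⟨h1, h3⟩ => ⟨fun h => absurd h1 h, fun _ => Or.inr rfl,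
    fun h => absurd h3 h⟩⟩
  · by_contra h; exact neg_one_ne hK (h1 h)
  · by_contra h; exact neg_one_ne hK (h3 h)

theorem mem_centralizer_jEl_iff (g : RG K m) : g ∈ Subgroup.centralizer {jEl hK} ↔
    (∃ u c, g = uEl m 0 u 0 * hEl hK c) ∨ ∃ u u' c, g = uEl m 0 u 0 * nEl hK * (uEl m 0 u' 0 * hEl hK c) := by
  rw [Subgroup.mem_centralizer_singleton_iff]
  have hjH : jEl hK ∈ HR K m := hEl_mem hK _
  have hcu : ∀ u, jEl hK * uEl m 0 u 0 = uEl m 0 u 0 * jEl hK := fun u =>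
    (jEl_commute_uEl_iff hK 0 u 0).2 ⟨rfl, rfl⟩
  have hch : ∀ c, jEl hK * hEl hK c = hEl hK c * jEl hK := fun c => HR_comm hK hjH (hEl_mem hK c)
  have hcb : ∀ b ∈ BR K m, b * jEl hK = jEl hK * b → ∃ u c, b = uEl m 0 u 0 * hEl hK c := by
    intro b hb h
    obtain ⟨x, hx, y, hy, rfl⟩ := (split hK).factor b hb
    obtain ⟨c, rfl⟩ := (mem_HR_iff hK _).1 hy
    have e : jEl hK * x * (jEl hK)⁻¹ * (hEl hK c * jEl hK) = x * (hEl hK c * jEl hK) := by
      calc jEl hK * x * (jEl hK)⁻¹ * (hEl hK c * jEl hK) = jEl hK * x * (jEl hK)⁻¹ * (jEl hK * hEl hK c) := by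
            rw [hch c]
        _ = jEl hK * (x * hEl hK c) := by group
        _ = x * hEl hK c * jEl hK := h.symm
        _ = x * (hEl hK c * jEl hK) := mul_assoc _ _ _
    obtain ⟨t, u, v, rfl⟩ := (mem_UR_iff hK _).1 hx
    obtain ⟨rfl, rfl⟩ := (jEl_commute_uEl_iff hK t u v).1 (mul_inv_eq_iff_eq_mul.1 (mul_right_cancel e))
    exact ⟨u, c, rfl⟩
  constructor
  · intro h
    by_cases hg : g ∈ BR K m
    · exact Or.inl (hcb g hg h)
    · right
      obtain ⟨x, hx, b, hb, rfl⟩ := (split hK).cover g hg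
      have e : jEl hK * x * (jEl hK)⁻¹ * nEl hK * (jEl hK * b * (jEl hK)⁻¹) = x * nEl hK * b := by
        calc _ = jEl hK * x * (jEl hK)⁻¹ * (nEl hK * jEl hK) * b * (jEl hK)⁻¹ := by group
          _ = jEl hK * (x * nEl hK * b) * (jEl hK)⁻¹ := by rw [nEl_commute_jEl hK]; group
          _ = _ := by rw [← h]; group
      have hjB := (split hK).H_le hjH
      obtain ⟨e1, e2⟩ := cover_unique hK ((split hK).conj_U _ hjH _ hx) hx
        (mul_mem (mul_mem hjB hb) (inv_mem hjB)) hb e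
      obtain ⟨u', c, rfl⟩ := hcb b hb (mul_inv_eq_iff_eq_mul.1 e2).symm
      obtain ⟨t, u, v, rfl⟩ := (mem_UR_iff hK _).1 hx
      obtain ⟨rfl, rfl⟩ := (jEl_commute_uEl_iff hK t u v).1 (mul_inv_eq_iff_eq_mul.1 e1)
      exact ⟨u, u', c, rfl⟩
  · have c1 : ∀ u c, uEl m 0 u 0 * hEl hK c * jEl hK = jEl hK * (uEl m 0 u 0 * hEl hK c) := fun u c => by
      rw [mul_assoc, ← hch, ← mul_assoc, ← hcu, mul_assoc]
    rintro (⟨u, c, rfl⟩ | ⟨u, u', c, rfl⟩)
    · exact c1 u c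
    · rw [mul_assoc, c1 u' c, mul_assoc (uEl m 0 u 0), ← mul_assoc (nEl hK), nEl_commute_jEl hK,
        mul_assoc (jEl hK), ← mul_assoc (uEl m 0 u 0), ← hcu]
      group

theorem card_centralizer_jEl : Nat.card ↥(Subgroup.centralizer {jEl hK}) =
    3 ^ (2 * m + 1) * (3 ^ (2 * m + 1) - 1) * (3 ^ (2 * m + 1) + 1) := by
  classical
  let f : (K × Kˣ) ⊕ (K × K × Kˣ) → ↥(Subgroup.centralizer {jEl hK}) := Sum.elim
    (fun x => ⟨uEl m 0 x.1 0 * hEl hK x.2, (mem_centralizer_jEl_iff hK _).2 (Or.inl ⟨_, _, rfl⟩)⟩)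
    (fun x => ⟨uEl m 0 x.1 0 * nEl hK * (uEl m 0 x.2.1 0 * hEl hK x.2.2),
      (mem_centralizer_jEl_iff hK _).2 (Or.inr ⟨_, _, _, rfl⟩)⟩)
  have hB : ∀ u c, uEl m 0 u 0 * hEl hK c ∈ BR K m := fun u c =>
    mul_mem ((split hK).U_le (uEl_mem hK _ _ _)) ((split hK).H_le (hEl_mem hK _))
  have hne : ∀ u u' c u'' c', uEl m 0 u 0 * hEl hK c ≠ uEl m 0 u' 0 * nEl hK * (uEl m 0 u'' 0 * hEl hK c') := by
    intro u u' c u'' c' h
    refine nEl_not_mem hK ?_
    have : nEl hK = (uEl m 0 u' 0)⁻¹ * (uEl m 0 u 0 * hEl hK c) * (uEl m 0 u'' 0 * hEl hK c')⁻¹ := by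
      rw [h]; group
    rw [this]
    exact mul_mem (mul_mem (inv_mem ((split hK).U_le (uEl_mem hK _ _ _))) (hB _ _)) (inv_mem (hB _ _))
  have hinj : ∀ u c u' c', uEl m 0 u 0 * hEl hK c = uEl m 0 u' 0 * hEl hK c' → u = u' ∧ c = c' := fun u c u' c' h => by
    obtain ⟨h1, h2⟩ := BR_unique hK (uEl_mem hK _ _ _) (uEl_mem hK _ _ _) (hEl_mem hK _) (hEl_mem hK _) h
    exact ⟨(uEl_inj hK h1).2.1, hEl_injective hK h2⟩
  have hf : Function.Bijective f := by
    refine ⟨?_, fun g => ?_⟩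
    · rintro (⟨u, c⟩ | ⟨u, u', c⟩) (⟨v, d⟩ | ⟨v, v', d⟩) e <;>
        have e' := congrArg Subtype.val e <;> simp only [f, Sum.elim_inl, Sum.elim_inr] at e'
      · obtain ⟨rfl, rfl⟩ := hinj _ _ _ _ e'; rfl
      · exact absurd e' (hne _ _ _ _ _)
      · exact absurd e'.symm (hne _ _ _ _ _)
      · obtain ⟨h1, h2⟩ := cover_unique hK (uEl_mem hK _ _ _) (uEl_mem hK _ _ _) (hB _ _) (hB _ _) e'
        obtain ⟨rfl, rfl⟩ := hinj _ _ _ _ h2
        obtain rfl := (uEl_inj hK h1).2.1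
        rfl
    · rcases (mem_centralizer_jEl_iff hK _).1 g.2 with ⟨u, c, e⟩ | ⟨u, u', c, e⟩
      · exact ⟨Sum.inl (u, c), Subtype.ext e.symm⟩
      · exact ⟨Sum.inr (u, u', c), Subtype.ext e.symm⟩
  rw [← Nat.card_eq_of_bijective f hf, Nat.card_sum, Nat.card_prod, Nat.card_prod, Nat.card_prod, Nat.card_units,
    Nat.card_eq_fintype_card, hK]
  ring

end CfsgLib.Lie.Ree
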