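/-
The seven-dimensional representation of the small Ree groups on the short part of the adjoint module.
-/
import Cfsg.Agent.Lib.Lie.Twisted.Ree.Basic
import Cfsg.Agent.Lib.Lie.Twisted.G2Perfect

set_option autoImplicit false

namespace CfsgLib.Lie.Ree

open Cfsg.Lie CfsgLib.Lie CfsgLib.Lie.Chev CfsgLib.Lie.Chev.TwGroups

/-- roots outside the short part -/
def isLongIdx (u : ℕ) : Bool := [0, 1, 5, 6, 10, 11].contains u

/-- the short part of the basis -/
def shortSum : Fin 7 → chevG2.Idx
  | 0 => Sum.inl ⟨0, by decide⟩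
  | 1 => Sum.inr ⟨2, by decide⟩
  | 2 => Sum.inr ⟨3, by decide⟩
  | 3 => Sum.inr ⟨4, by decide⟩
  | 4 => Sum.inr ⟨7, by decide⟩
  | 5 => Sum.inr ⟨8, by decide⟩
  | 6 => Sum.inr ⟨9, by decide⟩

/-- membership in the short part -/
def inShort : chevG2.Idx → Bool
  | Sum.inl i => Nat.beq i.val 0
  | Sum.inr u => !isLongIdx u.val

theorem inShort_iff : ∀ a : chevG2.Idx, inShort a = true ↔ ∃ i, shortSum i = a := by decide +kernel

theorem shortSum_injective : Function.Injective shortSum := by decide +kernel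

theorem chkShort : ∀ r : Fin chevG2.nroots,
    (isLongIdx r.val = true → (chevG2.cartanSR.getD 0 #[]).getD r.val 0 % 3 = 0) ∧
    (∀ s : Fin chevG2.nroots, isLongIdx s.val = false → s.val = chevG2.negIdx.getD r.val 0 →
      isLongIdx r.val = false ∧ (chevG2.coroot.getD r.val #[]).getD 1 0 % 3 = 0) ∧
    ∀ s u : Fin chevG2.nroots, isLongIdx s.val = false → isLongIdx u.val = true →
      (chevG2.chainCoeff r.val s.val u.val).all (fun km => decide (km.2 % 3 = 0)) = true := by decide +kernel

theorem chkWitness :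
    (∀ u : Fin chevG2.nroots, chevG2.chainCoeff 11 4 u.val = []) ∧ chevG2.chainCoeff 9 4 8 = [(1, 2)] ∧
      4 ≠ chevG2.negIdx.getD 11 0 ∧ 4 ≠ chevG2.negIdx.getD 9 0 ∧ shortSum 5 = Sum.inr ⟨8, by decide⟩ ∧
      shortSum 3 = Sum.inr ⟨4, by decide⟩ := by decide +kernel

variable {K : Type*} [Field K]

/-- matrices preserving the short part -/
def Keeps (M : Matrix chevG2.Idx chevG2.Idx K) : Prop :=
  ∀ a b : chevG2.Idx, inShort a = false → inShort b = true → M a b = 0

theorem Keeps.mul {M N : Matrix chevG2.Idx chevG2.Idx K} (hM : Keeps M) (hN : Keeps N) : Keeps (M * N) := by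
  intro a b ha hb
  rw [Matrix.mul_apply]
  refine Finset.sum_eq_zero fun c _ => ?_
  cases hc : inShort c
  · rw [hN c b hc hb, mul_zero]
  · rw [hM a c ha hc, zero_mul]

theorem keeps_xMat (h3 : (3 : K) = 0) (r : Fin chevG2.nroots) (t : K) : Keeps (chevG2.xMat K r t) := by
  have hcast : ∀ z : ℤ, z % 3 = 0 → (z : K) = 0 := fun z hz => by
    obtain ⟨k, rfl⟩ := Int.dvd_of_emod_eq_zero hz
    rw [Int.cast_mul, Int.cast_ofNat, h3, zero_mul]
  obtain ⟨c1, c2, c3⟩ := chkShort r
  intro a b ha hb
  rcases b with i | s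
  · have hi : i.val = 0 := by simpa [inShort, nat_beq_iff] using hb
    rcases a with i' | u
    · have hne : i' ≠ i := fun e => by rw [e] at ha; simp [inShort, hi] at ha
      simp [ChevalleyDatum.xMat, hne]
    · have hu : isLongIdx u.val = true := by simpa [inShort] using ha
      simp only [ChevalleyDatum.xMat, Matrix.of_apply]
      split_ifs with h
      · subst h
        rw [hi, hcast _ (c1 hu), neg_zero, zero_mul]
      · rfl
  · have hs : isLongIdx s.val = false := by simpa [inShort] using hb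
    rcases a with i' | u
    · have hi' : i'.val = 1 := by
        have h2 : i'.val < 2 := i'.2
        have h0 : i'.val ≠ 0 := by simpa [inShort, ← Bool.not_eq_true, nat_beq_iff] using ha
        omega
      simp only [ChevalleyDatum.xMat, Matrix.of_apply]
      split_ifs with h h'
      · rfl
      · rw [hi', hcast _ (c2 s hs h').2, zero_mul]
      · rfl
    · have hu : isLongIdx u.val = true := by simpa [inShort] using ha
      have hus : u ≠ s := fun e => by rw [e, hs] at hu; exact Bool.noConfusion hu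
      simp only [ChevalleyDatum.xMat, Matrix.of_apply]
      split_ifs with h h1 h'
      · rw [h1, ← h, hs] at hu; exact Bool.noConfusion hu
      · rfl
      all_goals first
        | rfl
        | (rename_i h2; rw [h2, (c2 s hs h').1] at hu; exact Bool.noConfusion hu)
        | skip
      rw [zero_add]
      refine List.sum_eq_zero fun x hx => ?_
      obtain ⟨km, hkm, rfl⟩ := List.mem_map.1 hx
      have := c3 s u hs hu
      simp only [List.all_eq_true, decide_eq_true_eq] at this
      rw [hcast _ (this km hkm), zero_mul]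

variable [Fintype K] {m : ℕ} (hK : Fintype.card K = 3 ^ (2 * m + 1))
include hK

theorem keeps_group {g : GL chevG2.Idx K} (hg : g ∈ chevG2.group K) :
    Keeps (g : Matrix chevG2.Idx chevG2.Idx K) ∧ Keeps ((g⁻¹ : GL chevG2.Idx K) : Matrix chevG2.Idx chevG2.Idx K) := by
  have h3 := three_eq_zero_G2 hK
  refine Subgroup.closure_induction (p := fun (x : GL chevG2.Idx K) _ => Keeps (x : Matrix chevG2.Idx chevG2.Idx K) ∧
    Keeps ((x⁻¹ : GL chevG2.Idx K) : Matrix chevG2.Idx chevG2.Idx K)) ?_ ?_ ?_ ?_ hg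
  · rintro x ⟨r, t, e⟩
    refine ⟨e ▸ keeps_xMat h3 r t, ?_⟩
    have hx : ∀ s : K, ((xG certG2 K r.val s : GL chevG2.Idx K) : Matrix chevG2.Idx chevG2.Idx K) = chevG2.xMat K r s :=
      fun s => by rw [xG_val, ChevalleyDatum.x, dif_pos r.2]
    have ex : x = (xG certG2 K r.val t : GL chevG2.Idx K) := Units.ext (e.trans (hx t).symm)
    have hn : (xG certG2 K r.val t)⁻¹ = xG certG2 K r.val (-t) := ((chevRel certG2 K).xe_neg r.val t).symm
    rw [ex, ← Subgroup.coe_inv, hn, hx]
    exact keeps_xMat h3 r (-t)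
  · have h1 : Keeps (1 : Matrix chevG2.Idx chevG2.Idx K) := fun a b ha hb =>
      Matrix.one_apply_ne fun e => by rw [e, hb] at ha; exact Bool.noConfusion ha
    exact ⟨h1, by rw [inv_one]; exact h1⟩
  · rintro x y - - ⟨a1, a2⟩ ⟨b1, b2⟩
    exact ⟨a1.mul b1, by rw [mul_inv_rev]; exact b2.mul a2⟩
  · rintro x - ⟨a1, a2⟩
    exact ⟨a2, by rw [inv_inv]; exact a1⟩

theorem shortPart_mul {M N : Matrix chevG2.Idx chevG2.Idx K} (hN : Keeps N) :
    (M * N).submatrix shortSum shortSum = M.submatrix shortSum shortSum * N.submatrix shortSum shortSum := by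
  classical
  ext i k
  rw [Matrix.submatrix_apply, Matrix.mul_apply, Matrix.mul_apply]
  simp only [Matrix.submatrix_apply]
  refine (Finset.sum_subset (Finset.subset_univ ((Finset.univ : Finset (Fin 7)).map ⟨shortSum, shortSum_injective⟩))
    fun c _ hc => ?_).symm.trans (Finset.sum_map _ _ _)
  have : inShort c = false := by
    rw [← Bool.not_eq_true, inShort_iff]
    rintro ⟨j, rfl⟩
    exact hc (Finset.mem_map.2 ⟨j, Finset.mem_univ _, rfl⟩)
  rw [hN c _ this ((inShort_iff _).2 ⟨k, rfl⟩), mul_zero]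

omit hK in
/-- the seven-dimensional representation, as matrices -/
noncomputable def rhoM (hK : Fintype.card K = 3 ^ (2 * m + 1)) : RG K m →* Matrix (Fin 7) (Fin 7) K where
  toFun g := ((g : GL chevG2.Idx K) : Matrix chevG2.Idx chevG2.Idx K).submatrix shortSum shortSum
  map_one' := by
    rw [Subgroup.coe_one, Units.val_one]
    exact Matrix.submatrix_one _ shortSum_injective
  map_mul' a b := by
    rw [Subgroup.coe_mul, Units.val_mul]
    exact shortPart_mul hK (keeps_group hK (twG2_le b.2)).1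

/-- the seven-dimensional representation -/
noncomputable def rho : RG K m →* GL (Fin 7) K := (rhoM hK).toHomUnits

theorem rho_val (g : RG K m) : ((rho hK g : GL (Fin 7) K) : Matrix (Fin 7) (Fin 7) K) = rhoM hK g := rfl

theorem simple_RG (hm : 1 ≤ m) : IsSimpleGroup (RG K m) :=
  (twisted_simple certG2 twG2_le (twG2 hK) (twG2_P1 hK) (faithfulG2 hK) connG2 (perfectG2 hK hm)).1

theorem rho_uEl_ne : rho hK (uEl m (0 : K) 0 1) ≠ 1 := by
  intro h
  obtain ⟨w1, w2, w3, w4, w5, w6⟩ := chkWitness
  have hm8 : (8 : ℕ) < chevG2.nroots := by decide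
  have hm4 : (4 : ℕ) < chevG2.nroots := by decide
  have h0 : (0 : K) ^ 3 ^ m = 0 := zero_pow (pow_ne_zero _ (by norm_num))
  have e : ((uEl m (0 : K) 0 1 : RG K m) : GL chevG2.Idx K) =
      ((xG certG2 K 9 1 * xG certG2 K 11 1 : ↥(chevG2.group K)) : GL chevG2.Idx K) := by
    rw [uEl_val]
    simp only [xU, xRee, h0, mul_zero, zero_add, one_mul, one_pow, zero_pow two_ne_zero,
      show ∀ r, xG certG2 K r (0 : K) = 1 from fun r => (chevRel certG2 K).xe_zero r, mul_one]
  have h1 := congrFun (congrFun (congrArg (fun z : GL (Fin 7) K => (z : Matrix (Fin 7) (Fin 7) K)) h) 5) 3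
  rw [rho_val, Units.val_one, Matrix.one_apply_ne (by decide)] at h1
  change ((uEl m (0 : K) 0 1 : RG K m) : GL chevG2.Idx K).val (shortSum 5) (shortSum 3) = 0 at h1
  rw [e, Subgroup.coe_mul, Units.val_mul, Matrix.mul_apply, w5, w6, Finset.sum_eq_single (Sum.inr ⟨4, hm4⟩)] at h1
  · rw [xG_val, xG_val, ChevalleyDatum.x, dif_pos (by decide), ChevalleyDatum.x, dif_pos (by decide)] at h1
    simp [ChevalleyDatum.xMat, Fin.ext_iff, w3, w4, w1 ⟨4, hm4⟩, w2] at h1
    have h2 : (2 : K) = 0 := h1 (by simpa using w4)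
    exact one_ne_zero (α := K) (by linear_combination three_eq_zero_G2 hK - h2)
  · intro c _ hc
    have w3' : ¬ 4 = chevG2.negIdx[11]?.getD 0 := by simpa using w3
    rw [xG_val certG2 K 11, ChevalleyDatum.x, dif_pos (by decide)]
    rcases c with i | u
    · simp [ChevalleyDatum.xMat, Fin.ext_iff, w3']
    · have : u.val ≠ 4 := fun e => hc (congrArg Sum.inr (Fin.ext e))
      simp [ChevalleyDatum.xMat, Fin.ext_iff, w3', w1 u, this]
  · intro h'; exact absurd (Finset.mem_univ _) h'

theorem rho_injective (hm : 1 ≤ m) : Function.Injective (rho hK) := by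
  have := simple_RG hK hm
  rcases Subgroup.Normal.eq_bot_or_eq_top (MonoidHom.normal_ker (rho hK)) with h | h
  · exact (MonoidHom.ker_eq_bot_iff _).1 h
  · exact absurd (MonoidHom.mem_ker.1 (h.symm ▸ Subgroup.mem_top _)) (rho_uEl_ne hK)

end CfsgLib.Lie.Ree
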