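/-
The two-dimensional special linear group inside the centraliser of an involution of a small Ree group.
-/
import Cfsg.Agent.Lib.Lie.Twisted.Ree.Basic
import Cfsg.Agent.Lib.Lie.Rel.SL2
import Mathlib.LinearAlgebra.Matrix.ProjectiveSpecialLinearGroup

set_option autoImplicit false

namespace CfsgLib.Lie.Ree

open Cfsg.Lie CfsgLib.Lie CfsgLib.Lie.Chev CfsgLib.Lie.Chev.TwGroups
open scoped MatrixGroups

variable {K : Type*} [Field K]

/-- upper unitriangular matrices -/
def slU (t : K) : SL(2, K) := ⟨!![1, t; 0, 1], by simp [Matrix.det_fin_two]⟩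

/-- lower unitriangular matrices -/
def slL (t : K) : SL(2, K) := ⟨!![1, 0; t, 1], by simp [Matrix.det_fin_two]⟩

/-- diagonal matrices -/
def slD (a : Kˣ) : SL(2, K) := ⟨!![(a : K), 0; 0, ((a⁻¹ : Kˣ) : K)], by simp [Matrix.det_fin_two]⟩

theorem slU_val (t : K) : (slU t).1 = !![1, t; 0, 1] := rfl

theorem slL_val (t : K) : (slL t).1 = !![1, 0; t, 1] := rfl

theorem slD_val (a : Kˣ) : (slD a).1 = !![(a : K), 0; 0, ((a⁻¹ : Kˣ) : K)] := rfl

theorem sl_map_val {L : Type*} [Field L] (f : K →+* L) (g : SL(2, K)) :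
    (Matrix.SpecialLinearGroup.map f g).1 = g.1.map f := rfl

theorem sl_decomp (g : SL(2, K)) (hc : g.1 1 0 ≠ 0) :
    g = slU ((g.1 0 0 - 1) / g.1 1 0) * slL (g.1 1 0) * slU ((g.1 1 1 - 1) / g.1 1 0) := by
  have hdet : g.1 0 0 * g.1 1 1 - g.1 0 1 * g.1 1 0 = 1 := by rw [← Matrix.det_fin_two]; exact g.2
  apply Subtype.ext
  ext i j
  fin_cases i <;> fin_cases j <;> simp [slU_val, slL_val, Matrix.SpecialLinearGroup.coe_mul, Matrix.mul_apply, Fin.sum_univ_two] <;> field_simp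
  · ring
  · linear_combination -hdet
  · ring

theorem sl_decomp_zero (g : SL(2, K)) (hc : g.1 1 0 = 0) :
    ∃ a : Kˣ, (a : K) = g.1 0 0 ∧ g = slD a * slU (g.1 0 1 / g.1 0 0) := by
  have hdet : g.1 0 0 * g.1 1 1 - g.1 0 1 * g.1 1 0 = 1 := by rw [← Matrix.det_fin_two]; exact g.2
  rw [hc, mul_zero, sub_zero] at hdet
  have ha : g.1 0 0 ≠ 0 := fun h => by rw [h, zero_mul] at hdet; exact zero_ne_one hdet
  refine ⟨Units.mk0 _ ha, rfl, ?_⟩
  apply Subtype.ext
  ext i j
  fin_cases i <;> fin_cases j <;> simp [slU_val, slD_val, Matrix.SpecialLinearGroup.coe_mul, Matrix.mul_apply, Fin.sum_univ_two, hc]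
  · field_simp
  · exact (eq_inv_of_mul_eq_one_right hdet)

variable [Fintype K] {m : ℕ} (hK : Fintype.card K = 3 ^ (2 * m + 1))

/-- the root of the short pair -/
def r8 : Fin chevG2.nroots := ⟨8, by decide⟩

/-- the root of the long pair -/
def r10 : Fin chevG2.nroots := ⟨10, by decide⟩

include hK in
theorem phi_commute (g h : SL(2, K)) :
    Commute (((chevRel certG2 K).slHom r8).comp (Matrix.SpecialLinearGroup.map (frG2 hK)) g)
      ((chevRel certG2 K).slHom r10 h) := by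
  obtain ⟨⟨-, -, n8, n10⟩, ⟨c1, c2, c3, c4⟩, -⟩ := heRootsG2
  have key : ∀ x ∈ ((chevRel certG2 K).slHom r8).range, ∀ y ∈ ((chevRel certG2 K).slHom r10).range, Commute x y := by
    rw [(chevRel certG2 K).slHom_range, (chevRel certG2 K).slHom_range]
    intro x hx y hy
    rw [← Subgroup.closure_union] at hx hy
    refine Subgroup.closure_induction (p := fun x _ => Commute x y) (fun x hx => ?_) (Commute.one_left _)
      (fun a b _ _ ha hb => ha.mul_left hb) (fun a _ ha => ha.inv_left) hx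
    refine Subgroup.closure_induction (p := fun y _ => Commute x y) (fun y hy => ?_) (Commute.one_right _)
      (fun a b _ _ ha hb => ha.mul_right hb) (fun a _ ha => ha.inv_right) hy
    rcases hx with ⟨t, rfl⟩ | ⟨t, rfl⟩ <;> rcases hy with ⟨u, rfl⟩ | ⟨u, rfl⟩
    · exact xG_commute certG2 c1 t u
    · exact xG_commute certG2 c2 t u
    · exact xG_commute certG2 c3 t u
    · exact xG_commute certG2 c4 t u
  exact key _ ⟨_, rfl⟩ _ ⟨_, rfl⟩

/-- the homomorphism into the ambient group -/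
noncomputable def phi0 : SL(2, K) →* ↥(chevG2.group K) where
  toFun g := ((chevRel certG2 K).slHom r8).comp (Matrix.SpecialLinearGroup.map (frG2 hK)) g *
    (chevRel certG2 K).slHom r10 g
  map_one' := by rw [map_one, map_one, mul_one]
  map_mul' a b := by rw [map_mul, map_mul, (phi_commute hK b a).mul_mul_mul_comm]

include hK

theorem phi0_upper (t : K) : phi0 hK (slU t) = xU m 0 t 0 := by
  have e : Matrix.SpecialLinearGroup.map (frG2 hK) (slU t) = Rel.slX (t ^ 3 ^ m) := by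
    apply Subtype.ext
    ext i j
    fin_cases i <;> fin_cases j <;> simp [sl_map_val, slU_val, Rel.slX_val, frG2_apply]
  show ((chevRel certG2 K).slHom r8) (Matrix.SpecialLinearGroup.map (frG2 hK) (slU t)) * (chevRel certG2 K).slMap r10 (Rel.slX t) = _
  rw [e]
  show (chevRel certG2 K).slMap r8 _ * _ = _
  rw [(chevRel certG2 K).slMap_slX, (chevRel certG2 K).slMap_slX]
  have h0 : (0 : K) ^ 3 ^ m = 0 := zero_pow (pow_ne_zero _ (by norm_num))
  simp only [xU, xRee, h0, mul_zero, zero_mul, zero_add, one_mul, zero_pow two_ne_zero,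
    show ∀ r, xG certG2 K r (0 : K) = 1 from fun r => (chevRel certG2 K).xe_zero r, mul_one]
  rfl

theorem phi0_lower (t : K) : phi0 hK (slL t) = xV m 0 (-t) 0 := by
  obtain ⟨⟨-, -, n8, n10⟩, -⟩ := heRootsG2
  have e : (Matrix.SpecialLinearGroup.map (frG2 hK) (slL t)).1 = !![1, 0; t ^ 3 ^ m, 1] := by
    ext i j
    fin_cases i <;> fin_cases j <;> simp [sl_map_val, slL_val, frG2_apply]
  show ((chevRel certG2 K).slHom r8) (Matrix.SpecialLinearGroup.map (frG2 hK) (slL t)) * (chevRel certG2 K).slHom r10 (slL t) = _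
  rw [(chevRel certG2 K).slHom_lower r8 _ _ e, (chevRel certG2 K).slHom_lower r10 t _ rfl]
  have h0 : (0 : K) ^ 3 ^ m = 0 := zero_pow (pow_ne_zero _ (by norm_num))
  simp only [xV, xRee, h0, mul_zero, zero_mul, zero_add, neg_one_mul, neg_powG2, neg_neg, neg_zero, zero_pow two_ne_zero,
    show ∀ r, xG certG2 K r (0 : K) = 1 from fun r => (chevRel certG2 K).xe_zero r, mul_one, one_mul]
  show xG certG2 K (chevG2.neg 8) _ * xG certG2 K (chevG2.neg 10) _ = _
  rw [n8, n10]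

theorem phi0_diag (a : Kˣ) : phi0 hK (slD a) = psiG2 K m (a ^ (3 * 3 ^ m + 1)) := by
  have e8 : (chevRel certG2 K).slHom r8 (Matrix.SpecialLinearGroup.map (frG2 hK) (slD a)) =
      (chevRel certG2 K).he 8 ((a : K) ^ 3 ^ m) := by
    show (chevRel certG2 K).slMap r8 _ = _
    simp [Rel.slMap, Rel.slEval, slD_val, sl_map_val, frG2_apply, (chevRel certG2 K).xe_zero, r8]
  have e10 : (chevRel certG2 K).slHom r10 (slD a) = (chevRel certG2 K).he 10 (a : K) := by
    show (chevRel certG2 K).slMap r10 _ = _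
    simp [Rel.slMap, Rel.slEval, slD_val, (chevRel certG2 K).xe_zero, r10]
  show (chevRel certG2 K).slHom r8 _ * (chevRel certG2 K).slHom r10 _ = _
  rw [e8, e10, he8_eq (pow_ne_zero _ a.ne_zero), he10_eq a.ne_zero]
  have hc : (chevRel certG2 K).he 6 (a : K) * (chevRel certG2 K).he 7 (a : K) =
      (chevRel certG2 K).he 7 (a : K) * (chevRel certG2 K).he 6 (a : K) := by
    obtain ⟨-, -, -, -, ⟨-, h7, h6⟩⟩ := heRootsG2
    exact (chevRel certG2 K).HS_isMulCommutative ((chevRel certG2 K).he_mem ⟨6, h6⟩ a.ne_zero)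
      ((chevRel certG2 K).he_mem ⟨7, h7⟩ a.ne_zero)
  rw [hc, ← Units.val_pow_eq_pow_val, ← Units.val_pow_eq_pow_val, ← tupG2_val, ← tupG2_val, ← map_mul, psiG2_apply]
  refine congrArg _ ?_
  have e0 : (a ^ (3 * 3 ^ m + 1)) ^ 3 ^ m = a ^ 3 ^ m * a := by
    refine Units.ext ?_
    simp only [pow_add, mul_pow, pow_one, Units.val_mul, Units.val_pow_eq_pow_val, mul_comm 3 (3 ^ m), pow_mul,
      pow_twG2' hK]
    ring
  funext i
  obtain ⟨i, hi⟩ := i
  have hi2 : i < 2 := hi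
  interval_cases i
  · simpa [tupG2] using e0.symm
  · simp [tupG2, pow_add, mul_comm 3 (3 ^ m), pow_mul]

theorem phi0_mem (g : SL(2, K)) : phi0 hK g ∈ (twistedG2 K (3 ^ m)).subgroupOf (chevG2.group K) := by
  have hU : ∀ t, phi0 hK (slU t) ∈ (twistedG2 K (3 ^ m)).subgroupOf (chevG2.group K) := fun t => by
    rw [phi0_upper hK]; exact xU_mem m _ _ _
  by_cases hc : g.1 1 0 = 0
  · obtain ⟨a, -, e⟩ := sl_decomp_zero g hc
    rw [e, map_mul]
    refine mul_mem ?_ (hU _)
    rw [phi0_diag hK, ← twG2_P1 hK]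
    exact psiG2_mem hK _
  · rw [sl_decomp g hc, map_mul, map_mul]
    refine mul_mem (mul_mem (hU _) ?_) (hU _)
    rw [phi0_lower hK]
    exact xV_mem m _ _ _

omit hK in
/-- the homomorphism into the small Ree group -/
noncomputable def phi : SL(2, K) →* RG K m :=
  (((chevG2.group K).subtype).comp (phi0 hK)).codRestrict (twistedG2 K (3 ^ m)) fun g =>
    Subgroup.mem_subgroupOf.1 (phi0_mem hK g)

theorem phi_upper (t : K) : phi hK (slU t) = uEl m 0 t 0 :=
  Subtype.ext (congrArg (fun g : ↥(chevG2.group K) => (g : GL chevG2.Idx K)) (phi0_upper hK t))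

theorem phi_diag (a : Kˣ) : phi hK (slD a) = hEl hK (a ^ (3 * 3 ^ m + 1)) :=
  Subtype.ext (congrArg (fun g : ↥(chevG2.group K) => (g : GL chevG2.Idx K)) (phi0_diag hK a))

theorem phi_lower_not_mem {t : K} (ht : t ≠ 0) : phi hK (slL t) ∉ BR K m := by
  intro h
  rw [BR, Subgroup.mem_subgroupOf, Subgroup.mem_inf, borelSubgroup_eq certG2 K] at h
  obtain ⟨⟨y, hy, e⟩, -⟩ := h
  have ey : y = phi0 hK (slL t) := Subtype.ext e
  subst ey
  rw [phi0_lower hK] at hy
  obtain ⟨-, -, -, -, ⟨-, -, -⟩⟩ := heRootsG2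
  have hN : xV m (0 : K) (-t) 0 ∈ (chevRel certG2 K).UN := by
    have hn : ∀ r ∈ [4, 5, 3, 2, 1, 0], r < half chevG2 := by decide +kernel
    have hx : ∀ r ∈ [4, 5, 3, 2, 1, 0], ∀ x : K, xG certG2 K r x ∈ (chevRel certG2 K).UN := fun r hr x =>
      xG_neg_mem certG2 (hn r hr) x
    exact mul_mem (hx 4 (by simp) _) (mul_mem (hx 5 (by simp) _) (mul_mem (hx 3 (by simp) _)
      (mul_mem (hx 2 (by simp) _) (mul_mem (hx 1 (by simp) _) (hx 0 (by simp) _)))))
  have h1 := (chevRel certG2 K).BS_inf_UN hy hN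
  obtain ⟨⟨-, -, -, n10⟩, -⟩ := heRootsG2
  obtain ⟨-, -, hm⟩ := termsG2
  have h0 : (0 : K) ^ 3 ^ m = 0 := zero_pow (pow_ne_zero _ (by norm_num))
  simp only [xV, xRee, h0, mul_zero, zero_mul, zero_add, neg_one_mul, neg_powG2, neg_neg, neg_zero, zero_pow two_ne_zero,
    show ∀ r, xG certG2 K r (0 : K) = 1 from fun r => (chevRel certG2 K).xe_zero r, mul_one, one_mul] at h1
  have h2 : xG certG2 K 3 (t ^ 3 ^ m) = xG certG2 K 1 (-t) := by
    rw [eq_inv_of_mul_eq_one_left h1]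
    exact ((chevRel certG2 K).xe_neg _ _).symm
  exact absurd (congrArg Fin.val ((chevRel certG2 K).xe_inj_root (r := ⟨3, hm 3 (by decide)⟩)
    (r' := ⟨1, hm 1 (by decide)⟩) (pow_ne_zero _ ht) h2)) (fun e => absurd (e : (3 : ℕ) = 1) (by norm_num))

omit hK in
theorem sq_exp (hK : Fintype.card K = 3 ^ (2 * m + 1)) (a : Kˣ) : ∃ n : ℕ, ∀ b : Kˣ, (b ^ n) ^ (3 * 3 ^ m + 1) = b ^ 2 ∧
    ((a ^ (3 * 3 ^ m + 1)) ^ n = a ^ 2) := by
  obtain ⟨n, hn⟩ : ∃ n, 3 * 3 ^ m = n + 1 := ⟨3 * 3 ^ m - 1, by have := Nat.pow_pos (n := m) three_pos; omega⟩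
  have key : ∀ z : Kˣ, (z ^ n) ^ (3 * 3 ^ m + 1) = z ^ 2 := by
    intro z
    have hz : (z ^ 3 ^ (2 * m + 1)) = z := by
      refine Units.ext ?_
      rw [Units.val_pow_eq_pow_val, ← hK]
      exact FiniteField.pow_card _
    have h1 : (z ^ n) ^ (3 * 3 ^ m + 1) * z = z ^ (3 * 3 ^ (2 * m + 1)) := by
      rw [← pow_mul, ← pow_succ, show 3 * 3 ^ (2 * m + 1) = (3 * 3 ^ m) * (3 * 3 ^ m) by ring, hn]
      congr 1
      ring
    rw [pow_mul' z 3, hz, pow_succ z 2] at h1
    exact mul_right_cancel h1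
  exact ⟨n, fun b => ⟨key b, by rw [pow_right_comm]; exact key a⟩⟩

theorem phi_ker {g : SL(2, K)} (hg : phi hK g = 1) :
    ∃ r : K, r ^ 2 = 1 ∧ g.1 = Matrix.scalar (Fin 2) r := by
  have low : ∀ h : SL(2, K), phi hK h = 1 → h.1 1 0 = 0 := by
    intro h hh
    by_contra hc
    refine phi_lower_not_mem hK hc ?_
    have e := congrArg (phi hK) (sl_decomp h hc)
    rw [hh, map_mul, map_mul, phi_upper hK, phi_upper hK] at e
    have e' : phi hK (slL (h.1 1 0)) = (uEl m 0 ((h.1 0 0 - 1) / h.1 1 0) 0)⁻¹ *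
        (uEl m 0 ((h.1 1 1 - 1) / h.1 1 0) 0)⁻¹ := by
      rw [eq_inv_mul_iff_mul_eq, eq_inv_iff_mul_eq_one, ← e]
    rw [e']
    exact mul_mem (inv_mem ((split hK).U_le (uEl_mem hK _ _ _))) (inv_mem ((split hK).U_le (uEl_mem hK _ _ _)))
  have hc := low g hg
  have conj : ∀ s : K, (slL s * g * slL (-s)).1 1 0 = 0 := fun s => low _ (by
    rw [map_mul, map_mul, hg, mul_one, ← map_mul,
      show slL s * slL (-s) = (1 : SL(2, K)) by
        apply Subtype.ext; ext i j; fin_cases i <;> fin_cases j <;> simp [slL_val, Matrix.mul_apply, Fin.sum_univ_two],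
      map_one])
  have hdet : g.1 0 0 * g.1 1 1 - g.1 0 1 * g.1 1 0 = 1 := by rw [← Matrix.det_fin_two]; exact g.2
  have h1 := conj 1
  have h2 := conj (-1)
  simp [slL_val, Matrix.SpecialLinearGroup.coe_mul, Matrix.mul_apply, Fin.sum_univ_two, Matrix.vecMul, dotProduct, hc] at h1 h2
  have h3 : (2 : K) ≠ 0 := fun e => neg_one_ne hK (by linear_combination -e)
  have hb : g.1 0 1 = 0 := (mul_eq_zero.1 (show (2 : K) * g.1 0 1 = 0 by linear_combination -h1 - h2)).resolve_left h3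
  have hd : g.1 1 1 = g.1 0 0 := by linear_combination -h1 - hb
  rw [hd, hc, mul_zero, sub_zero] at hdet
  refine ⟨g.1 0 0, by rw [sq]; exact hdet, ?_⟩
  ext i j
  fin_cases i <;> fin_cases j <;> simp [hb, hc, hd]

theorem phi_center {g : SL(2, K)} (hg : g ∈ Subgroup.center SL(2, K)) : phi hK g = 1 := by
  obtain ⟨r, hr, e⟩ := Matrix.SpecialLinearGroup.mem_center_iff.1 hg
  rw [Fintype.card_fin] at hr
  have h0 : r ≠ 0 := fun h => by rw [h] at hr; simp at hr
  have hg' : g = slD (Units.mk0 r h0) := by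
    apply Subtype.ext
    rw [← e]
    have hr' : r⁻¹ = r := inv_eq_of_mul_eq_one_right (by rw [← sq]; exact hr)
    ext i j
    fin_cases i <;> fin_cases j <;> simp [slD_val, hr']
  have hu : (Units.mk0 r h0) ^ 2 = 1 := Units.ext (by simpa using hr)
  rw [hg', phi_diag hK, show 3 * 3 ^ m + 1 = 2 * ((3 * 3 ^ m + 1) / 2) by
    have : Odd (3 * 3 ^ m) := by
      rw [← pow_succ']; exact Odd.pow (by decide)
    obtain ⟨k, hk⟩ := this
    omega, pow_mul, hu, one_pow, map_one]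

omit hK in
/-- the embedding of the projective group -/
noncomputable def psiP : Matrix.ProjectiveSpecialLinearGroup (Fin 2) K →* RG K m :=
  QuotientGroup.lift (Subgroup.center SL(2, K)) (phi hK) fun _ hg => phi_center hK hg

theorem psiP_mk (g : SL(2, K)) : psiP hK (QuotientGroup.mk g) = phi hK g := rfl

theorem psiP_injective : Function.Injective (psiP hK) := by
  rw [← MonoidHom.ker_eq_bot_iff, Subgroup.eq_bot_iff_forall]
  intro x hx
  obtain ⟨g, rfl⟩ := QuotientGroup.mk_surjective x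
  obtain ⟨r, hr, e⟩ := phi_ker hK (show phi hK g = 1 from MonoidHom.mem_ker.1 hx)
  exact (QuotientGroup.eq_one_iff g).2
    (Matrix.SpecialLinearGroup.mem_center_iff.2 ⟨r, by rw [Fintype.card_fin]; exact hr, e.symm⟩)

end CfsgLib.Lie.Ree
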