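/-
The centraliser of an involution and the Sylow 2-subgroups of a small Ree group.
-/
import Cfsg.Agent.Lib.Lie.Twisted.Ree.SL2
import Cfsg.Agent.Lib.Classical.SmallIso

set_option autoImplicit false

namespace CfsgLib.Lie.Ree

open Cfsg.Lie CfsgLib.Lie CfsgLib.Lie.Chev CfsgLib.Lie.Chev.TwGroups
open scoped MatrixGroups

theorem weightNegG2 : (chevG2.cartan 0 3 = 1 ∧ chevG2.cartan 1 3 = -1) ∧
    (chevG2.cartan 0 1 = -3 ∧ chevG2.cartan 1 1 = 1) := by decide +kernel

variable {K : Type*} [Field K] [Fintype K] {m : ℕ} (hK : Fintype.card K = 3 ^ (2 * m + 1))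
include hK

theorem q_mod_eight : 3 ^ (2 * m + 1) % 8 = 3 := by
  rw [pow_succ, pow_mul, Nat.mul_mod, Nat.pow_mod]
  norm_num

theorem phi_lower_commute (t : K) : jEl hK * phi hK (slL t) = phi hK (slL t) * jEl hK := by
  obtain ⟨⟨a1, a2⟩, ⟨b1, b2⟩⟩ := weightNegG2
  obtain ⟨-, -, hm⟩ := termsG2
  refine Subtype.ext ?_
  rw [Subgroup.coe_mul, Subgroup.coe_mul, jEl, hEl_val]
  show ((psiG2 K m (-1) : ↥(chevG2.group K)) : GL chevG2.Idx K) * ((phi0 hK (slL t) : ↥(chevG2.group K)) : GL chevG2.Idx K) =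
    ((phi0 hK (slL t) : ↥(chevG2.group K)) : GL chevG2.Idx K) * ((psiG2 K m (-1) : ↥(chevG2.group K)) : GL chevG2.Idx K)
  rw [← Subgroup.coe_mul, ← Subgroup.coe_mul]
  refine congrArg _ (mul_inv_eq_iff_eq_mul.1 ?_)
  have h0 : (0 : K) ^ 3 ^ m = 0 := zero_pow (pow_ne_zero _ (by norm_num))
  rw [phi0_lower hK]
  simp only [xV, xRee, h0, mul_zero, zero_add, neg_one_mul, neg_powG2, neg_neg, neg_zero,
    zero_pow two_ne_zero, show ∀ r, xG certG2 K r (0 : K) = 1 from fun r => (chevRel certG2 K).xe_zero r, mul_one,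
    one_mul]
  rw [psiG2_apply, ← conj_mul, torusG2_conj _ _ (hm 3 (by decide)), torusG2_conj _ _ (hm 1 (by decide)),
    Units.val_pow_eq_pow_val, Units.val_neg, Units.val_one, neg_powG2, one_pow, a1, a2, b1, b2]
  norm_num

theorem phi_commute_jEl (g : SL(2, K)) : jEl hK * phi hK g = phi hK g * jEl hK := by
  have hU : ∀ t, Commute (jEl hK) (phi hK (slU t)) := fun t => by
    rw [phi_upper hK]; exact (jEl_commute_uEl_iff hK 0 t 0).2 ⟨rfl, rfl⟩
  show Commute (jEl hK) (phi hK g)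
  by_cases hc : g.1 1 0 = 0
  · obtain ⟨a, -, e⟩ := sl_decomp_zero g hc
    rw [e, map_mul]
    refine Commute.mul_right ?_ (hU _)
    rw [phi_diag hK]
    exact HR_comm hK (hEl_mem hK _) (hEl_mem hK _)
  · rw [sl_decomp g hc, map_mul, map_mul]
    exact ((hU _).mul_right (phi_lower_commute hK _)).mul_right (hU _)

theorem two_ne : (2 : K) ≠ 0 := fun e => neg_one_ne hK (by linear_combination -e)

theorem jEl_not_range (g : SL(2, K)) : phi hK g ≠ jEl hK := by
  intro e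
  have hcen : ∀ h : SL(2, K), ∃ r : K, r ^ 2 = 1 ∧ (g * h * g⁻¹ * h⁻¹).1 = Matrix.scalar (Fin 2) r := fun h =>
    phi_ker hK (by
      rw [map_mul, map_mul, map_mul, map_inv, map_inv, e]
      rw [phi_commute_jEl hK h]
      group)
  have key : ∀ h : SL(2, K), h.1 0 0 + h.1 1 1 ≠ 0 → g * h = h * g := by
    intro h htr
    obtain ⟨r, hr, e'⟩ := hcen h
    have e2 : (g * h * g⁻¹).1 = r • h.1 := by
      have : (g * h * g⁻¹).1 = (g * h * g⁻¹ * h⁻¹).1 * h.1 := by
        rw [← Matrix.SpecialLinearGroup.coe_mul, inv_mul_cancel_right]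
      rw [this, e']
      ext i j
      fin_cases i <;> fin_cases j <;> simp [Matrix.mul_apply, Fin.sum_univ_two]
    have e3 : Matrix.trace (g * h * g⁻¹).1 = Matrix.trace h.1 := by
      rw [Matrix.SpecialLinearGroup.coe_mul, Matrix.trace_mul_comm, ← Matrix.SpecialLinearGroup.coe_mul,
        ← mul_assoc, inv_mul_cancel, one_mul]
    rw [e2, Matrix.trace_smul, Matrix.trace_fin_two, smul_eq_mul] at e3
    have r1 : r = 1 := (mul_eq_right₀ htr).1 e3
    subst r1
    have : g * h * g⁻¹ = h := Subtype.ext (by rw [e2, one_smul])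
    exact mul_inv_eq_iff_eq_mul.1 this
  have hU := congrArg (fun x : SL(2, K) => x.1) (key (slU 1) (by simpa [slU_val] using (by
    intro h; exact two_ne hK (by linear_combination h) : (1 : K) + 1 ≠ 0)))
  have hL := congrArg (fun x : SL(2, K) => x.1) (key (slL 1) (by simpa [slL_val] using (by
    intro h; exact two_ne hK (by linear_combination h) : (1 : K) + 1 ≠ 0)))
  have h00 := congrFun (congrFun hU 0) 0
  have h01 := congrFun (congrFun hU 0) 1
  have l00 := congrFun (congrFun hL 0) 0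
  simp [slU_val, slL_val, Matrix.mul_apply, Fin.sum_univ_two] at h00 h01 l00
  refine jEl_ne_one hK ?_
  rw [← e]
  refine phi_center hK (Matrix.SpecialLinearGroup.mem_center_iff.2 ⟨g.1 0 0, ?_, ?_⟩)
  · have hdet : g.1 0 0 * g.1 1 1 - g.1 0 1 * g.1 1 0 = 1 := by rw [← Matrix.det_fin_two]; exact g.2
    rw [Fintype.card_fin]
    linear_combination hdet + (g.1 0 0) * h01 + (g.1 1 0) * l00
  · ext i j
    fin_cases i <;> fin_cases j <;> simp
    · linear_combination -l00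
    · linear_combination -h00
    · linear_combination h01

theorem card_psl : 2 * Nat.card (Matrix.ProjectiveSpecialLinearGroup (Fin 2) K) =
    3 ^ (2 * m + 1) * (3 ^ (2 * m + 1) - 1) * (3 ^ (2 * m + 1) + 1) := by
  have h := CfsgLib.Classical.Two.card_PSL_two (F := K)
  rw [hK] at h
  have hg : Nat.gcd 2 (3 ^ (2 * m + 1) - 1) = 2 := by
    refine Nat.gcd_eq_left ?_
    have := q_mod_eight hK
    omega
  rw [hg] at h
  rw [h, mul_assoc, mul_comm (3 ^ (2 * m + 1) - 1) (3 ^ (2 * m + 1) + 1), ← Nat.sq_sub_sq, one_pow]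

theorem card_zpowers_jEl : Nat.card ↥(Subgroup.zpowers (jEl hK)) = 2 := by
  rw [Nat.card_zpowers]
  have : Fact (Nat.Prime 2) := ⟨Nat.prime_two⟩
  exact orderOf_eq_prime (by rw [sq]; exact jEl_mul_self hK) (jEl_ne_one hK)

theorem psiP_commute (z : ↥(Subgroup.zpowers (jEl hK))) (x : Matrix.ProjectiveSpecialLinearGroup (Fin 2) K) :
    Commute (z : RG K m) (psiP hK x) := by
  obtain ⟨k, hk⟩ := Subgroup.mem_zpowers_iff.1 z.2
  obtain ⟨g, rfl⟩ := QuotientGroup.mk_surjective x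
  rw [← hk, psiP_mk]
  exact (show Commute (jEl hK) (phi hK g) from phi_commute_jEl hK g).zpow_left k

omit hK in
/-- the product map onto the centraliser -/
noncomputable def centMap : ↥(Subgroup.zpowers (jEl hK)) × Matrix.ProjectiveSpecialLinearGroup (Fin 2) K →*
    ↥(Subgroup.centralizer {jEl hK}) :=
  (MonoidHom.noncommCoprod (Subgroup.zpowers (jEl hK)).subtype (psiP hK) (psiP_commute hK)).codRestrict _ fun p =>
    mul_mem (Subgroup.zpowers_le.2 (Subgroup.mem_centralizer_singleton_iff.2 rfl) p.1.2) (by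
      obtain ⟨g, hg⟩ := QuotientGroup.mk_surjective p.2
      rw [← hg, psiP_mk]
      exact Subgroup.mem_centralizer_singleton_iff.2 (phi_commute_jEl hK g).symm)

theorem centMap_bijective : Function.Bijective (centMap hK) := by
  rw [Nat.bijective_iff_injective_and_card]
  refine ⟨?_, ?_⟩
  · rw [← MonoidHom.ker_eq_bot_iff, Subgroup.eq_bot_iff_forall]
    rintro ⟨⟨z, hz⟩, x⟩ h
    obtain ⟨g, rfl⟩ := QuotientGroup.mk_surjective x
    have e : z * phi hK g = 1 := congrArg Subtype.val (MonoidHom.mem_ker.1 h)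
    have hj : z = 1 ∨ z = jEl hK := by
      obtain ⟨k, rfl⟩ := Subgroup.mem_zpowers_iff.1 hz
      have h2 : jEl hK ^ (2 : ℤ) = 1 := by rw [zpow_two, jEl_mul_self hK]
      rcases Int.even_or_odd k with ⟨l, rfl⟩ | ⟨l, rfl⟩
      · left; rw [← two_mul, zpow_mul, h2, one_zpow]
      · right; rw [zpow_add_one, zpow_mul, h2, one_zpow, one_mul]
    rcases hj with rfl | rfl
    · rw [one_mul] at e
      exact Prod.ext (Subtype.ext rfl) (psiP_injective hK (by rw [psiP_mk, e, Prod.snd_one, map_one]))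
    · exact absurd ((eq_inv_of_mul_eq_one_right e).trans (inv_eq_of_mul_eq_one_right (jEl_mul_self hK)))
        (jEl_not_range hK g)
  · rw [Nat.card_prod, card_zpowers_jEl hK, card_psl hK, card_centralizer_jEl hK]

theorem centralizer_equiv : Nonempty (↥(Subgroup.centralizer {jEl hK}) ≃*
    Multiplicative (ZMod 2) × Matrix.ProjectiveSpecialLinearGroup (Fin 2) K) := by
  have : Fact (Nat.Prime 2) := ⟨Nat.prime_two⟩
  exact ⟨(MulEquiv.ofBijective _ (centMap_bijective hK)).symm.trans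
    (MulEquiv.prodCongr (mulEquivOfPrimeCardEq (card_zpowers_jEl hK) (by simp)) (MulEquiv.refl _))⟩

theorem card_RG : Nat.card (RG K m) =
    (3 ^ (2 * m + 1)) ^ 3 * (3 ^ (2 * m + 1) - 1) * ((3 ^ (2 * m + 1)) ^ 3 + 1) := card_twG2 hK

theorem factorization_two : (Nat.card (RG K m)).factorization 2 = 3 := by
  rw [card_RG hK]
  obtain ⟨q, hq⟩ : ∃ q, q = 3 ^ (2 * m + 1) := ⟨_, rfl⟩
  have h8 := q_mod_eight hK
  rw [← hq] at h8 ⊢
  obtain ⟨t, rfl⟩ : ∃ t, q = 8 * t + 3 := ⟨q / 8, by omega⟩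
  have e : (8 * t + 3) ^ 3 * (8 * t + 3 - 1) * ((8 * t + 3) ^ 3 + 1) =
      2 ^ 3 * ((8 * t + 3) ^ 3 * (4 * t + 1) * ((2 * t + 1) * (64 * t ^ 2 + 40 * t + 7))) := by
    rw [show 8 * t + 3 - 1 = 8 * t + 2 by omega]; ring
  have hodd : ¬ 2 ∣ (8 * t + 3) ^ 3 * (4 * t + 1) * ((2 * t + 1) * (64 * t ^ 2 + 40 * t + 7)) := by
    intro h
    have h2 : ∀ a, ¬ 2 ∣ 2 * a + 1 := fun a => by omega
    rcases (Nat.Prime.dvd_mul Nat.prime_two).1 h with h | h
    · rcases (Nat.Prime.dvd_mul Nat.prime_two).1 h with h | h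
      · exact h2 (4 * t + 1) (by have := Nat.prime_two.dvd_of_dvd_pow h; omega)
      · omega
    · rcases (Nat.Prime.dvd_mul Nat.prime_two).1 h with h | h
      · omega
      · exact h2 (32 * t ^ 2 + 20 * t + 3) (by rwa [show 2 * (32 * t ^ 2 + 20 * t + 3) + 1 = 64 * t ^ 2 + 40 * t + 7 by ring])
  rw [e, Nat.factorization_mul (by norm_num) (fun h => hodd (by rw [h]; exact dvd_zero 2)), Finsupp.add_apply,
    Nat.factorization_eq_zero_of_not_dvd hodd, add_zero, Nat.prime_two.factorization_pow, Finsupp.single_eq_same]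

theorem exists_klein : ∃ x y : RG K m, x ∈ Subgroup.centralizer {jEl hK} ∧ y ∈ Subgroup.centralizer {jEl hK} ∧
    (∃ g, x = phi hK g ∧ g.1 = !![0, 1; -1, 0]) ∧
    (∃ g, y = phi hK g ∧ ∃ a b : K, a ^ 2 + b ^ 2 = -1 ∧ g.1 = !![a, b; b, -a]) ∧
    x * x = 1 ∧ y * y = 1 ∧ x * y = y * x ∧ x ≠ 1 ∧ y ≠ 1 ∧ x ≠ y := by
  have := charG2 hK
  obtain ⟨a, b, hab⟩ : ∃ a b : K, a ^ 2 + b ^ 2 = -1 := by
    obtain ⟨a, b, h⟩ := CharP.sq_add_sq K 3 (-1)
    exact ⟨a, b, by simpa using h⟩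
  let w : SL(2, K) := ⟨!![0, 1; -1, 0], by simp [Matrix.det_fin_two]⟩
  let s : SL(2, K) := ⟨!![a, b; b, -a], by simp [Matrix.det_fin_two]; linear_combination -hab⟩
  have hw : w.1 = !![0, 1; -1, 0] := rfl
  have hs : s.1 = !![a, b; b, -a] := rfl
  have hsc : ∀ z : SL(2, K), z.1 = Matrix.scalar (Fin 2) (-1) → phi hK z = 1 := fun z hz =>
    phi_center hK (Matrix.SpecialLinearGroup.mem_center_iff.2 ⟨-1, by simp, hz.symm⟩)
  have hww : phi hK w * phi hK w = 1 := by
    rw [← map_mul]; refine hsc _ ?_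
    ext i j; fin_cases i <;> fin_cases j <;> simp [hw, Matrix.mul_apply, Fin.sum_univ_two]
  have hss : phi hK s * phi hK s = 1 := by
    rw [← map_mul]; refine hsc _ ?_
    ext i j; fin_cases i <;> fin_cases j <;> simp [hs, Matrix.mul_apply, Fin.sum_univ_two] <;>
      first | ring1 | linear_combination hab | linear_combination -hab
  have hws : phi hK w * phi hK s = phi hK s * phi hK w := by
    rw [← mul_one (phi hK w * phi hK s), ← hsc ((w * s)⁻¹ * (s * w)) (by
      rw [show (w * s)⁻¹ * (s * w) = s⁻¹ * w⁻¹ * s * w by group]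
      ext i j; fin_cases i <;> fin_cases j <;>
        simp [hw, hs, Matrix.adjugate_fin_two, Matrix.mul_apply, Fin.sum_univ_two] <;>
          first | ring1 | linear_combination hab | linear_combination -hab),
      map_mul, map_inv, ← map_mul, mul_inv_cancel_left, map_mul]
  have mem : ∀ g, phi hK g ∈ Subgroup.centralizer {jEl hK} := fun g =>
    Subgroup.mem_centralizer_singleton_iff.2 (phi_commute_jEl hK g).symm
  have nsc : ∀ z : SL(2, K), z.1 0 1 ≠ 0 ∨ z.1 1 0 ≠ 0 ∨ z.1 0 0 ≠ z.1 1 1 → phi hK z ≠ 1 := by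
    intro z hz h
    obtain ⟨r, -, e⟩ := phi_ker hK h
    rw [e] at hz
    simp at hz
  refine ⟨phi hK w, phi hK s, mem w, mem s, ⟨w, rfl, rfl⟩, ⟨s, rfl, a, b, hab, rfl⟩, hww, hss, hws, nsc w (Or.inl ?_), ?_, ?_⟩
  · simp [hw]
  · refine nsc s ?_
    by_cases hb : b = 0
    · refine Or.inr (Or.inr ?_)
      simp [hs]
      intro h
      subst hb
      have ha : a = 0 := by
        have : (2 : K) * a = 0 := by linear_combination h
        exact (mul_eq_zero.1 this).resolve_left (two_ne hK)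
      subst ha
      simp at hab
    · exact Or.inl (by simpa [hs] using hb)
  · intro h
    have h1 : phi hK (s * w) = 1 := by rw [map_mul, ← h, hww]
    obtain ⟨r, -, e⟩ := phi_ker hK h1
    have e00 := congrFun (congrFun e 0) 1
    have e01 := congrFun (congrFun e 0) 0
    have e11 := congrFun (congrFun e 1) 1
    simp [hw, hs, Matrix.mul_apply, Fin.sum_univ_two] at e00 e01 e11
    have ha : a = 0 := e00
    subst ha
    have hb : (2 : K) * b = 0 := by linear_combination -e01 + e11 * (-1) * (-1)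
    have := (mul_eq_zero.1 hb).resolve_left (two_ne hK)
    subst this
    simp at hab

theorem zpowers_two {x : RG K m} (hx : x * x = 1) {z : RG K m} (hz : z ∈ Subgroup.zpowers x) :
    z = 1 ∨ z = x := by
  obtain ⟨k, rfl⟩ := Subgroup.mem_zpowers_iff.1 hz
  have h2 : x ^ (2 : ℤ) = 1 := by rw [zpow_two, hx]
  rcases Int.even_or_odd k with ⟨l, rfl⟩ | ⟨l, rfl⟩
  · left; rw [← two_mul, zpow_mul, h2, one_zpow]
  · right; rw [zpow_add_one, zpow_mul, h2, one_zpow, one_mul]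

/-- a Sylow 2-subgroup through the involution of the torus, generated by three commuting involutions -/
theorem exists_sylow_two : ∃ S : Sylow 2 (RG K m), Nat.card S = 8 ∧ jEl hK ∈ (S : Subgroup (RG K m)) ∧
    (∀ a ∈ (S : Subgroup (RG K m)), a * a = 1) ∧
    ∃ x y : RG K m, x ∈ (S : Subgroup (RG K m)) ∧ y ∈ (S : Subgroup (RG K m)) ∧
      (∃ g, x = phi hK g ∧ g.1 = !![0, 1; -1, 0]) ∧
      (∃ g, y = phi hK g ∧ ∃ a b : K, a ^ 2 + b ^ 2 = -1 ∧ g.1 = !![a, b; b, -a]) ∧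
      x ≠ 1 ∧ y ≠ 1 ∧ x ≠ y ∧
      ∀ z ∈ (S : Subgroup (RG K m)), ∃ u v w : RG K m, (u = 1 ∨ u = jEl hK) ∧ (v = 1 ∨ v = x) ∧ (w = 1 ∨ w = y) ∧
        z = u * (v * w) := by
  have : Fact (Nat.Prime 2) := ⟨Nat.prime_two⟩
  obtain ⟨x, y, hxc, hyc, hxg, hyg, hx, hy, hxy, hx1, hy1, hne⟩ := exists_klein hK
  rw [Subgroup.mem_centralizer_singleton_iff] at hxc hyc
  have cz : ∀ {a b : RG K m}, Commute a b → ∀ (u : ↥(Subgroup.zpowers a)) (v : ↥(Subgroup.zpowers b)),
      Commute (u : RG K m) (v : RG K m) := by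
    intro a b h u v
    obtain ⟨i, hi⟩ := Subgroup.mem_zpowers_iff.1 u.2
    obtain ⟨k, hk⟩ := Subgroup.mem_zpowers_iff.1 v.2
    rw [← hi, ← hk]
    exact h.zpow_zpow i k
  let f1 : ↥(Subgroup.zpowers x) × ↥(Subgroup.zpowers y) →* RG K m :=
    MonoidHom.noncommCoprod (Subgroup.zpowers x).subtype (Subgroup.zpowers y).subtype (cz hxy)
  let f : ↥(Subgroup.zpowers (jEl hK)) × (↥(Subgroup.zpowers x) × ↥(Subgroup.zpowers y)) →* RG K m :=
    MonoidHom.noncommCoprod (Subgroup.zpowers (jEl hK)).subtype f1 fun u v =>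
      (cz (show Commute (jEl hK) x from hxc.symm) u v.1).mul_right (cz (show Commute (jEl hK) y from hyc.symm) u v.2)
  have two : ∀ {a : RG K m}, a * a = 1 → a ≠ 1 → Nat.card ↥(Subgroup.zpowers a) = 2 := fun ha ha1 => by
    rw [Nat.card_zpowers]; exact orderOf_eq_prime (by rw [sq]; exact ha) ha1
  obtain ⟨gx, egx, hgx⟩ := hxg
  obtain ⟨gy, egy, hgy⟩ := hyg
  have hinj : Function.Injective f := by
    rw [← MonoidHom.ker_eq_bot_iff, Subgroup.eq_bot_iff_forall]
    rintro ⟨⟨u, hu⟩, ⟨v, hv⟩, ⟨w, hw⟩⟩ h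
    have e : u * (v * w) = 1 := MonoidHom.mem_ker.1 h
    rcases zpowers_two hK (jEl_mul_self hK) hu with rfl | rfl <;> rcases zpowers_two hK hx hv with rfl | rfl <;>
      rcases zpowers_two hK hy hw with rfl | rfl <;> (try simp only [one_mul, mul_one] at e)
    · rfl
    · exact absurd e hy1
    · exact absurd e hx1
    · exact absurd ((eq_inv_of_mul_eq_one_right e).trans (inv_eq_of_mul_eq_one_right hx)).symm hne
    · exact absurd e (jEl_ne_one hK)
    · exact absurd ((eq_inv_of_mul_eq_one_right e).trans (inv_eq_of_mul_eq_one_right (jEl_mul_self hK)))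
        (egy ▸ jEl_not_range hK gy)
    · exact absurd ((eq_inv_of_mul_eq_one_right e).trans (inv_eq_of_mul_eq_one_right (jEl_mul_self hK)))
        (egx ▸ jEl_not_range hK gx)
    · refine absurd ((eq_inv_of_mul_eq_one_right e).trans (inv_eq_of_mul_eq_one_right (jEl_mul_self hK))) ?_
      rw [egx, egy, ← map_mul]
      exact jEl_not_range hK _
  have hcard : Nat.card ↥f.range = 8 := by
    rw [← Nat.card_congr (MonoidHom.ofInjective hinj).toEquiv, Nat.card_prod, Nat.card_prod,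
      two (jEl_mul_self hK) (jEl_ne_one hK), two hx hx1, two hy hy1]
  refine ⟨Sylow.ofCard f.range (by rw [factorization_two hK, hcard]; norm_num), ?_, ?_, ?_, x, y, ?_, ?_,
    ⟨gx, egx, hgx⟩, ⟨gy, egy, hgy⟩, hx1, hy1, hne, ?_⟩
  · exact hcard
  · exact ⟨(⟨_, Subgroup.mem_zpowers _⟩, 1), show jEl hK * ((1 : RG K m) * 1) = _ by rw [one_mul, mul_one]⟩
  · rintro a ⟨⟨⟨u, hu⟩, ⟨v, hv⟩, ⟨w, hw⟩⟩, rfl⟩
    rw [← map_mul, ← map_one f]
    congr 1
    refine Prod.ext (Subtype.ext ?_) (Prod.ext (Subtype.ext ?_) (Subtype.ext ?_))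
    · rcases zpowers_two hK (jEl_mul_self hK) hu with rfl | rfl
      · exact one_mul 1
      · exact jEl_mul_self hK
    · rcases zpowers_two hK hx hv with rfl | rfl
      · exact one_mul 1
      · exact hx
    · rcases zpowers_two hK hy hw with rfl | rfl
      · exact one_mul 1
      · exact hy
  · exact ⟨(1, (⟨_, Subgroup.mem_zpowers _⟩, 1)), show (1 : RG K m) * (x * 1) = _ by rw [one_mul, mul_one]⟩
  · exact ⟨(1, (1, ⟨_, Subgroup.mem_zpowers _⟩)), show (1 : RG K m) * (1 * y) = _ by rw [one_mul, one_mul]⟩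
  · rintro z ⟨⟨⟨u, hu⟩, ⟨v, hv⟩, ⟨w, hw⟩⟩, rfl⟩
    exact ⟨u, v, w, zpowers_two hK (jEl_mul_self hK) hu, zpowers_two hK hx hv, zpowers_two hK hy hw, rfl⟩

theorem sylow_two_elem (S : Sylow 2 (RG K m)) : Nat.card S = 8 ∧ ∀ x ∈ S, x * x = 1 := by
  have : Fact (Nat.Prime 2) := ⟨Nat.prime_two⟩
  obtain ⟨T, hT, -, hsq, -⟩ := exists_sylow_two hK
  refine ⟨by rw [Sylow.card_eq_multiplicity, factorization_two hK]; norm_num, fun x hx => ?_⟩
  obtain ⟨g, rfl⟩ := MulAction.exists_smul_eq (RG K m) T S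
  have hx' : g⁻¹ * x * g ∈ (T : Subgroup (RG K m)) := by
    have := hx
    change x ∈ ((g • T : Sylow 2 (RG K m)) : Subgroup (RG K m)) at this
    rw [Sylow.coe_subgroup_smul, Subgroup.mem_pointwise_smul_iff_inv_smul_mem] at this
    simpa [mul_assoc] using this
  have := hsq _ hx'
  calc x * x = g * ((g⁻¹ * x * g) * (g⁻¹ * x * g)) * g⁻¹ := by group
    _ = 1 := by rw [this]; group

end CfsgLib.Lie.Ree
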