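/-
The normaliser of a Sylow 2-subgroup of a small Ree group, and the conjugacy of involutions.
-/
import Cfsg.Agent.Lib.Lie.Twisted.Ree.Centralizer
import Cfsg.Agent.Lib.Lie.Twisted.G2Perfect
import Cfsg.Agent.Lib.Lie.Twisted.G2Coords
import Mathlib.GroupTheory.Transfer
import Mathlib.GroupTheory.Perm.Sign

set_option autoImplicit false

namespace CfsgLib.Lie.Ree

open Cfsg.Lie CfsgLib.Lie CfsgLib.Lie.Chev CfsgLib.Lie.Chev.TwGroups
open scoped MatrixGroups

variable {K : Type*} [Field K] [Fintype K] {m : ℕ} (hK : Fintype.card K = 3 ^ (2 * m + 1))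
include hK

theorem perfect_RG (hm : 1 ≤ m) : commutator (RG K m) = ⊤ :=
  twisted_perfect certG2 twG2_le (twG2 hK) (twG2_P1 hK) (perfectG2 hK hm)

theorem centralizer_dichotomy {g : RG K m} (hg : g ∈ Subgroup.centralizer {jEl hK}) :
    ∃ h : SL(2, K), g = phi hK h ∨ g = jEl hK * phi hK h := by
  obtain ⟨⟨⟨z, hz⟩, x⟩, hp⟩ := (centMap_bijective hK).2 ⟨g, hg⟩
  obtain ⟨h, rfl⟩ := QuotientGroup.mk_surjective x
  have e : z * phi hK h = g := congrArg Subtype.val hp
  rcases zpowers_two hK (jEl_mul_self hK) hz with rfl | rfl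
  · exact ⟨h, Or.inl (by rw [← e, one_mul])⟩
  · exact ⟨h, Or.inr e.symm⟩

theorem phi_neg (h : SL(2, K)) (r : K) (hr : r ^ 2 = 1) {h' : SL(2, K)} (e : h'.1 = r • h.1) :
    phi hK h' = phi hK h := by
  have hc : phi hK (h' * h⁻¹) = 1 := by
    refine phi_center hK (Matrix.SpecialLinearGroup.mem_center_iff.2 ⟨r, by rw [Fintype.card_fin]; exact hr, ?_⟩)
    rw [Matrix.SpecialLinearGroup.coe_mul, e, Matrix.smul_mul, ← Matrix.SpecialLinearGroup.coe_mul,
      mul_inv_cancel, Matrix.SpecialLinearGroup.coe_one, Matrix.scalar_apply, ← Matrix.smul_one_eq_diagonal]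
  rwa [map_mul, map_inv, mul_inv_eq_one] at hc

theorem klein_centralizer {gx gy : SL(2, K)} {a b : K} (hab : a ^ 2 + b ^ 2 = -1)
    (hx : gx.1 = !![0, 1; -1, 0]) (hy : gy.1 = !![a, b; b, -a]) (h : SL(2, K))
    (cx : phi hK h * phi hK gx = phi hK gx * phi hK h) (cy : phi hK h * phi hK gy = phi hK gy * phi hK h) :
    ∃ v w : RG K m, (v = 1 ∨ v = phi hK gx) ∧ (w = 1 ∨ w = phi hK gy) ∧ phi hK h = v * w := by
  have sgn : ∀ k : SL(2, K), phi hK h * phi hK k = phi hK k * phi hK h →
      h.1 * k.1 = k.1 * h.1 ∨ h.1 * k.1 = -(k.1 * h.1) := by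
    intro k e
    obtain ⟨r, hr, e'⟩ := phi_ker hK (g := h * k * (k * h)⁻¹) (by
      rw [map_mul, map_inv, map_mul, map_mul, e, mul_inv_cancel])
    have e2 : (h * k).1 = Matrix.scalar (Fin 2) r * (k * h).1 := by
      rw [← e', ← Matrix.SpecialLinearGroup.coe_mul, inv_mul_cancel_right]
    rcases sq_eq_one_iff.1 hr with rfl | rfl
    · left
      rw [map_one, one_mul, Matrix.SpecialLinearGroup.coe_mul, Matrix.SpecialLinearGroup.coe_mul] at e2
      exact e2
    · right
      rw [map_neg, map_one, neg_one_mul, Matrix.SpecialLinearGroup.coe_mul, Matrix.SpecialLinearGroup.coe_mul] at e2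
      exact e2
  have anti : gx.1 * gy.1 = -(gy.1 * gx.1) := by
    rw [hx, hy]
    ext i j
    fin_cases i <;> fin_cases j <;> simp [Matrix.mul_apply, Fin.sum_univ_two]
  have scal : ∀ k : SL(2, K), k.1 * gx.1 = gx.1 * k.1 → k.1 * gy.1 = gy.1 * k.1 → phi hK k = 1 := by
    intro k e1 e2
    rw [hx] at e1
    rw [hy] at e2
    have f1 := congrFun (congrFun e1 0) 0
    have f2 := congrFun (congrFun e1 0) 1
    have g1 := congrFun (congrFun e2 0) 0
    have g2 := congrFun (congrFun e2 0) 1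
    simp [Matrix.mul_apply, Fin.sum_univ_two] at f1 f2 g1 g2
    have hpb : k.1 0 1 * b = 0 := (mul_eq_zero.1 (show (2 : K) * (k.1 0 1 * b) = 0 by
      linear_combination g1 - b * f1)).resolve_left (two_ne hK)
    have hpa : k.1 0 1 * a = 0 := (mul_eq_zero.1 (show (2 : K) * (k.1 0 1 * a) = 0 by
      linear_combination -g2 + b * f2)).resolve_left (two_ne hK)
    have hb : k.1 0 1 = 0 := by
      linear_combination (k.1 0 1) * hab - a * hpa - b * hpb
    refine phi_center hK (Matrix.SpecialLinearGroup.mem_center_iff.2 ⟨k.1 0 0, ?_, ?_⟩)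
    · have hdet : k.1 0 0 * k.1 1 1 - k.1 0 1 * k.1 1 0 = 1 := by rw [← Matrix.det_fin_two]; exact k.2
      rw [Fintype.card_fin]
      linear_combination hdet + (k.1 1 0) * hb + (k.1 0 0) * f2
    · ext i j
      fin_cases i <;> fin_cases j <;> simp
      · exact hb.symm
      · linear_combination hb + f1
      · linear_combination f2
  have inv2 : ∀ k : SL(2, K), k.1 * k.1 = -1 → phi hK k * phi hK k = 1 := fun k hk => by
    rw [← map_mul]
    refine (phi_neg hK 1 (-1) (by norm_num) (by rw [Matrix.SpecialLinearGroup.coe_mul, hk]; simp)).trans (map_one _)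
  have ix := inv2 gx (by rw [hx]; ext i j; fin_cases i <;> fin_cases j <;> simp [Matrix.mul_apply, Fin.sum_univ_two])
  have iy := inv2 gy (by
    rw [hy]
    ext i j
    fin_cases i <;> fin_cases j <;> simp [Matrix.mul_apply, Fin.sum_univ_two] <;>
      first | ring1 | linear_combination hab | linear_combination -hab)
  have sol : ∀ (k : SL(2, K)), phi hK k * phi hK k = 1 → (k.1 * h.1) * gx.1 = gx.1 * (k.1 * h.1) →
      (k.1 * h.1) * gy.1 = gy.1 * (k.1 * h.1) → phi hK h = phi hK k := by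
    intro k hk e1 e2
    have := scal (k * h) (by rwa [Matrix.SpecialLinearGroup.coe_mul]) (by rwa [Matrix.SpecialLinearGroup.coe_mul])
    rw [map_mul] at this
    rw [eq_inv_of_mul_eq_one_right this, inv_eq_of_mul_eq_one_right hk]
  rcases sgn gx cx with s1 | s1 <;> rcases sgn gy cy with s2 | s2
  · exact ⟨1, 1, Or.inl rfl, Or.inl rfl, by rw [scal h s1 s2, mul_one]⟩
  · refine ⟨phi hK gx, 1, Or.inr rfl, Or.inl rfl, ?_⟩
    rw [mul_one]
    refine sol gx ix ?_ ?_
    · rw [mul_assoc, s1]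
    · rw [mul_assoc, s2, mul_neg, ← mul_assoc, ← mul_assoc, anti, neg_mul, neg_neg]
  · refine ⟨1, phi hK gy, Or.inl rfl, Or.inr rfl, ?_⟩
    rw [one_mul]
    refine sol gy iy ?_ ?_
    · rw [mul_assoc, s1, mul_neg, ← mul_assoc, ← mul_assoc, anti, neg_mul]
    · rw [mul_assoc, s2]
  · refine ⟨phi hK gx, phi hK gy, Or.inr rfl, Or.inr rfl, ?_⟩
    rw [← map_mul]
    have hk : phi hK (gx * gy) * phi hK (gx * gy) = 1 := by
      refine inv2 (gx * gy) ?_
      rw [Matrix.SpecialLinearGroup.coe_mul, hx, hy]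
      ext i j
      fin_cases i <;> fin_cases j <;> simp [Matrix.mul_apply, Fin.sum_univ_two] <;>
        first | ring1 | linear_combination hab | linear_combination -hab
    refine sol (gx * gy) hk ?_ ?_
    · have hyx : gy.1 * gx.1 = -(gx.1 * gy.1) := by rw [anti, neg_neg]
      rw [Matrix.SpecialLinearGroup.coe_mul, mul_assoc, s1]
      simp only [mul_assoc, mul_neg]
      rw [← mul_assoc gy.1 gx.1, hyx, neg_mul, mul_neg, neg_neg, mul_assoc]
    · rw [Matrix.SpecialLinearGroup.coe_mul, mul_assoc, s2, mul_neg, ← mul_assoc, ← mul_assoc gy.1,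
        ← mul_assoc gy.1, anti]
      simp only [mul_assoc, neg_mul, mul_neg, neg_neg]

/-- the quaternion unit permuting the three involutions -/
theorem exists_cycle {gx gy : SL(2, K)} {a b : K} (hab : a ^ 2 + b ^ 2 = -1)
    (hx : gx.1 = !![0, 1; -1, 0]) (hy : gy.1 = !![a, b; b, -a]) :
    ∃ g : SL(2, K), phi hK g * phi hK gy = phi hK gx * phi hK g ∧
      phi hK g * phi hK gx = phi hK (gx * gy) * phi hK g := by
  have h3 := three_eq_zero_G2 hK
  obtain ⟨g, hg⟩ : ∃ g : SL(2, K), g.1 = !![1 - a - b, -1 - b + a; 1 - b + a, 1 + a + b] :=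
    ⟨⟨!![1 - a - b, -1 - b + a; 1 - b + a, 1 + a + b], by
      rw [Matrix.det_fin_two]
      simp
      linear_combination (-2) * hab + h3⟩, rfl⟩
  refine ⟨g, ?_, ?_⟩
  · rw [← map_mul, ← map_mul]
    refine congrArg _ (Subtype.ext ?_)
    rw [Matrix.SpecialLinearGroup.coe_mul, Matrix.SpecialLinearGroup.coe_mul, hx, hy, hg]
    ext i j
    fin_cases i <;> fin_cases j <;> simp [Matrix.mul_apply, Fin.sum_univ_two] <;>
      first | ring1 | linear_combination hab | linear_combination -hab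
  · rw [← map_mul, ← map_mul]
    refine congrArg _ (Subtype.ext ?_)
    rw [Matrix.SpecialLinearGroup.coe_mul, Matrix.SpecialLinearGroup.coe_mul, Matrix.SpecialLinearGroup.coe_mul, hx,
      hy, hg]
    ext i j
    fin_cases i <;> fin_cases j <;> simp [Matrix.mul_apply, Fin.sum_univ_two] <;>
      first | ring1 | linear_combination hab | linear_combination -hab

theorem centralizer_sylow (S : Sylow 2 (RG K m)) :
    Subgroup.centralizer ((S : Subgroup (RG K m)) : Set (RG K m)) = S := by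
  have : Fact (Nat.Prime 2) := ⟨Nat.prime_two⟩
  obtain ⟨T, -, hjT, hsq, x, y, hxT, hyT, ⟨gx, egx, hgx⟩, ⟨gy, egy, a, b, hab, hgy⟩, -⟩ := exists_sylow_two hK
  refine le_antisymm (fun g hg => ?_) (fun g hg => Subgroup.mem_centralizer_iff.2 fun s hs => ?_)
  swap
  · have h8 := (sylow_two_elem hK S).2
    have := h8 _ (mul_mem hs hg)
    calc s * g = s * g * ((s * g) * (s * g))⁻¹ := by rw [this, inv_one, mul_one]
      _ = g⁻¹ * s⁻¹ := by group
      _ = g * s := by rw [inv_eq_of_mul_eq_one_right (h8 _ hg), inv_eq_of_mul_eq_one_right (h8 _ hs)]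
  obtain ⟨c, rfl⟩ := MulAction.exists_smul_eq (RG K m) T S
  have hmem : ∀ z, z ∈ ((c • T : Sylow 2 (RG K m)) : Subgroup (RG K m)) ↔ c⁻¹ * z * c ∈ (T : Subgroup (RG K m)) := by
    intro z
    rw [Sylow.coe_subgroup_smul, Subgroup.mem_pointwise_smul_iff_inv_smul_mem]
    simp [mul_assoc]
  rw [hmem]
  have hcm : ∀ t ∈ (T : Subgroup (RG K m)), t * (c⁻¹ * g * c) = c⁻¹ * g * c * t := by
    intro t ht
    have h1 := Subgroup.mem_centralizer_iff.1 hg (c * t * c⁻¹) ((hmem _).2 (by simpa [mul_assoc] using ht))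
    calc t * (c⁻¹ * g * c) = c⁻¹ * ((c * t * c⁻¹) * g) * c := by group
      _ = c⁻¹ * (g * (c * t * c⁻¹)) * c := by rw [h1]
      _ = _ := by group
  obtain ⟨h, hh⟩ := centralizer_dichotomy hK (Subgroup.mem_centralizer_singleton_iff.2 (hcm _ hjT).symm)
  have hcx := (hcm _ hxT).symm
  have hcy := (hcm _ hyT).symm
  rcases hh with e | e <;> rw [e] at hcx hcy ⊢
  · subst egx egy
    obtain ⟨v, w, hv, hw, e'⟩ := klein_centralizer hK hab hgx hgy h hcx hcy
    rw [e']
    exact mul_mem (hv.elim (fun e => e ▸ one_mem _) (fun e => e ▸ hxT)) (hw.elim (fun e => e ▸ one_mem _) (fun e => e ▸ hyT))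
  · subst egx egy
    have cj : ∀ k, phi hK k * jEl hK = jEl hK * phi hK k := fun k => (phi_commute_jEl hK k).symm
    rw [mul_assoc (jEl hK), ← mul_assoc _ (jEl hK), cj, mul_assoc (jEl hK), mul_right_inj] at hcx hcy
    obtain ⟨v, w, hv, hw, e'⟩ := klein_centralizer hK hab hgx hgy h hcx hcy
    rw [e']
    exact mul_mem hjT (mul_mem (hv.elim (fun e => e ▸ one_mem _) (fun e => e ▸ hxT)) (hw.elim (fun e => e ▸ one_mem _) (fun e => e ▸ hyT)))

theorem central_in_normalizer (hm : 1 ≤ m) (S : Sylow 2 (RG K m)) {z : RG K m} (hz : z ∈ (S : Subgroup (RG K m)))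
    (hc : ∀ n ∈ Subgroup.normalizer ((S : Subgroup (RG K m)) : Set (RG K m)), n * z = z * n) : z = 1 := by
  have : Fact (Nat.Prime 2) := ⟨Nat.prime_two⟩
  have hab : IsMulCommutative ↥(S : Subgroup (RG K m)) := ⟨⟨fun a b => Subtype.ext (by
    have h : (a : RG K m) ∈ Subgroup.centralizer ((S : Subgroup (RG K m)) : Set (RG K m)) := by
      rw [centralizer_sylow hK]; exact a.2
    exact (Subgroup.mem_centralizer_iff.1 h b b.2).symm)⟩⟩
  letI : CommGroup ↥(S : Subgroup (RG K m)) :=
    { (inferInstance : Group ↥(S : Subgroup (RG K m))) with mul_comm := fun a b => hab.is_comm.comm a b }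
  have key : ∀ (k : ℕ) (g₀ : RG K m), g₀⁻¹ * z ^ k * g₀ ∈ (S : Subgroup (RG K m)) → g₀⁻¹ * z ^ k * g₀ = z ^ k := by
    intro k g₀ h
    have hS := centralizer_sylow hK S
    obtain ⟨n, hn, e⟩ := Sylow.conj_eq_normalizer_conj_of_mem_centralizer S (z ^ k) g₀
      (show z ^ k ∈ Subgroup.centralizer ((S : Subgroup (RG K m)) : Set (RG K m)) by rw [hS]; exact pow_mem hz k)
      (show g₀⁻¹ * z ^ k * g₀ ∈ Subgroup.centralizer ((S : Subgroup (RG K m)) : Set (RG K m)) by rw [hS]; exact h)
    have hcn : Commute n (z ^ k) := Commute.pow_right (hc n hn) k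
    rw [e, mul_assoc, ← hcn.eq, inv_mul_cancel_left]
  have h1 := MonoidHom.transfer_eq_pow (MonoidHom.id ↥(S : Subgroup (RG K m))) z key
  have h2 : MonoidHom.transfer (MonoidHom.id ↥(S : Subgroup (RG K m))) z = 1 := by
    have := Abelianization.commutator_subset_ker (MonoidHom.transfer (MonoidHom.id ↥(S : Subgroup (RG K m))))
    rw [perfect_RG hK hm] at this
    exact this (Subgroup.mem_top z)
  have h3 : z ^ (S : Subgroup (RG K m)).index = 1 := congrArg Subtype.val (h1.symm.trans h2)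
  have hodd : Odd (S : Subgroup (RG K m)).index := by
    rw [← Nat.not_even_iff_odd, even_iff_two_dvd]
    exact S.not_dvd_index
  obtain ⟨k, hk⟩ := hodd
  rw [hk, pow_succ, pow_mul, sq, (sylow_two_elem hK S).2 z hz, one_pow, one_mul] at h3
  exact h3

omit hK [Fintype K] in
/-- the number of conjugates under a subgroup -/
theorem card_conj_set {G : Type*} [Group G] (N : Subgroup G) (a : G) :
    Nat.card ↥(Set.range fun n : N => (n : G) * a * (n : G)⁻¹) =
      ((Subgroup.centralizer {a}).subgroupOf N).index := by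
  refine (Nat.card_eq_of_bijective (fun q : ↥N ⧸ (Subgroup.centralizer {a}).subgroupOf N =>
    Quotient.liftOn' q (fun n => (⟨(n : G) * a * (n : G)⁻¹, n, rfl⟩ : ↥(Set.range fun n : N => (n : G) * a * (n : G)⁻¹)))
      fun n n' h => ?_) ⟨?_, ?_⟩).symm
  · rw [QuotientGroup.leftRel_apply, Subgroup.mem_subgroupOf, Subgroup.mem_centralizer_singleton_iff] at h
    refine Subtype.ext ?_
    show (n : G) * a * (n : G)⁻¹ = (n' : G) * a * (n' : G)⁻¹
    have h' : (n : G)⁻¹ * (n' : G) * a = a * ((n : G)⁻¹ * (n' : G)) := h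
    calc (n : G) * a * (n : G)⁻¹ = (n : G) * (a * ((n : G)⁻¹ * n')) * (n' : G)⁻¹ := by group
      _ = _ := by rw [← h']; group
  · intro q q' e
    obtain ⟨n, rfl⟩ := QuotientGroup.mk_surjective q
    obtain ⟨n', rfl⟩ := QuotientGroup.mk_surjective q'
    rw [QuotientGroup.eq, Subgroup.mem_subgroupOf, Subgroup.mem_centralizer_singleton_iff]
    have e' : (n : G) * a * (n : G)⁻¹ = (n' : G) * a * (n' : G)⁻¹ := congrArg Subtype.val e
    show (n : G)⁻¹ * (n' : G) * a = a * ((n : G)⁻¹ * (n' : G))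
    calc (n : G)⁻¹ * (n' : G) * a = (n : G)⁻¹ * ((n' : G) * a * (n' : G)⁻¹) * n' := by group
      _ = _ := by rw [← e']; group
  · rintro ⟨_, n, rfl⟩
    exact ⟨QuotientGroup.mk n, rfl⟩

theorem sylow_two_structure (hm : 1 ≤ m) : ∃ T : Sylow 2 (RG K m), jEl hK ∈ (T : Subgroup (RG K m)) ∧
    (∀ z ∈ (T : Subgroup (RG K m)), z ≠ 1 →
      ∃ n ∈ Subgroup.normalizer ((T : Subgroup (RG K m)) : Set (RG K m)), n * jEl hK * n⁻¹ = z) ∧
    Nat.card ↥(Subgroup.normalizer ((T : Subgroup (RG K m)) : Set (RG K m))) = 168 := by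
  classical
  have : Fact (Nat.Prime 2) := ⟨Nat.prime_two⟩
  obtain ⟨T, h8, hjT, hsq, x, y, hxT, hyT, ⟨gx, egx, hgx⟩, ⟨gy, egy, a, b, hab, hgy⟩, hx1, hy1, hne, hform⟩ :=
    exists_sylow_two hK
  obtain ⟨q, hqy, hqx⟩ := exists_cycle hK hab hgx hgy
  rw [map_mul, ← egx, ← egy] at hqx
  rw [← egx, ← egy] at hqy
  obtain ⟨g, hg⟩ : ∃ g, g = phi hK q := ⟨_, rfl⟩
  rw [← hg] at hqx hqy
  obtain ⟨j, hj⟩ : ∃ j, j = jEl hK := ⟨_, rfl⟩
  rw [← hj] at hjT hform ⊢
  have hgj : g * j * g⁻¹ = j := by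
    rw [hg, hj, ← phi_commute_jEl hK, mul_inv_cancel_right]
  have cy' : g * y * g⁻¹ = x := mul_inv_eq_iff_eq_mul.2 hqy
  have cx' : g * x * g⁻¹ = x * y := mul_inv_eq_iff_eq_mul.2 hqx
  have comm : ∀ u ∈ (T : Subgroup (RG K m)), ∀ v ∈ (T : Subgroup (RG K m)), u * v = v * u := fun u hu v hv => by
    have h : u ∈ Subgroup.centralizer ((T : Subgroup (RG K m)) : Set (RG K m)) := by
      rw [centralizer_sylow hK]; exact hu
    exact (Subgroup.mem_centralizer_iff.1 h v hv).symm
  have cxy : g * (x * y) * g⁻¹ = y := by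
    calc g * (x * y) * g⁻¹ = (g * x * g⁻¹) * (g * y * g⁻¹) := by group
      _ = x * (y * x) := by rw [cx', cy', mul_assoc]
      _ = y := by rw [comm y hyT x hxT, ← mul_assoc, hsq x hxT, one_mul]
  have hgN : g ∈ Subgroup.normalizer ((T : Subgroup (RG K m)) : Set (RG K m)) := by
    have h1 : ∀ k : ℕ, ∀ t ∈ (T : Subgroup (RG K m)), g ^ k * t * (g ^ k)⁻¹ ∈ (T : Subgroup (RG K m)) := by
      intro k
      induction k with
      | zero => intro t ht; simpa using ht
      | succ k ih =>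
        intro t ht
        have h2 : g * t * g⁻¹ ∈ (T : Subgroup (RG K m)) := by
          obtain ⟨u, v, w, hu, hv, hw, rfl⟩ := hform t ht
          have e : g * (u * (v * w)) * g⁻¹ = (g * u * g⁻¹) * ((g * v * g⁻¹) * (g * w * g⁻¹)) := by group
          rw [e]
          refine mul_mem ?_ (mul_mem ?_ ?_)
          · rcases hu with rfl | rfl
            · simp
            · rw [hgj]; exact hjT
          · rcases hv with rfl | rfl
            · simp
            · rw [cx']; exact mul_mem hxT hyT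
          · rcases hw with rfl | rfl
            · simp
            · rw [cy']; exact hxT
        have := ih _ h2
        rwa [show g ^ k * (g * t * g⁻¹) * (g ^ k)⁻¹ = g ^ (k + 1) * t * (g ^ (k + 1))⁻¹ by
          rw [pow_succ]; group] at this
    rw [Subgroup.mem_normalizer_iff]
    intro t
    refine ⟨fun ht => by simpa using h1 1 t ht, fun ht => ?_⟩
    obtain ⟨n, hn⟩ : ∃ n, orderOf g = n + 1 := ⟨orderOf g - 1, by have := orderOf_pos g; omega⟩
    have hgi : g ^ n = g⁻¹ := eq_inv_of_mul_eq_one_left (by rw [← pow_succ, ← hn, pow_orderOf_eq_one])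
    have := h1 n _ ht
    rw [hgi] at this
    simpa [mul_assoc] using this
  obtain ⟨N, hN⟩ : ∃ N, N = Subgroup.normalizer ((T : Subgroup (RG K m)) : Set (RG K m)) := ⟨_, rfl⟩
  rw [← hN] at hgN
  have hTN : (T : Subgroup (RG K m)) ≤ N := hN ▸ Subgroup.le_normalizer
  have hodd : Odd ((T : Subgroup (RG K m)).relIndex N) := by
    rw [← Nat.not_even_iff_odd, even_iff_two_dvd]
    intro h
    exact T.not_dvd_index (h.trans (Subgroup.relIndex_dvd_index_of_le hTN))
  have odd_set : ∀ (M : Subgroup (RG K m)), (T : Subgroup (RG K m)) ≤ M → M ≤ N → ∀ t ∈ (T : Subgroup (RG K m)),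
      Odd (Nat.card ↥(Set.range fun n : M => (n : RG K m) * t * (n : RG K m)⁻¹)) := by
    intro M h1 h2 t ht
    rw [card_conj_set]
    refine Odd.of_dvd_nat ?_ (Subgroup.index_dvd_of_le (H := (T : Subgroup (RG K m)).subgroupOf M) fun z hz => ?_)
    · exact Odd.of_dvd_nat hodd (Dvd.intro _ (Subgroup.relIndex_mul_relIndex _ _ _ h1 h2))
    · rw [Subgroup.mem_subgroupOf, Subgroup.mem_centralizer_singleton_iff]
      exact comm _ hz _ ht
  have stable : ∀ (M : Subgroup (RG K m)), g ∈ M → ∀ t z, z ∈ (Set.range fun n : M => (n : RG K m) * t * (n : RG K m)⁻¹) →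
      g * z * g⁻¹ ∈ (Set.range fun n : M => (n : RG K m) * t * (n : RG K m)⁻¹) := by
    rintro M hgM t _ ⟨n, rfl⟩
    exact ⟨⟨g, hgM⟩ * n, by simp [mul_assoc]⟩
  have hclose : ∀ (n : RG K m), n ∈ N → ∀ t ∈ (T : Subgroup (RG K m)), n * t * n⁻¹ ∈ (T : Subgroup (RG K m)) :=
    fun n hn t ht => by
      rw [hN] at hn
      exact (Subgroup.mem_normalizer_iff.1 hn t).1 ht
  obtain ⟨O, hO⟩ : ∃ O, O = Set.range fun n : N => (n : RG K m) * j * (n : RG K m)⁻¹ := ⟨_, rfl⟩
  have hjO : j ∈ O := hO ▸ ⟨1, by simp⟩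
  have hOT : ∀ z ∈ O, z ∈ (T : Subgroup (RG K m)) ∧ z ≠ 1 := by
    rw [hO]
    rintro _ ⟨n, rfl⟩
    refine ⟨hclose _ n.2 _ hjT, fun h => jEl_ne_one hK ?_⟩
    rw [← hj]
    have h' : (n : RG K m) * j * (n : RG K m)⁻¹ = 1 := h
    calc j = (n : RG K m)⁻¹ * ((n : RG K m) * j * (n : RG K m)⁻¹) * n := by group
      _ = 1 := by rw [h']; group
  have hOg : ∀ z ∈ O, g * z * g⁻¹ ∈ O := fun z hz => by
    subst hO; exact stable N hgN j z hz
  have cj' : ∀ t, g * (j * t) * g⁻¹ = j * (g * t * g⁻¹) := fun t => by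
    calc g * (j * t) * g⁻¹ = (g * j * g⁻¹) * (g * t * g⁻¹) := by group
      _ = _ := by rw [hgj]
  have nrange : ∀ s : SL(2, K), phi hK s ≠ j := fun s => hj ▸ jEl_not_range hK s
  have hxy1 : x * y ≠ 1 := fun h => hne (by rw [eq_inv_of_mul_eq_one_left h, inv_eq_of_mul_eq_one_right (hsq y hyT)])
  have hjx : x ≠ j := egx ▸ nrange gx
  have hjy : y ≠ j := egy ▸ nrange gy
  have hjxy : x * y ≠ j := by rw [egx, egy, ← map_mul]; exact nrange _
  obtain ⟨A, hA⟩ : ∃ A : Finset (RG K m), A = {x, y, x * y} := ⟨_, rfl⟩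
  obtain ⟨A', hA'⟩ : ∃ A' : Finset (RG K m), A' = {j * x, j * y, j * (x * y)} := ⟨_, rfl⟩
  have hA3 : A.card = 3 := by
    rw [hA, Finset.card_eq_three]
    exact ⟨x, y, x * y, hne, fun h => hy1 (mul_eq_left.1 h.symm), fun h => hx1 (mul_eq_right.1 h.symm), rfl⟩
  have hA3' : A'.card = 3 := by
    rw [hA', Finset.card_eq_three]
    exact ⟨j * x, j * y, j * (x * y), fun h => hne (mul_left_cancel h),
      fun h => hy1 (mul_eq_left.1 (mul_left_cancel h).symm), fun h => hx1 (mul_eq_right.1 (mul_left_cancel h).symm), rfl⟩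
  have hcases : ∀ z ∈ (T : Subgroup (RG K m)), z ≠ 1 → z = j ∨ z ∈ A ∨ z ∈ A' := by
    intro z hz h1
    obtain ⟨u, v, w, hu, hv, hw, rfl⟩ := hform z hz
    rw [hA, hA']
    rcases hu with rfl | rfl <;> rcases hv with rfl | rfl <;> rcases hw with rfl | rfl <;> simp at h1 ⊢
  have allA : (∃ z ∈ A, z ∈ O) → ∀ z ∈ A, z ∈ O := by
    rintro ⟨z, hzA, hzO⟩
    have h1 := hOg z hzO
    have h2 := hOg _ h1
    rw [hA] at hzA ⊢
    simp only [Finset.mem_insert, Finset.mem_singleton, forall_eq_or_imp, forall_eq] at hzA ⊢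
    rcases hzA with rfl | rfl | rfl
    · rw [cx'] at h1; rw [cx', cxy] at h2; exact ⟨hzO, h2, h1⟩
    · rw [cy'] at h1; rw [cy', cx'] at h2; exact ⟨h1, hzO, h2⟩
    · rw [cxy] at h1; rw [cxy, cy'] at h2; exact ⟨h2, h1, hzO⟩
  have allA' : (∃ z ∈ A', z ∈ O) → ∀ z ∈ A', z ∈ O := by
    rintro ⟨z, hzA, hzO⟩
    have h1 := hOg z hzO
    have h2 := hOg _ h1
    rw [hA'] at hzA ⊢
    simp only [Finset.mem_insert, Finset.mem_singleton, forall_eq_or_imp, forall_eq] at hzA ⊢
    rcases hzA with rfl | rfl | rfl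
    · rw [cj', cx'] at h1; rw [cj', cx', cj', cxy] at h2; exact ⟨hzO, h2, h1⟩
    · rw [cj', cy'] at h1; rw [cj', cy', cj', cx'] at h2; exact ⟨h1, hzO, h2⟩
    · rw [cj', cxy] at h1; rw [cj', cxy, cj', cy'] at h2; exact ⟨h2, h1, hzO⟩
  have hjA : j ∉ A := by
    rw [hA]; simp [hjx.symm, hjy.symm, hjxy.symm]
  have hjA' : j ∉ A' := by
    rw [hA']; simp [left_eq_mul, hx1, hy1, hxy1]
  have hoddO : Odd (Nat.card ↥O) := hO ▸ odd_set N hTN le_rfl j hjT
  have hfull : (∀ z ∈ A, z ∈ O) ∧ ∀ z ∈ A', z ∈ O := by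
    by_cases c1 : ∃ z ∈ A, z ∈ O <;> by_cases c2 : ∃ z ∈ A', z ∈ O
    · exact ⟨allA c1, allA' c2⟩
    · exfalso
      have e : O = ↑(insert j A) := by
        ext z
        rw [Finset.coe_insert, Set.mem_insert_iff, Finset.mem_coe]
        refine ⟨fun hz => ?_, ?_⟩
        · rcases hcases z (hOT z hz).1 (hOT z hz).2 with h | h | h
          · exact Or.inl h
          · exact Or.inr h
          · exact absurd ⟨z, h, hz⟩ c2
        · rintro (rfl | h)
          · exact hjO
          · exact allA c1 z h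
      rw [e, Nat.card_coe_set_eq, Set.ncard_coe_finset, Finset.card_insert_of_notMem hjA, hA3] at hoddO
      exact absurd hoddO (by decide)
    · exfalso
      have e : O = ↑(insert j A') := by
        ext z
        rw [Finset.coe_insert, Set.mem_insert_iff, Finset.mem_coe]
        refine ⟨fun hz => ?_, ?_⟩
        · rcases hcases z (hOT z hz).1 (hOT z hz).2 with h | h | h
          · exact Or.inl h
          · exact absurd ⟨z, h, hz⟩ c1
          · exact Or.inr h
        · rintro (rfl | h)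
          · exact hjO
          · exact allA' c2 z h
      rw [e, Nat.card_coe_set_eq, Set.ncard_coe_finset, Finset.card_insert_of_notMem hjA', hA3'] at hoddO
      exact absurd hoddO (by decide)
    · exfalso
      refine jEl_ne_one hK (hj ▸ central_in_normalizer hK hm T hjT fun n hn => ?_)
      rw [← hN] at hn
      have hmem : n * j * n⁻¹ ∈ O := hO ▸ ⟨⟨n, hn⟩, rfl⟩
      rcases hcases _ (hOT _ hmem).1 (hOT _ hmem).2 with h | h | h
      · exact mul_inv_eq_iff_eq_mul.1 h
      · exact absurd ⟨_, h, hmem⟩ c1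
      · exact absurd ⟨_, h, hmem⟩ c2
  have hmemO : ∀ z ∈ (T : Subgroup (RG K m)), z ≠ 1 → z ∈ O := fun z hz h1 => by
    rcases hcases z hz h1 with rfl | h | h
    · exact hjO
    · exact hfull.1 z h
    · exact hfull.2 z h
  refine ⟨T, hjT, fun z hz h1 => ?_, ?_⟩
  · have := hmemO z hz h1
    rw [hO] at this
    obtain ⟨n, hn⟩ := this
    exact ⟨n, hN ▸ n.2, hn⟩
  have hcardO : Nat.card ↥O = 7 := by
    have e : O = ↑(insert j (A ∪ A')) := by
      ext z
      rw [Finset.coe_insert, Set.mem_insert_iff, Finset.mem_coe, Finset.mem_union]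
      refine ⟨fun hz => hcases z (hOT z hz).1 (hOT z hz).2, ?_⟩
      rintro (rfl | h | h)
      · exact hjO
      · exact hfull.1 z h
      · exact hfull.2 z h
    have hdis : Disjoint A A' := by
      rw [Finset.disjoint_left]
      intro z hz hz'
      rw [hA] at hz
      rw [hA'] at hz'
      have hr : ∀ w ∈ ({x, y, x * y} : Finset (RG K m)), w ∈ (phi hK).range := by
        intro w hw
        simp only [Finset.mem_insert, Finset.mem_singleton] at hw
        rcases hw with rfl | rfl | rfl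
        · exact egx ▸ ⟨gx, rfl⟩
        · exact egy ▸ ⟨gy, rfl⟩
        · exact mul_mem (egx ▸ ⟨gx, rfl⟩) (egy ▸ ⟨gy, rfl⟩)
      obtain ⟨w, hw, e⟩ : ∃ w ∈ ({x, y, x * y} : Finset (RG K m)), z = j * w := by
        simp only [Finset.mem_insert, Finset.mem_singleton] at hz'
        rcases hz' with h | h | h
        · exact ⟨x, by simp, h⟩
        · exact ⟨y, by simp, h⟩
        · exact ⟨x * y, by simp, h⟩
      have hjr : j ∈ (phi hK).range := by
        rw [show j = z * w⁻¹ by rw [e, mul_inv_cancel_right]]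
        exact mul_mem (hr z hz) (inv_mem (hr w hw))
      obtain ⟨s, hs⟩ := hjr
      exact nrange s hs
    rw [e, Nat.card_coe_set_eq, Set.ncard_coe_finset, Finset.card_insert_of_notMem (by rw [Finset.mem_union]; exact fun h => h.elim hjA hjA'),
      Finset.card_union_of_disjoint hdis, hA3, hA3']
  obtain ⟨M, hM⟩ : ∃ M, M = N ⊓ Subgroup.centralizer {j} := ⟨_, rfl⟩
  have hNM : Nat.card ↥N = Nat.card ↥M * 7 := by
    rw [← hcardO, hO, card_conj_set, ← Subgroup.card_mul_index ((Subgroup.centralizer {j}).subgroupOf N)]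
    congr 1
    rw [hM, ← Subgroup.inf_subgroupOf_left, Nat.card_congr (Subgroup.subgroupOfEquivOfLe inf_le_left).toEquiv]
  have hTM : (T : Subgroup (RG K m)) ≤ M := hM ▸ le_inf hTN fun t ht =>
    Subgroup.mem_centralizer_singleton_iff.2 (comm t ht j hjT)
  have hgM : g ∈ M := hM ▸ Subgroup.mem_inf.2 ⟨hgN, Subgroup.mem_centralizer_singleton_iff.2 (mul_inv_eq_iff_eq_mul.1 hgj)⟩
  have hMN : M ≤ N := hM ▸ inf_le_left
  have hMA : ∀ n ∈ M, n * x * n⁻¹ ∈ A := by
    intro n hn
    rw [hM] at hn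
    obtain ⟨h1, h2⟩ := Subgroup.mem_inf.1 hn
    have hr : n * x * n⁻¹ ∈ (phi hK).range := by
      obtain ⟨s, rfl | rfl⟩ := centralizer_dichotomy hK (hj ▸ h2)
      · exact ⟨s * gx * s⁻¹, by rw [map_mul, map_mul, map_inv, egx]⟩
      · refine ⟨s * gx * s⁻¹, ?_⟩
        rw [map_mul, map_mul, map_inv, ← egx]
        have := phi_commute_jEl hK (s * gx * s⁻¹)
        rw [map_mul, map_mul, map_inv, ← egx] at this
        calc _ = phi hK s * x * (phi hK s)⁻¹ * (jEl hK * (jEl hK)⁻¹) := by rw [mul_inv_cancel, mul_one]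
          _ = jEl hK * (phi hK s * x * (phi hK s)⁻¹) * (jEl hK)⁻¹ := by rw [this]; group
          _ = _ := by group
    have hne1 : n * x * n⁻¹ ≠ 1 := fun h => hx1 (by
      calc x = n⁻¹ * (n * x * n⁻¹) * n := by group
        _ = 1 := by rw [h]; group)
    rcases hcases _ (hclose n h1 x hxT) hne1 with h | h | h
    · obtain ⟨s, hs⟩ := hr
      exact absurd (hs.trans h) (nrange s)
    · exact h
    · exfalso
      obtain ⟨w, hw, e⟩ : ∃ w ∈ (phi hK).range, n * x * n⁻¹ = j * w := by
        rw [hA'] at h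
        simp only [Finset.mem_insert, Finset.mem_singleton] at h
        rcases h with h | h | h
        · exact ⟨x, egx ▸ ⟨gx, rfl⟩, h⟩
        · exact ⟨y, egy ▸ ⟨gy, rfl⟩, h⟩
        · exact ⟨x * y, mul_mem (egx ▸ ⟨gx, rfl⟩) (egy ▸ ⟨gy, rfl⟩), h⟩
      obtain ⟨s, hs⟩ : j ∈ (phi hK).range := by
        rw [show j = (n * x * n⁻¹) * w⁻¹ by rw [e, mul_inv_cancel_right]]
        exact mul_mem hr (inv_mem hw)
      exact nrange s hs
  have hM24 : Nat.card ↥M = 8 * 3 := by
    have e : (Set.range fun n : M => (n : RG K m) * x * (n : RG K m)⁻¹) = ↑A := by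
      ext z
      refine ⟨?_, fun hz => ?_⟩
      · rintro ⟨n, rfl⟩; exact hMA n n.2
      · have h1 : x ∈ (Set.range fun n : M => (n : RG K m) * x * (n : RG K m)⁻¹) := ⟨1, by simp⟩
        have h2 := stable M hgM x _ h1
        have h3 := stable M hgM x _ h2
        rw [cx'] at h2
        rw [cx', cxy] at h3
        rw [Finset.mem_coe, hA] at hz
        simp only [Finset.mem_insert, Finset.mem_singleton] at hz
        rcases hz with rfl | rfl | rfl
        · exact h1
        · exact h3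
        · exact h2
    have hstab : (Subgroup.centralizer {x}).subgroupOf M = (T : Subgroup (RG K m)).subgroupOf M := by
      refine le_antisymm (fun n hn => ?_) (fun n hn => ?_)
      · rw [Subgroup.mem_subgroupOf, Subgroup.mem_centralizer_singleton_iff] at hn
        rw [Subgroup.mem_subgroupOf]
        obtain ⟨hnN, hnj⟩ := Subgroup.mem_inf.1 (hM.le n.2)
        rw [Subgroup.mem_centralizer_singleton_iff] at hnj
        have hcent : ∀ k : RG K m, k * j = j * k → k * x = x * k → k * y = y * k →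
            k ∈ (T : Subgroup (RG K m)) := fun k k1 k2 k3 => by
          rw [← centralizer_sylow hK T, Subgroup.mem_centralizer_iff]
          intro t ht
          obtain ⟨u, v, w, hu, hv, hw, rfl⟩ := hform t ht
          have cu : Commute k u := by
            rcases hu with rfl | rfl
            · exact Commute.one_right _
            · exact k1
          have cv : Commute k v := by
            rcases hv with rfl | rfl
            · exact Commute.one_right _
            · exact k2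
          have cw : Commute k w := by
            rcases hw with rfl | rfl
            · exact Commute.one_right _
            · exact k3
          exact ((cu.mul_right (cv.mul_right cw)).eq).symm
        have hy' := hclose _ hnN y hyT
        have hy2 : (n : RG K m) * y * (n : RG K m)⁻¹ ∈ A := by
          have h1 := hMA (n : RG K m) n.2
          have h2 : g * ((n : RG K m)) * g⁻¹ ∈ M := mul_mem (mul_mem hgM n.2) (inv_mem hgM)
          have h4 := hMA ((n : RG K m) * (g * g)) (mul_mem n.2 (mul_mem hgM hgM))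
          have e : (n : RG K m) * (g * g) * x * ((n : RG K m) * (g * g))⁻¹ =
              (n : RG K m) * (g * (g * x * g⁻¹) * g⁻¹) * (n : RG K m)⁻¹ := by group
          rwa [e, cx', cxy] at h4
        have hsq2 : (n : RG K m) * (n : RG K m) ∈ (T : Subgroup (RG K m)) := by
          refine hcent _ ?_ ?_ ?_
          · rw [mul_assoc, hnj, ← mul_assoc, hnj, mul_assoc]
          · rw [mul_assoc, hn, ← mul_assoc, hn, mul_assoc]
          · rw [hA] at hy2
            simp only [Finset.mem_insert, Finset.mem_singleton] at hy2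
            rcases hy2 with h | h | h
            · exfalso
              refine hne ?_
              have hx' : (n : RG K m) * x * (n : RG K m)⁻¹ = x := mul_inv_eq_iff_eq_mul.2 hn
              exact mul_left_cancel (mul_right_cancel (hx'.trans h.symm))
            · have := mul_inv_eq_iff_eq_mul.1 h
              rw [mul_assoc, this, ← mul_assoc, this, mul_assoc]
            · refine mul_inv_eq_iff_eq_mul.1 ?_
              calc (n : RG K m) * n * y * ((n : RG K m) * n)⁻¹ = n * ((n : RG K m) * y * (n : RG K m)⁻¹) * (n : RG K m)⁻¹ := by group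
                _ = ((n : RG K m) * x * (n : RG K m)⁻¹) * ((n : RG K m) * y * (n : RG K m)⁻¹) := by
                  conv_lhs => rw [h]
                  group
                _ = x * (x * y) := by rw [h, mul_inv_eq_iff_eq_mul.2 hn]
                _ = y := by rw [← mul_assoc, hsq x hxT, one_mul]
        have hp : orderOf (n : RG K m) ∣ 2 ^ 2 := by
          refine orderOf_dvd_of_pow_eq_one ?_
          rw [show (2 : ℕ) ^ 2 = 2 * 2 by norm_num, pow_mul, sq, sq, hsq _ hsq2]
        have hpg : IsPGroup 2 ↥(Subgroup.zpowers (n : RG K m)) := by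
          obtain ⟨k, -, hk⟩ := (Nat.dvd_prime_pow Nat.prime_two).1 hp
          exact IsPGroup.of_card (n := k) (by rw [Nat.card_zpowers, hk])
        have hpg2 : IsPGroup 2 ↥((T : Subgroup (RG K m)) ⊔ Subgroup.zpowers (n : RG K m)) :=
          IsPGroup.to_sup_of_normal_left' T.isPGroup' hpg ((Subgroup.zpowers_le.2 (hN ▸ hnN)))
        exact (T.is_maximal' hpg2 le_sup_left).le (Subgroup.mem_sup_right (Subgroup.mem_zpowers _))
      · rw [Subgroup.mem_subgroupOf, Subgroup.mem_centralizer_singleton_iff]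
        exact comm _ hn x hxT
    have h := Subgroup.card_mul_index ((Subgroup.centralizer {x}).subgroupOf M)
    rw [← card_conj_set, e, Nat.card_coe_set_eq, Set.ncard_coe_finset, hA3, hstab,
      Nat.card_congr (Subgroup.subgroupOfEquivOfLe hTM).toEquiv, h8] at h
    exact h.symm
  rw [← hN, hNM, hM24]

theorem card_normalizer_sylow (hm : 1 ≤ m) (S : Sylow 2 (RG K m)) :
    Nat.card ↥(Subgroup.normalizer ((S : Subgroup (RG K m)) : Set (RG K m))) = 168 := by
  have : Fact (Nat.Prime 2) := ⟨Nat.prime_two⟩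
  obtain ⟨T, -, -, hc⟩ := sylow_two_structure hK hm
  rw [← hc]
  have h1 : Nat.card (Sylow 2 (RG K m)) =
      (Subgroup.normalizer ((S : Subgroup (RG K m)) : Set (RG K m))).index := S.card_eq_index_normalizer
  have h2 : Nat.card (Sylow 2 (RG K m)) =
      (Subgroup.normalizer ((T : Subgroup (RG K m)) : Set (RG K m))).index := T.card_eq_index_normalizer
  have h3 := Subgroup.card_mul_index (Subgroup.normalizer ((S : Subgroup (RG K m)) : Set (RG K m)))
  rw [← Subgroup.card_mul_index (Subgroup.normalizer ((T : Subgroup (RG K m)) : Set (RG K m))), ← h2, ← h1] at h3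
  exact Nat.eq_of_mul_eq_mul_right (Nat.card_pos) h3

theorem involution_conj (hm : 1 ≤ m) {z : RG K m} (hz : z * z = 1) (h1 : z ≠ 1) :
    ∃ g : RG K m, g * jEl hK * g⁻¹ = z := by
  have : Fact (Nat.Prime 2) := ⟨Nat.prime_two⟩
  obtain ⟨T, -, hT, -⟩ := sylow_two_structure hK hm
  have hp : IsPGroup 2 ↥(Subgroup.zpowers z) := IsPGroup.of_card (n := 1) (by
    rw [Nat.card_zpowers, pow_one]; exact orderOf_eq_prime (by rw [sq]; exact hz) h1)
  obtain ⟨S, hS⟩ := hp.exists_le_sylow
  obtain ⟨c, rfl⟩ := MulAction.exists_smul_eq (RG K m) T S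
  have hz' := hS (Subgroup.mem_zpowers z)
  rw [Sylow.coe_subgroup_smul, Subgroup.mem_pointwise_smul_iff_inv_smul_mem] at hz'
  have hz'' : c⁻¹ * z * c ∈ (T : Subgroup (RG K m)) := by simpa [mul_assoc] using hz'
  obtain ⟨n, -, hn⟩ := hT _ hz'' (fun h => h1 (by
    calc z = c * (c⁻¹ * z * c) * c⁻¹ := by group
      _ = 1 := by rw [h]; group))
  refine ⟨c * n, ?_⟩
  calc c * n * jEl hK * (c * n)⁻¹ = c * (n * jEl hK * n⁻¹) * c⁻¹ := by group
    _ = z := by rw [hn]; group

end CfsgLib.Lie.Ree
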