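/-
The split torus of a small Ree group: inversion, centralisers and normalisers.
-/
import Cfsg.Agent.Lib.Lie.Twisted.Ree.Involutions

set_option autoImplicit false

namespace CfsgLib.Lie.Ree

open Cfsg.Lie CfsgLib.Lie CfsgLib.Lie.Chev CfsgLib.Lie.Chev.TwGroups
open scoped MatrixGroups

/-- a prime-power element is conjugate into a subgroup of index prime to that prime -/
theorem exists_conj_mem_of_not_dvd_index {G : Type*} [Group G] [Finite G] {A : Subgroup G} {l k : ℕ} (hl : l.Prime)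
    (hA : ¬ l ∣ A.index) {x : G} (hx : x ^ l ^ k = 1) : ∃ g : G, g⁻¹ * x * g ∈ A := by
  have : Fact l.Prime := ⟨hl⟩
  obtain ⟨P⟩ := (Sylow.nonempty : Nonempty (Sylow l ↥A))
  have hcard : Nat.card ↥((P : Subgroup ↥A).map A.subtype) = l ^ (Nat.card G).factorization l := by
    rw [Subgroup.card_map_of_injective A.subtype_injective, Sylow.card_eq_multiplicity, ← A.card_mul_index,
      Nat.factorization_mul Nat.card_pos.ne' Subgroup.index_ne_zero_of_finite, Finsupp.add_apply,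
      Nat.factorization_eq_zero_of_not_dvd hA, add_zero]
  obtain ⟨i, -, hi⟩ := (Nat.dvd_prime_pow hl).1 (orderOf_dvd_of_pow_eq_one hx)
  obtain ⟨Q, hQ⟩ := (IsPGroup.of_card (p := l) (n := i) (by rw [Nat.card_zpowers, hi]) :
    IsPGroup l ↥(Subgroup.zpowers x)).exists_le_sylow
  obtain ⟨g, hg⟩ := MulAction.exists_smul_eq G (Sylow.ofCard _ hcard) Q
  refine ⟨g, ?_⟩
  have h := hQ (Subgroup.mem_zpowers x)
  rw [← hg, Sylow.coe_subgroup_smul, Subgroup.mem_pointwise_smul_iff_inv_smul_mem, Sylow.coe_ofCard] at h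
  have h' : g⁻¹ * x * g ∈ (P : Subgroup ↥A).map A.subtype := by simpa [mul_assoc] using h
  exact Subgroup.map_subtype_le _ h'

/-- conjugate centralisers have the same order -/
theorem card_centralizer_conj {G : Type*} [Group G] (g x : G) :
    Nat.card ↥(Subgroup.centralizer {g * x * g⁻¹}) = Nat.card ↥(Subgroup.centralizer {x}) := by
  have e : Subgroup.centralizer {g * x * g⁻¹} = (Subgroup.centralizer {x}).map (MulAut.conj g).toMonoidHom := by
    ext y
    rw [Subgroup.mem_map_equiv, MulAut.conj_symm_apply, Subgroup.mem_centralizer_singleton_iff,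
      Subgroup.mem_centralizer_singleton_iff]
    constructor
    · intro h
      calc g⁻¹ * y * g * x = g⁻¹ * (y * (g * x * g⁻¹)) * g := by group
        _ = _ := by rw [h]; group
    · intro h
      calc y * (g * x * g⁻¹) = g * (g⁻¹ * y * g * x) * g⁻¹ := by group
        _ = _ := by rw [h]; group
  rw [e, Subgroup.card_map_of_injective (MulAut.conj g).injective]

variable {K : Type*} [Field K] [Fintype K] {m : ℕ} (hK : Fintype.card K = 3 ^ (2 * m + 1))
include hK

theorem centralizer_UR_le {u : RG K m} (hu : u ∈ UR K m) (h1 : u ≠ 1) : Subgroup.centralizer {u} ≤ BR K m := by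
  intro g hg
  rw [Subgroup.mem_centralizer_singleton_iff] at hg
  by_contra hB
  exact h1 ((split hK).inter_conj hB hu (by rw [mul_assoc, ← hg, inv_mul_cancel_left]; exact hu))

theorem card_BR : Nat.card ↥(BR K m) = (3 ^ (2 * m + 1)) ^ 3 * (3 ^ (2 * m + 1) - 1) := by
  let f : (K × K × K) × Kˣ → ↥(BR K m) := fun x =>
    ⟨uEl m x.1.1 x.1.2.1 x.1.2.2 * hEl hK x.2,
      mul_mem ((split hK).U_le (uEl_mem hK _ _ _)) ((split hK).H_le (hEl_mem hK _))⟩
  have hf : Function.Bijective f := by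
    refine ⟨fun x y e => ?_, fun b => ?_⟩
    · obtain ⟨h1, h2⟩ := BR_unique hK (uEl_mem hK _ _ _) (uEl_mem hK _ _ _) (hEl_mem hK _) (hEl_mem hK _)
        (congrArg Subtype.val e)
      obtain ⟨e1, e2, e3⟩ := uEl_inj hK h1
      exact Prod.ext (Prod.ext e1 (Prod.ext e2 e3)) (hEl_injective hK h2)
    · obtain ⟨u, hu, h, hh, e⟩ := (split hK).factor b b.2
      obtain ⟨t, v, w, rfl⟩ := (mem_UR_iff hK _).1 hu
      obtain ⟨c, rfl⟩ := (mem_HR_iff hK _).1 hh
      exact ⟨((t, v, w), c), Subtype.ext e.symm⟩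
  rw [← Nat.card_eq_of_bijective f hf, Nat.card_prod, Nat.card_prod, Nat.card_prod, Nat.card_units,
    Nat.card_eq_fintype_card, hK]
  ring

theorem card_HR : Nat.card ↥(HR K m) = 3 ^ (2 * m + 1) - 1 := by
  rw [← Nat.card_eq_of_bijective (fun c : Kˣ => (⟨hEl hK c, hEl_mem hK c⟩ : ↥(HR K m)))
    ⟨fun a b e => hEl_injective hK (congrArg Subtype.val e), fun h => by
      obtain ⟨c, e⟩ := (mem_HR_iff hK _).1 h.2; exact ⟨c, Subtype.ext e.symm⟩⟩,
    Nat.card_units, Nat.card_eq_fintype_card, hK]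

theorem commute_uEl_hEl {c : Kˣ} (hc : (c : K) ^ 2 ≠ 1) {u : RG K m} (hu : u ∈ UR K m)
    (h : hEl hK c * u = u * hEl hK c) : u = 1 := by
  obtain ⟨t, v, w, rfl⟩ := (mem_UR_iff hK _).1 hu
  obtain ⟨h1, h2, h3⟩ := (hEl_commute_iff hK c t v w).1 h
  have c1 : (c : K) ≠ 1 := fun e => hc (by rw [e, one_pow])
  have c2 : (c : K) ≠ -1 := fun e => hc (by rw [e, neg_one_sq])
  have ht : t = 0 := by_contra fun e => c1 (h1 e)
  have hv : v = 0 := by_contra fun e => (h2 e).elim c1 c2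
  have hw : w = 0 := by_contra fun e => c1 (h3 e)
  rw [ht, hv, hw, uEl_zero hK]

theorem conj_mem_HR_cases {g : RG K m} {c : Kˣ} (hc : (c : K) ^ 2 ≠ 1)
    (hg : g * hEl hK c * g⁻¹ ∈ HR K m) :
    g ∈ HR K m ∨ ∃ k ∈ HR K m, g = nEl hK * k := by
  have hh := hEl_mem hK c
  have step : ∀ b ∈ BR K m, b * hEl hK c * b⁻¹ ∈ HR K m → b ∈ HR K m := by
    intro b hb h
    obtain ⟨v, hv, k, hk, rfl⟩ := (split hK).factor b hb
    have e : v * k * hEl hK c * (v * k)⁻¹ = v * hEl hK c * v⁻¹ := by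
      calc v * k * hEl hK c * (v * k)⁻¹ = v * (k * hEl hK c) * k⁻¹ * v⁻¹ := by group
        _ = v * (hEl hK c * k) * k⁻¹ * v⁻¹ := by rw [HR_comm hK hk hh]
        _ = _ := by group
    rw [e] at h
    have h2 : v * hEl hK c * v⁻¹ * (hEl hK c)⁻¹ ∈ UR K m := by
      have := mul_mem hv ((split hK).conj_U _ hh _ (inv_mem hv))
      rwa [← mul_assoc, ← mul_assoc] at this
    have h3 := UR_inf_HR hK h2 (mul_mem h (inv_mem hh))
    have hv1 : v = 1 := commute_uEl_hEl hK hc hv (mul_inv_eq_iff_eq_mul.1 (mul_inv_eq_one.1 h3)).symm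
    rw [hv1, one_mul]
    exact hk
  by_cases hB : g ∈ BR K m
  · exact Or.inl (step g hB hg)
  · right
    obtain ⟨u, hu, b, hb, rfl⟩ := (split hK).cover g hB
    obtain ⟨c', hc'⟩ := (mem_HR_iff hK _).1 hg
    have hh' := hEl_mem hK c'
    have e : hEl hK c' * u * (hEl hK c')⁻¹ * nEl hK * ((nEl hK)⁻¹ * hEl hK c' * nEl hK * b) =
        u * nEl hK * (b * hEl hK c) := by
      calc _ = hEl hK c' * (u * nEl hK * b) := by group
        _ = (u * nEl hK * b * hEl hK c * (u * nEl hK * b)⁻¹) * (u * nEl hK * b) := by rw [hc']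
        _ = _ := by group
    obtain ⟨e1, e2⟩ := cover_unique hK ((split hK).conj_U _ hh' _ hu) hu
      (mul_mem ((split hK).H_le ((split hK).conj_H _ hh')) hb) (mul_mem hb ((split hK).H_le hh)) e
    have hc'2 : (c' : K) ^ 2 ≠ 1 := fun e' => hc (by
      have h2 : hEl hK c' * hEl hK c' = 1 := by
        rw [← map_mul, show c' * c' = 1 from Units.ext (by rw [Units.val_mul, ← sq]; exact e'), map_one]
      rw [← hc'] at h2
      have h3 : hEl hK (c * c) = 1 := by
        calc hEl hK (c * c) = hEl hK c * hEl hK c := map_mul _ _ _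
          _ = (u * nEl hK * b)⁻¹ * ((u * nEl hK * b * hEl hK c * (u * nEl hK * b)⁻¹) *
              (u * nEl hK * b * hEl hK c * (u * nEl hK * b)⁻¹)) * (u * nEl hK * b) := by group
          _ = 1 := by rw [h2]; group
      rw [← map_one (hEl hK)] at h3
      have := congrArg Units.val (hEl_injective hK h3)
      rwa [Units.val_mul, Units.val_one, ← sq] at this)
    obtain rfl := commute_uEl_hEl hK hc'2 hu (mul_inv_eq_iff_eq_mul.1 e1)
    refine ⟨b, step b hb ?_, by rw [one_mul]⟩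
    rw [← e2, mul_inv_cancel_right]
    exact (split hK).conj_H _ hh'

theorem exists_sq_ne_one (hm : 1 ≤ m) : ∃ z : Kˣ, (z : K) ^ 2 ≠ 1 := by
  by_contra hc
  have hc : ∀ z : Kˣ, z ^ 2 = 1 := fun z => by_contra fun h => hc ⟨z, fun e => h (Units.ext (by
    rw [Units.val_pow_eq_pow_val, e, Units.val_one]))⟩
  have := (FiniteField.forall_pow_eq_one_iff K 2).1 hc
  rw [hK] at this
  have h27 : 3 ^ 3 ≤ 3 ^ (2 * m + 1) := Nat.pow_le_pow_right three_pos (by omega)
  exact absurd (Nat.le_of_dvd two_pos this) (by omega)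

theorem neg_one_not_sq (z : Kˣ) : (z : K) ^ 2 ≠ -1 := fun h => by
  have hsq : IsSquare (-1 : K) := ⟨z, by rw [← h, sq]⟩
  rw [FiniteField.isSquare_neg_one_iff, hK] at hsq
  have := q_mod_eight hK
  omega

theorem sq_of_sq_ne {z : Kˣ} (hz : (z : K) ^ 2 ≠ 1) : ((z ^ 2 : Kˣ) : K) ^ 2 ≠ 1 := by
  intro e
  rw [Units.val_pow_eq_pow_val] at e
  rcases sq_eq_one_iff.1 e with e | e
  · exact hz e
  · exact neg_one_not_sq hK z e

theorem exists_inverter (hm : 1 ≤ m) : ∀ c : Kˣ, nEl hK * hEl hK c * (nEl hK)⁻¹ = hEl hK c⁻¹ := by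
  obtain ⟨g, hg⟩ : ∃ g : SL(2, K), g.1 = !![0, 1; -1, 0] := ⟨⟨!![0, 1; -1, 0], by simp [Matrix.det_fin_two]⟩, rfl⟩
  have hconj : ∀ z : Kˣ, phi hK g * hEl hK (z ^ 2) * (phi hK g)⁻¹ = hEl hK (z ^ 2)⁻¹ := by
    intro z
    obtain ⟨n, hn⟩ := sq_exp (K := K) (m := m) hK 1
    have e := (hn z).1
    rw [← e, ← inv_pow, ← phi_diag hK, ← phi_diag hK, mul_inv_eq_iff_eq_mul, ← map_mul, ← map_mul]
    refine congrArg _ (Subtype.ext ?_)
    rw [Matrix.SpecialLinearGroup.coe_mul, Matrix.SpecialLinearGroup.coe_mul, slD_val, slD_val, hg]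
    ext i j
    fin_cases i <;> fin_cases j <;> simp [Matrix.mul_apply, Fin.sum_univ_two]
  have hgB : phi hK g ∉ BR K m := by
    intro h
    refine phi_lower_not_mem hK (t := (-1 : K)) (neg_ne_zero.2 one_ne_zero) ?_
    have e : slL (-1 : K) = (slU (-1 : K))⁻¹ * (slU (-1) * slL (-1) * slU (-1)) * (slU (-1))⁻¹ * 1 := by group
    have hsum : phi hK (slU 1 * slL (-1) * slU 1) = phi hK g := by
      refine congrArg _ (Subtype.ext ?_)
      rw [Matrix.SpecialLinearGroup.coe_mul, Matrix.SpecialLinearGroup.coe_mul, slU_val, slL_val, hg]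
      ext i j
      fin_cases i <;> fin_cases j <;> simp [Matrix.mul_apply, Fin.sum_univ_two]
    have e2 : phi hK (slL (-1 : K)) = (uEl m 0 1 0)⁻¹ * phi hK g * (uEl m 0 1 0)⁻¹ := by
      rw [← hsum, map_mul, map_mul, phi_upper hK]; group
    rw [e2]
    exact mul_mem (mul_mem (inv_mem ((split hK).U_le (uEl_mem hK _ _ _))) h)
      (inv_mem ((split hK).U_le (uEl_mem hK _ _ _)))
  obtain ⟨z, hz⟩ := exists_sq_ne_one hK hm
  obtain ⟨k, hk, hgk⟩ : ∃ k ∈ HR K m, phi hK g = nEl hK * k := by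
    rcases conj_mem_HR_cases hK (sq_of_sq_ne hK hz) (by rw [hconj]; exact hEl_mem hK _) with h | h
    · exact absurd ((split hK).H_le h) hgB
    · exact h
  have hn : ∀ z : Kˣ, nEl hK * hEl hK (z ^ 2) * (nEl hK)⁻¹ = hEl hK (z ^ 2)⁻¹ := by
    intro z
    rw [← hconj z, hgk]
    calc _ = nEl hK * (hEl hK (z ^ 2) * k) * k⁻¹ * (nEl hK)⁻¹ := by group
      _ = nEl hK * (k * hEl hK (z ^ 2)) * k⁻¹ * (nEl hK)⁻¹ := by rw [HR_comm hK hk (hEl_mem hK _)]
      _ = _ := by group
  intro c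
  have hj : nEl hK * jEl hK * (nEl hK)⁻¹ = jEl hK := mul_inv_eq_iff_eq_mul.2 (nEl_commute_jEl hK)
  by_cases hc : IsSquare (c : K)
  · obtain ⟨r, hr⟩ := hc
    have hr0 : r ≠ 0 := fun e => c.ne_zero (by rw [hr, e, mul_zero])
    rw [show c = (Units.mk0 r hr0) ^ 2 from Units.ext (by rw [Units.val_pow_eq_pow_val, hr, Units.val_mk0, sq])]
    exact hn _
  · have hns : IsSquare (-(c : K)) := by
      classical
      have hm1 : ¬ IsSquare (-1 : K) := fun ⟨r, hr⟩ => neg_one_not_sq hK (Units.mk0 r (fun e => by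
        rw [e, mul_zero] at hr; exact neg_ne_zero.2 one_ne_zero hr)) (by rw [Units.val_mk0, sq, ← hr])
      have hq : quadraticChar K (-(c : K)) = 1 := by
        rw [← neg_one_mul, map_mul, quadraticChar_neg_one_iff_not_isSquare.2 hm1,
          quadraticChar_neg_one_iff_not_isSquare.2 hc]
        norm_num
      exact (quadraticChar_one_iff_isSquare (neg_ne_zero.2 c.ne_zero)).1 hq
    obtain ⟨r, hr⟩ := hns
    have hr0 : r ≠ 0 := fun e => neg_ne_zero.2 c.ne_zero (by rw [hr, e, mul_zero])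
    rw [show c = -1 * (Units.mk0 r hr0) ^ 2 from Units.ext (by
      rw [Units.val_mul, Units.val_pow_eq_pow_val, Units.val_mk0, sq, ← hr, Units.val_neg, Units.val_one]; ring),
      map_mul, ← conj_mul, hn, show hEl hK (-1) = jEl hK from rfl, hj, jEl, ← map_mul, mul_inv]
    congr 2

theorem centralizer_hEl (hm : 1 ≤ m) {c : Kˣ} (hc : (c : K) ^ 2 ≠ 1) :
    Subgroup.centralizer {hEl hK c} = HR K m := by
  refine le_antisymm (fun g hg => ?_) fun g hg => Subgroup.mem_centralizer_singleton_iff.2 (HR_comm hK hg (hEl_mem hK c))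
  rw [Subgroup.mem_centralizer_singleton_iff] at hg
  have e : g * hEl hK c * g⁻¹ = hEl hK c := mul_inv_eq_iff_eq_mul.2 hg
  rcases conj_mem_HR_cases hK hc (e.symm ▸ hEl_mem hK c) with h | ⟨k, hk, rfl⟩
  · exact h
  · exfalso
    refine hc ?_
    have h1 : nEl hK * hEl hK c * (nEl hK)⁻¹ = hEl hK c := by
      conv_rhs => rw [← e]
      calc nEl hK * hEl hK c * (nEl hK)⁻¹ = nEl hK * (hEl hK c * k) * k⁻¹ * (nEl hK)⁻¹ := by group
        _ = nEl hK * (k * hEl hK c) * k⁻¹ * (nEl hK)⁻¹ := by rw [HR_comm hK hk (hEl_mem hK c)]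
        _ = _ := by group
    rw [exists_inverter hK hm] at h1
    have h2 := congrArg Units.val (hEl_injective hK h1)
    rw [Units.val_inv_eq_inv_val] at h2
    rw [sq]
    nth_rw 1 [← h2]
    exact inv_mul_cancel₀ c.ne_zero

theorem mem_normalizer_HR_iff (hm : 1 ≤ m) (g : RG K m) :
    g ∈ Subgroup.normalizer ((HR K m : Subgroup (RG K m)) : Set (RG K m)) ↔ g ∈ HR K m ∨ ∃ k ∈ HR K m, g = nEl hK * k := by
  constructor
  · intro hg
    obtain ⟨z, hz⟩ := exists_sq_ne_one hK hm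
    exact conj_mem_HR_cases hK hz ((Subgroup.mem_normalizer_iff.1 hg _).1 (hEl_mem hK z))
  · have hn : nEl hK ∈ Subgroup.normalizer ((HR K m : Subgroup (RG K m)) : Set (RG K m)) := by
      rw [Subgroup.mem_normalizer_iff]
      intro y
      refine ⟨fun hy => ?_, fun hy => ?_⟩
      · obtain ⟨c, rfl⟩ := (mem_HR_iff hK _).1 hy
        rw [exists_inverter hK hm]
        exact hEl_mem hK _
      · have := (split hK).conj_H _ hy
        simpa [mul_assoc] using this
    rintro (h | ⟨k, hk, rfl⟩)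
    · exact Subgroup.le_normalizer h
    · exact mul_mem hn (Subgroup.le_normalizer hk)

theorem card_normalizer_HR (hm : 1 ≤ m) :
    Nat.card ↥(Subgroup.normalizer ((HR K m : Subgroup (RG K m)) : Set (RG K m))) = 2 * (3 ^ (2 * m + 1) - 1) := by
  let f : ↥(HR K m) ⊕ ↥(HR K m) → ↥(Subgroup.normalizer ((HR K m : Subgroup (RG K m)) : Set (RG K m))) :=
    Sum.elim (fun h => ⟨h, (mem_normalizer_HR_iff hK hm _).2 (Or.inl h.2)⟩)
      (fun h => ⟨nEl hK * h, (mem_normalizer_HR_iff hK hm _).2 (Or.inr ⟨h, h.2, rfl⟩)⟩)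
  have hnn : ∀ a b : ↥(HR K m), (a : RG K m) ≠ nEl hK * b := fun a b h => nEl_not_mem hK (by
    rw [show nEl hK = (a : RG K m) * (b : RG K m)⁻¹ by rw [h, mul_inv_cancel_right]]
    exact (split hK).H_le (mul_mem a.2 (inv_mem b.2)))
  have hf : Function.Bijective f := by
    refine ⟨?_, fun g => ?_⟩
    · rintro (a | a) (b | b) e <;> have e' := congrArg Subtype.val e <;> simp only [f, Sum.elim_inl, Sum.elim_inr] at e'
      · rw [Subtype.ext e']
      · exact absurd e' (hnn _ _)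
      · exact absurd e'.symm (hnn _ _)
      · rw [Subtype.ext (mul_left_cancel e')]
    · rcases (mem_normalizer_HR_iff hK hm _).1 g.2 with h | ⟨k, hk, e⟩
      · exact ⟨Sum.inl ⟨g, h⟩, rfl⟩
      · exact ⟨Sum.inr ⟨k, hk⟩, Subtype.ext e.symm⟩
  rw [← Nat.card_eq_of_bijective f hf, Nat.card_sum, card_HR hK]
  ring

theorem normalizer_of_le_HR (hm : 1 ≤ m) {A : Subgroup (RG K m)} (hA : A ≤ HR K m) {c : Kˣ}
    (hc : (c : K) ^ 2 ≠ 1) (hcA : hEl hK c ∈ A) :
    Subgroup.normalizer (A : Set (RG K m)) = Subgroup.normalizer ((HR K m : Subgroup (RG K m)) : Set (RG K m)) := by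
  refine le_antisymm (fun g hg => ?_) (fun g hg => ?_)
  · exact (mem_normalizer_HR_iff hK hm g).2
      (conj_mem_HR_cases hK hc (hA ((Subgroup.mem_normalizer_iff.1 hg _).1 hcA)))
  · have hH : ∀ h ∈ HR K m, h ∈ Subgroup.normalizer (A : Set (RG K m)) := fun h hh => by
      rw [Subgroup.mem_normalizer_iff]
      intro y
      refine ⟨fun hy => ?_, fun hy => ?_⟩
      · rwa [HR_comm hK hh (hA hy), mul_inv_cancel_right]
      · have h' := HR_comm hK (inv_mem hh) (hA hy)
        have e : y = h * y * h⁻¹ := by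
          calc y = h⁻¹ * (h * y * h⁻¹) * h := by group
            _ = h * y * h⁻¹ := by rw [h']; group
        exact e.symm ▸ hy
    have hn : nEl hK ∈ Subgroup.normalizer (A : Set (RG K m)) := by
      have e1 : ∀ y ∈ HR K m, nEl hK * y * (nEl hK)⁻¹ = y⁻¹ := fun y hy => by
        obtain ⟨d, rfl⟩ := (mem_HR_iff hK _).1 hy
        rw [exists_inverter hK hm, map_inv]
      rw [Subgroup.mem_normalizer_iff]
      intro y
      refine ⟨fun hy => ?_, fun hy => ?_⟩
      · rw [e1 y (hA hy)]; exact inv_mem hy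
      · have h2 : y ∈ HR K m := by simpa [mul_assoc] using (split hK).conj_H _ (hA hy)
        rw [e1 y h2] at hy
        simpa using inv_mem hy
    rcases (mem_normalizer_HR_iff hK hm g).1 hg with h | ⟨k, hk, rfl⟩
    · exact hH g h
    · exact mul_mem hn (hH k hk)

end CfsgLib.Lie.Ree
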