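/-
Centralisers of elements of order dividing q² - q + 1 in a small Ree group.
-/
import Cfsg.Agent.Lib.Lie.Twisted.Ree.Split
import Cfsg.Agent.Lib.Lie.Twisted.Ree.Seven
import Cfsg.Agent.Lib.Lie.SevenEigen
import Mathlib.RingTheory.IntegralDomain
import Mathlib.Data.ZMod.Units

set_option autoImplicit false

namespace CfsgLib.Lie.Ree

open Cfsg.Lie CfsgLib.Lie CfsgLib.Lie.Chev CfsgLib.Lie.Chev.TwGroups

/-- the norm `q² - q + 1` -/
def nSix (m : ℕ) : ℕ := 3 ^ (2 * m + 1) * (3 ^ (2 * m + 1) - 1) + 1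

theorem six_prime {m p : ℕ} (hp : p.Prime) (hd : p ∣ nSix m) :
    p ≠ 2 ∧ p ≠ 3 ∧ (3 ^ (2 * m + 1)) ^ 6 % p = 1 ∧ (∀ i, 0 < i → i < 6 → (3 ^ (2 * m + 1)) ^ i % p ≠ 1) ∧
      ¬ p ∣ 3 ^ (2 * m + 1) ∧ ¬ p ∣ 3 ^ (2 * m + 1) - 1 ∧ ¬ p ∣ 3 ^ (2 * m + 1) + 1 := by
  obtain ⟨q, hq⟩ : ∃ q, q = 3 ^ (2 * m + 1) := ⟨_, rfl⟩
  have hq1 : 1 ≤ q := hq ▸ Nat.one_le_pow _ _ three_pos
  have h3q : 3 ∣ q := hq ▸ dvd_pow_self 3 (by omega)
  simp only [nSix, ← hq] at hd ⊢
  have : Fact p.Prime := ⟨hp⟩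
  have e : (q : ZMod p) ^ 2 - q + 1 = 0 := by
    have h := (ZMod.natCast_eq_zero_iff (q * (q - 1) + 1) p).2 hd
    push_cast [Nat.cast_sub hq1] at h
    linear_combination h
  have hp3 : p ≠ 3 := by
    rintro rfl
    have : 3 ∣ q * (q - 1) := Dvd.dvd.mul_right h3q _
    omega
  have hne3 : (3 : ZMod p) ≠ 0 := fun h => hp3 ((Nat.prime_dvd_prime_iff_eq hp Nat.prime_three).1
    ((ZMod.natCast_eq_zero_iff _ _).1 (by exact_mod_cast h)))
  have hq0 : (q : ZMod p) ≠ 0 := fun h => by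
    rw [h] at e; simp at e
  have hone : (q : ZMod p) ≠ 1 := fun h => by
    rw [h] at e; simp at e
  have hneg : (q : ZMod p) ≠ -1 := fun h => by
    rw [h] at e; exact hne3 (by linear_combination e)
  have h3 : (q : ZMod p) ^ 3 = -1 := by linear_combination ((q : ZMod p) + 1) * e
  have hp2 : p ≠ 2 := by
    rintro rfl
    have : 2 ∣ q * (q - 1) := (Nat.even_mul_pred_self q).two_dvd
    omega
  have hne2 : (2 : ZMod p) ≠ 0 := fun h => hp2 ((Nat.prime_dvd_prime_iff_eq hp Nat.prime_two).1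
    ((ZMod.natCast_eq_zero_iff _ _).1 (by exact_mod_cast h)))
  have conv : ∀ i, q ^ i % p = 1 ↔ (q : ZMod p) ^ i = 1 := fun i => by
    have h := ZMod.natCast_eq_natCast_iff' (q ^ i) 1 p
    rw [Nat.mod_eq_of_lt hp.one_lt, Nat.cast_one, Nat.cast_pow] at h
    exact h.symm
  refine ⟨hp2, hp3, (conv 6).2 (by linear_combination ((q : ZMod p) ^ 3 - 1) * h3), ?_, ?_, ?_, ?_⟩
  · intro i hi0 hi6 hi
    rw [conv] at hi
    interval_cases i
    · exact hone (by simpa using hi)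
    · rcases sq_eq_one_iff.1 hi with h | h
      · exact hone h
      · exact hneg h
    · exact hne2 (by linear_combination h3 - hi)
    · refine hneg ?_
      linear_combination ((q : ZMod p)) * h3 - hi
    · refine hne2 ?_
      have h2 : (q : ZMod p) ^ 2 = -1 := by linear_combination (q : ZMod p) ^ 2 * h3 - hi
      exact absurd (by linear_combination h2 - e : (q : ZMod p) = 0) hq0
  · intro h
    exact hq0 ((ZMod.natCast_eq_zero_iff _ _).2 h)
  · intro h
    have := (ZMod.natCast_eq_zero_iff (q - 1) p).2 h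
    rw [Nat.cast_sub hq1, Nat.cast_one, sub_eq_zero] at this
    exact hone this
  · intro h
    have := (ZMod.natCast_eq_zero_iff (q + 1) p).2 h
    push_cast at this
    exact hneg (eq_neg_of_add_eq_zero_left this)

variable {K : Type*} [Field K] [Fintype K] {m : ℕ} (hK : Fintype.card K = 3 ^ (2 * m + 1))
include hK

theorem card_RG' : Nat.card (RG K m) =
    (3 ^ (2 * m + 1)) ^ 3 * (3 ^ (2 * m + 1) - 1) * ((3 ^ (2 * m + 1) + 1) * nSix m) := by
  rw [card_RG hK, nSix]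
  obtain ⟨k, hk⟩ : ∃ k, 3 ^ (2 * m + 1) = k + 1 := ⟨3 ^ (2 * m + 1) - 1, by
    have := Nat.one_le_pow (2 * m + 1) 3 three_pos; omega⟩
  rw [hk, Nat.add_sub_cancel]
  ring

theorem not_dvd_index_HR {l : ℕ} (hl : l.Prime) (hl2 : l ≠ 2) (hd : l ∣ 3 ^ (2 * m + 1) - 1) :
    ¬ l ∣ (HR K m).index := by
  obtain ⟨k, hk⟩ : ∃ k, 3 ^ (2 * m + 1) = k + 1 := ⟨3 ^ (2 * m + 1) - 1, by
    have := Nat.one_le_pow (2 * m + 1) 3 three_pos; omega⟩
  intro h
  have h0 := (HR K m).card_mul_index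
  rw [card_HR hK, card_RG hK, hk, Nat.add_sub_cancel] at h0
  rw [hk, Nat.add_sub_cancel] at hd
  have hkpos : 0 < k := by
    have h3 : 3 ^ 1 ≤ 3 ^ (2 * m + 1) := Nat.pow_le_pow_right three_pos (by omega)
    omega
  have hidx : (HR K m).index = (k + 1) ^ 3 * ((k + 1) ^ 3 + 1) :=
    Nat.eq_of_mul_eq_mul_left hkpos (by rw [h0]; ring)
  rw [hidx] at h
  rcases (Nat.Prime.dvd_mul hl).1 h with h | h
  · have := (Nat.dvd_add_right hd).1 (hl.dvd_of_dvd_pow h)
    exact hl.one_lt.ne' (Nat.dvd_one.1 this)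
  · obtain ⟨d, rfl⟩ := hd
    have : l ∣ 2 := (Nat.dvd_add_right (Dvd.intro _ rfl : l ∣ l * (d * ((l * d) ^ 2 + 3 * (l * d) + 3)))).1
      (by convert h using 1; ring)
    exact hl2 ((Nat.prime_dvd_prime_iff_eq hl Nat.prime_two).1 this)

theorem hEl_sq_ne_of_odd {c : Kˣ} {l : ℕ} (hl : l.Prime) (hl2 : l ≠ 2) (ho : orderOf (hEl hK c) = l) :
    (c : K) ^ 2 ≠ 1 := fun h => by
  have h2 : orderOf (hEl hK c) ∣ 2 := orderOf_dvd_of_pow_eq_one (by
    rw [← map_pow, show c ^ 2 = 1 from Units.ext (by rw [Units.val_pow_eq_pow_val, h, Units.val_one]), map_one])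
  rw [ho] at h2
  exact hl2 ((Nat.prime_dvd_prime_iff_eq hl Nat.prime_two).1 h2)

/-- an element commuting with a prime element sees the prime in its centraliser -/
theorem prime_dvd_centralizer {x y : RG K m} (h : y * x = x * y) {p : ℕ} (hx : orderOf x = p) :
    p ∣ Nat.card ↥(Subgroup.centralizer {y}) := by
  have hmem : x ∈ Subgroup.centralizer {y} := Subgroup.mem_centralizer_singleton_iff.2 h.symm
  rw [← hx, ← Subgroup.orderOf_mk x hmem]
  exact orderOf_dvd_natCard _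

theorem dvd_of_commute_three {x y : RG K m} (h : y * x = x * y) {p : ℕ} (hx : orderOf x = p)
    (hy : orderOf y = 3) (hm : 1 ≤ m) : p ∣ (3 ^ (2 * m + 1)) ^ 3 * (3 ^ (2 * m + 1) - 1) := by
  have : Fact (Nat.Prime 3) := ⟨Nat.prime_three⟩
  obtain ⟨P, hP⟩ := exists_sylow_three hK hm
  obtain ⟨g, hg⟩ := exists_conj_mem_of_not_dvd_index (A := UR K m) (k := 1) Nat.prime_three
    (by rw [UR, ← hP]; exact P.not_dvd_index) (x := y) (by have := pow_orderOf_eq_one y; rw [hy] at this; rwa [pow_one])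
  have hne : g⁻¹ * y * g ≠ 1 := fun e => by
    have : y = 1 := by
      calc y = g * (g⁻¹ * y * g) * g⁻¹ := by group
        _ = 1 := by rw [e]; group
    rw [this, orderOf_one] at hy
    norm_num at hy
  have h1 := card_centralizer_conj g⁻¹ y
  rw [inv_inv] at h1
  exact (prime_dvd_centralizer hK h hx).trans
    (h1 ▸ card_BR hK ▸ Subgroup.card_dvd_of_le (centralizer_UR_le hK hg hne))

theorem dvd_of_commute_split {x y : RG K m} (h : y * x = x * y) {p l : ℕ} (hx : orderOf x = p)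
    (hy : orderOf y = l) (hl : l.Prime) (hl2 : l ≠ 2) (hd : l ∣ 3 ^ (2 * m + 1) - 1) (hm : 1 ≤ m) :
    p ∣ 3 ^ (2 * m + 1) - 1 := by
  obtain ⟨g, hg⟩ := exists_conj_mem_of_not_dvd_index (k := 1) hl (not_dvd_index_HR hK hl hl2 hd) (x := y)
    (by rw [pow_one]; exact hy ▸ pow_orderOf_eq_one y)
  obtain ⟨c, hc⟩ := (mem_HR_iff hK _).1 hg
  have ho : orderOf (hEl hK c) = l := by
    rw [← hc, ← hy]
    have := MulEquiv.orderOf_eq (MulAut.conj g⁻¹) y
    rw [MulAut.conj_apply, inv_inv] at this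
    exact this
  have h1 := card_centralizer_conj g⁻¹ y
  rw [inv_inv, hc, centralizer_hEl hK hm (hEl_sq_ne_of_odd hK hl hl2 ho), card_HR hK] at h1
  exact h1 ▸ prime_dvd_centralizer hK h hx

theorem dvd_of_commute_two {x y : RG K m} (h : y * x = x * y) {p : ℕ} (hx : orderOf x = p)
    (hy : orderOf y = 2) (hm : 1 ≤ m) :
    p ∣ 3 ^ (2 * m + 1) * (3 ^ (2 * m + 1) - 1) * (3 ^ (2 * m + 1) + 1) := by
  obtain ⟨g, hg⟩ := involution_conj hK hm (z := y) (by rw [← sq, ← hy]; exact pow_orderOf_eq_one _)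
    (fun e => by rw [e, orderOf_one] at hy; norm_num at hy)
  rw [← card_centralizer_jEl hK, ← card_centralizer_conj g (jEl hK), hg]
  exact prime_dvd_centralizer hK h hx

/-- a character of the centraliser of an element of order prime to `6(q² - 1)` -/
theorem centralizer_six (hm : 1 ≤ m) {p : ℕ} (hp : p.Prime) (hd : p ∣ nSix m) {x : RG K m} (hx : orderOf x = p) :
    IsCyclic ↥(Subgroup.centralizer {x}) ∧
    (∀ y ∈ Subgroup.centralizer {x}, Nat.Coprime (orderOf y) (6 * (3 ^ (2 * m + 1) - 1))) ∧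
    (∀ (g : RG K m) (k : ℕ), g * x * g⁻¹ = x ^ k → ∃ i < 6, (k * (3 ^ (2 * m + 1)) ^ i) % p = 1) := by
  obtain ⟨hp2, hp3, h6, hord, hpq, hpq1, hpq2⟩ := six_prime hp hd
  have hnd : ¬ p ∣ (3 ^ (2 * m + 1)) ^ 3 * (3 ^ (2 * m + 1) - 1) := fun h => by
    rcases hp.dvd_mul.1 h with h | h
    · exact hpq (hp.dvd_of_dvd_pow h)
    · exact hpq1 h
  have hcop : ∀ y ∈ Subgroup.centralizer {x}, Nat.Coprime (orderOf y) (6 * (3 ^ (2 * m + 1) - 1)) := by
    intro y hy
    rw [Subgroup.mem_centralizer_singleton_iff] at hy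
    refine Nat.coprime_of_dvd fun l hl hl1 hl2 => ?_
    obtain ⟨a, ha⟩ := hl1
    have ha0 : a ≠ 0 := fun e => by rw [e, mul_zero] at ha; exact (orderOf_pos y).ne' ha
    have hyl : orderOf (y ^ a) = l := by
      rw [orderOf_pow' y ha0, ha, Nat.gcd_mul_left_left, Nat.mul_div_cancel _ (Nat.pos_of_ne_zero ha0)]
    have hcomm : y ^ a * x = x * y ^ a := (show Commute y x from hy).pow_left a
    rcases eq_or_ne l 2 with rfl | l2
    · have h := dvd_of_commute_two hK hcomm hx hyl hm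
      rcases hp.dvd_mul.1 h with h | h
      · rcases hp.dvd_mul.1 h with h | h
        · exact hpq h
        · exact hpq1 h
      · exact hpq2 h
    rcases eq_or_ne l 3 with rfl | l3
    · exact hnd (dvd_of_commute_three hK hcomm hx hyl hm)
    · have hl6 : l ∣ 3 ^ (2 * m + 1) - 1 := by
        rcases hl.dvd_mul.1 hl2 with h | h
        · rcases hl.dvd_mul.1 (show l ∣ 2 * 3 from h) with h | h
          · exact absurd ((Nat.prime_dvd_prime_iff_eq hl Nat.prime_two).1 h) l2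
          · exact absurd ((Nat.prime_dvd_prime_iff_eq hl Nat.prime_three).1 h) l3
        · exact h
      exact hpq1 (dvd_of_commute_split hK hcomm hx hyl hl l2 hl6 hm)
  have hinj := rho_injective hK hm
  have hinjM : Function.Injective (rhoM hK) := fun a b h => hinj (Units.ext h)
  obtain ⟨L, _, lam, χ, hmul, hone, hker, hnorm⟩ := SevenEigen.exists_character (F := K) (three_eq_zero_G2 hK) hp hp3
    (by rw [hK]; exact h6) (fun i h0 h1 => by rw [hK]; exact hord i h0 h1) (rhoM hK x)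
    (by rw [← map_pow, ← hx, pow_orderOf_eq_one, map_one])
    (fun e => by
      have : x = 1 := hinjM (e.trans (map_one _).symm)
      rw [this, orderOf_one] at hx
      exact hp.one_lt.ne hx)
  have hc : ∀ y : ↥(Subgroup.centralizer {x}), rhoM hK (y : RG K m) * rhoM hK x = rhoM hK x * rhoM hK (y : RG K m) :=
    fun y => by rw [← map_mul, ← map_mul, Subgroup.mem_centralizer_singleton_iff.1 y.2]
  let f : ↥(Subgroup.centralizer {x}) →* L :=
    { toFun := fun y => χ ⟨rhoM hK (y : RG K m), hc y⟩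
      map_one' := hone _ (show rhoM hK ((1 : ↥(Subgroup.centralizer {x})) : RG K m) = 1 by
        rw [Subgroup.coe_one, map_one])
      map_mul' := fun a b => hmul _ _ _ (show rhoM hK ((a * b : ↥(Subgroup.centralizer {x})) : RG K m) =
        rhoM hK (a : RG K m) * rhoM hK (b : RG K m) by rw [Subgroup.coe_mul, map_mul]) }
  have hf : Function.Injective f := by
    intro a b e
    have h1 : f (a * b⁻¹) = 1 := by
      rw [map_mul, e, ← map_mul, mul_inv_cancel, map_one]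
    have h2 := hker ⟨rhoM hK ((a * b⁻¹ : ↥(Subgroup.centralizer {x})) : RG K m), hc _⟩
      (orderOf ((a * b⁻¹ : ↥(Subgroup.centralizer {x})) : RG K m))
      (by rw [hK]; exact Nat.Coprime.coprime_dvd_right (Dvd.intro_left _ rfl) (hcop _ (a * b⁻¹).2))
      (by rw [← map_pow, pow_orderOf_eq_one, map_one]) h1
    have h3 : a * b⁻¹ = 1 := Subtype.ext (hinjM (h2.trans (map_one _).symm))
    exact mul_inv_eq_one.1 h3
  refine ⟨isCyclic_of_injective_ringHom f hf, hcop, fun g k hk => ?_⟩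
  have hu : IsUnit (rhoM hK g) := ⟨rho hK g, rfl⟩
  obtain ⟨i, hi, e⟩ := hnorm (rhoM hK g) k hu (by rw [← map_pow, ← map_mul, ← map_mul, ← hk, inv_mul_cancel_right])
  rw [hK] at e
  exact ⟨i, hi, e⟩

theorem normalizer_six_index (hm : 1 ≤ m) {p : ℕ} (hp : p.Prime) (hd : p ∣ nSix m) {x : RG K m} (hx : orderOf x = p) :
    (Subgroup.centralizer {x}).relIndex
      (Subgroup.normalizer (Subgroup.zpowers x : Set (RG K m))) ∣ 6 := by
  have : Fact p.Prime := ⟨hp⟩
  obtain ⟨-, -, h6, -, hpq, -, -⟩ := six_prime hp hd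
  obtain ⟨-, -, hnorm⟩ := centralizer_six hK hm hp hd hx
  obtain ⟨N, hN⟩ : ∃ N, N = Subgroup.normalizer (Subgroup.zpowers x : Set (RG K m)) := ⟨_, rfl⟩
  rw [← hN]
  have hex : ∀ g : ↥N, ∃ k : ℕ, (g : RG K m) * x * (g : RG K m)⁻¹ = x ^ k := fun g => by
    have h := (Subgroup.mem_normalizer_iff.1 (hN.le g.2) x).1 (Subgroup.mem_zpowers x)
    obtain ⟨k, hk⟩ := (isOfFinOrder_of_finite x).mem_powers_iff_mem_zpowers.2 h
    exact ⟨k, hk.symm⟩
  choose k hk using hex
  have cast_eq : ∀ a b : ℕ, x ^ a = x ^ b → (a : ZMod p) = (b : ZMod p) := fun a b h => by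
    rw [ZMod.natCast_eq_natCast_iff]
    rw [pow_eq_pow_iff_modEq, hx] at h
    exact h
  let f0 : ↥N →* ZMod p :=
    { toFun := fun g => (k g : ZMod p)
      map_one' := by
        rw [← Nat.cast_one]
        refine cast_eq _ _ ?_
        rw [← hk, pow_one, Subgroup.coe_one, one_mul, inv_one, mul_one]
      map_mul' := fun a b => by
        rw [← Nat.cast_mul]
        refine cast_eq _ _ ?_
        rw [← hk, Subgroup.coe_mul, mul_comm (k a), pow_mul]
        calc (a : RG K m) * b * x * ((a : RG K m) * b)⁻¹ = a * ((b : RG K m) * x * (b : RG K m)⁻¹) * (a : RG K m)⁻¹ := by group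
          _ = ((a : RG K m) * x * (a : RG K m)⁻¹) ^ k b := by rw [hk b, ← MulAut.conj_apply, map_pow, MulAut.conj_apply]
          _ = _ := by rw [hk a, ← pow_mul, ← pow_mul, mul_comm] }
  have hker : f0.toHomUnits.ker = (Subgroup.centralizer {x}).subgroupOf N := by
    ext g
    rw [MonoidHom.mem_ker, Units.ext_iff, MonoidHom.coe_toHomUnits, Units.val_one, Subgroup.mem_subgroupOf,
      Subgroup.mem_centralizer_singleton_iff]
    show (k g : ZMod p) = 1 ↔ _
    constructor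
    · intro h
      have h1 : x ^ k g = x ^ 1 := by
        rw [pow_eq_pow_iff_modEq, hx, ← ZMod.natCast_eq_natCast_iff, h, Nat.cast_one]
      rw [← hk g, pow_one] at h1
      exact mul_inv_eq_iff_eq_mul.1 h1
    · intro h
      rw [← Nat.cast_one]
      refine cast_eq _ _ ?_
      rw [← hk g, pow_one]
      exact mul_inv_eq_iff_eq_mul.2 h
  obtain ⟨u, hu⟩ : ∃ u : (ZMod p)ˣ, (u : ZMod p) = ((3 ^ (2 * m + 1) : ℕ) : ZMod p) :=
    ⟨Units.mk0 _ (fun h => hpq ((ZMod.natCast_eq_zero_iff _ _).1 h)), rfl⟩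
  have hu6 : u ^ 6 = 1 := by
    refine Units.ext ?_
    rw [Units.val_pow_eq_pow_val, hu, Units.val_one, ← Nat.cast_pow, ← ZMod.natCast_mod, h6, Nat.cast_one]
  have hle : f0.toHomUnits.range ≤ Subgroup.zpowers u := by
    rintro _ ⟨g, rfl⟩
    obtain ⟨i, -, hi⟩ := hnorm g (k g) (hk g)
    have e : f0.toHomUnits g = (u ^ i)⁻¹ := by
      refine eq_inv_of_mul_eq_one_left (Units.ext ?_)
      rw [Units.val_mul, MonoidHom.coe_toHomUnits, Units.val_pow_eq_pow_val, hu, Units.val_one]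
      show (k g : ZMod p) * _ = 1
      rw [← Nat.cast_pow, ← Nat.cast_mul, ← ZMod.natCast_mod, hi, Nat.cast_one]
    rw [e]
    exact inv_mem (pow_mem (Subgroup.mem_zpowers u) i)
  rw [Subgroup.relIndex, ← hker, Subgroup.index_ker]
  exact (Subgroup.card_dvd_of_le hle).trans (by rw [Nat.card_zpowers]; exact orderOf_dvd_of_pow_eq_one hu6)

end CfsgLib.Lie.Ree
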