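/-
Orders of the elements of a Borel subgroup of a small Ree group.
-/
import Cfsg.Agent.Lib.Lie.Twisted.Ree.Six
import Cfsg.Agent.Lib.Lie.Twisted.Ree.Count

set_option autoImplicit false

namespace CfsgLib.Lie.Ree

open Cfsg.Lie CfsgLib.Lie CfsgLib.Lie.Chev CfsgLib.Lie.Chev.TwGroups

variable {K : Type*} [Field K] [Fintype K] {m : ℕ} (hK : Fintype.card K = 3 ^ (2 * m + 1))
include hK

/-- the parameters of the Borel subgroup -/
theorem BR_form {b : RG K m} (hb : b ∈ BR K m) : ∃ t u v, ∃ c : Kˣ, b = uEl m t u v * hEl hK c := by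
  obtain ⟨a, ha, h, hh, rfl⟩ := (split hK).factor b hb
  obtain ⟨t, u, v, rfl⟩ := (mem_UR_iff hK _).1 ha
  obtain ⟨c, rfl⟩ := (mem_HR_iff hK _).1 hh
  exact ⟨t, u, v, c, rfl⟩

theorem uEl_cube (t u v : K) : uEl m t u v ^ 3 = uEl m 0 0 (-((t ^ 3 ^ m) ^ 3 * t ^ 2)) := by
  have h3 : (3 : K) = 0 := three_eq_zero_G2 hK
  rw [pow_succ, sq, uEl_mul hK, uEl_mul hK]
  congr 1
  · linear_combination t * h3
  · linear_combination (u - (t ^ 3 ^ m) ^ 3 * t) * h3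
  · linear_combination (v - t * u) * h3

theorem uEl_eq_one_iff {t u v : K} : (uEl m t u v : RG K m) = 1 ↔ t = 0 ∧ u = 0 ∧ v = 0 := by
  rw [← uEl_zero hK]
  exact ⟨uEl_inj hK, fun ⟨a, b, c⟩ => by rw [a, b, c]⟩

/-- the order of a unipotent element -/
theorem orderOf_uEl (t u v : K) :
    (orderOf (uEl m t u v : RG K m) = 1 ∧ t = 0 ∧ u = 0 ∧ v = 0) ∨
    (orderOf (uEl m t u v : RG K m) = 3 ∧ t = 0 ∧ ¬(u = 0 ∧ v = 0)) ∨
    (orderOf (uEl m t u v : RG K m) = 9 ∧ t ≠ 0) := by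
  have h3 := uEl_cube hK t u v
  rcases eq_or_ne t 0 with ht | ht
  · by_cases h : u = 0 ∧ v = 0
    · exact Or.inl ⟨orderOf_eq_one_iff.2 ((uEl_eq_one_iff hK).2 ⟨ht, h.1, h.2⟩), ht, h.1, h.2⟩
    · refine Or.inr (Or.inl ⟨?_, ht, h⟩)
      have : Fact (Nat.Prime 3) := ⟨Nat.prime_three⟩
      refine orderOf_eq_prime ?_ fun e => h ((uEl_eq_one_iff hK).1 e).2
      rw [h3, uEl_eq_one_iff hK]
      simp [ht]
  · refine Or.inr (Or.inr ⟨?_, ht⟩)
    have : Fact (Nat.Prime 3) := ⟨Nat.prime_three⟩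
    refine orderOf_eq_prime_pow (p := 3) (n := 1) ?_ ?_
    · rw [pow_one, h3, uEl_eq_one_iff hK]
      simp [ht]
    · rw [show 3 ^ (1 + 1) = 3 * 3 from rfl, pow_mul, h3, uEl_cube hK, uEl_eq_one_iff hK]
      simp

theorem jEl_conj_uEl (t u v : K) : jEl hK * uEl m t u v * (jEl hK)⁻¹ = uEl m (-t) u (-v) := by
  have h : ((-1 : K) ^ 3 ^ m) ^ 3 = -1 := by
    rw [← pow_mul, Odd.neg_one_pow (Odd.mul (Odd.pow (by decide)) (by decide))]
  rw [jEl, hEl_conj_uEl hK]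
  simp only [Units.val_neg, Units.val_one, h]
  congr 1 <;> simp

/-- the order of an element of the Borel subgroup over the involution of the torus -/
theorem orderOf_uEl_jEl (t u v : K) :
    (orderOf (uEl m t u v * jEl hK) = 2 ∧ u = (t ^ 3 ^ m) ^ 3 * t) ∨
    (orderOf (uEl m t u v * jEl hK) = 6 ∧ u ≠ (t ^ 3 ^ m) ^ 3 * t) := by
  have h3 : (3 : K) = 0 := three_eq_zero_G2 hK
  obtain ⟨T, hT⟩ : ∃ T, T = (t ^ 3 ^ m) ^ 3 := ⟨_, rfl⟩
  have hodd : ((-t) ^ 3 ^ m) ^ 3 = -T := by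
    rw [hT, Odd.neg_pow (Odd.pow (by decide)), Odd.neg_pow (by decide)]
  obtain ⟨b, hb⟩ : ∃ b, b = uEl m t u v * jEl hK := ⟨_, rfl⟩
  have hjj : (jEl hK)⁻¹ = jEl hK := inv_eq_of_mul_eq_one_right (jEl_mul_self hK)
  have h2 : b ^ 2 = uEl m 0 (2 * u + T * t) (t * u + 2 * (T * t ^ 2)) := by
    rw [sq, hb, show uEl m t u v * jEl hK * (uEl m t u v * jEl hK) =
      uEl m t u v * (jEl hK * uEl m t u v * (jEl hK)⁻¹) by rw [hjj]; group, jEl_conj_uEl hK, uEl_mul hK, hodd]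
    congr 1 <;> ring
  rw [← hb, ← hT]
  have hb1 : b ≠ 1 := fun e => by
    have e' : jEl hK ∈ UR K m := by
      have e2 : uEl m t u v * jEl hK = 1 := by rw [← hb]; exact e
      rw [eq_inv_of_mul_eq_one_right e2]
      exact inv_mem (uEl_mem hK _ _ _)
    exact jEl_ne_one hK (UR_inf_HR hK e' (hEl_mem hK _))
  have : Fact (Nat.Prime 2) := ⟨Nat.prime_two⟩
  by_cases h : u = T * t
  · refine Or.inl ⟨orderOf_eq_prime ?_ hb1, h⟩
    rw [h2, uEl_eq_one_iff hK]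
    exact ⟨rfl, by rw [h]; linear_combination (T * t) * h3, by rw [h]; linear_combination (T * t ^ 2) * h3⟩
  · refine Or.inr ⟨?_, h⟩
    have ne2 : b ^ 2 ≠ 1 := fun e => by
      rw [h2, uEl_eq_one_iff hK] at e
      exact h (by linear_combination -e.2.1 + u * h3)
    have h6 : b ^ 6 = 1 := by
      rw [show (6 : ℕ) = 2 * 3 from rfl, pow_mul, h2, uEl_cube hK, uEl_eq_one_iff hK]
      simp
    have ne3 : b ^ 3 ≠ 1 := fun e => by
      have hbU : b ∈ UR K m := by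
        have : b = (b ^ 2)⁻¹ := by rw [eq_inv_iff_mul_eq_one, ← pow_succ', e]
        rw [this, h2]
        exact inv_mem (uEl_mem hK _ _ _)
      have hj : jEl hK ∈ UR K m := by
        rw [show jEl hK = (uEl m t u v : RG K m)⁻¹ * b by rw [hb]; group]
        exact mul_mem (inv_mem (uEl_mem hK _ _ _)) hbU
      exact jEl_ne_one hK (UR_inf_HR hK hj (hEl_mem hK _))
    have six : ∀ o : ℕ, o ∣ 6 → ¬ o ∣ 2 → ¬ o ∣ 3 → o = 6 := fun o h h' h'' => by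
      have := Nat.le_of_dvd (by norm_num) h
      interval_cases o <;> revert h h' h'' <;> decide
    exact six _ (orderOf_dvd_of_pow_eq_one h6) (fun h' => ne2 (orderOf_dvd_iff_pow_eq_one.1 h'))
      (fun h' => ne3 (orderOf_dvd_iff_pow_eq_one.1 h'))

/-- the other elements of the Borel subgroup are conjugate into the torus -/
theorem conj_HR_of_BR {c : Kˣ} (hc : (c : K) ^ 2 ≠ 1) {a : RG K m} (ha : a ∈ UR K m) :
    ∃ g ∈ UR K m, g * hEl hK c * g⁻¹ = a * hEl hK c := by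
  have hmem : ∀ g ∈ UR K m, g * (hEl hK c * g⁻¹ * (hEl hK c)⁻¹) ∈ UR K m := fun g hg =>
    mul_mem hg ((split hK).conj_U _ (hEl_mem hK c) _ (inv_mem hg))
  have hinj : Function.Injective (fun g : ↥(UR K m) =>
      (⟨_, hmem g g.2⟩ : ↥(UR K m))) := by
    intro g g' e
    have e1 : (g : RG K m) * hEl hK c * (g : RG K m)⁻¹ = (g' : RG K m) * hEl hK c * (g' : RG K m)⁻¹ := by
      have := congrArg (fun x : ↥(UR K m) => (x : RG K m) * hEl hK c) e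
      simpa [mul_assoc] using this
    refine Subtype.ext (inv_mul_eq_one.1 (commute_uEl_hEl hK hc (mul_mem (inv_mem g'.2) g.2) ?_)).symm
    calc hEl hK c * ((g' : RG K m)⁻¹ * g) = (g' : RG K m)⁻¹ * ((g' : RG K m) * hEl hK c * (g' : RG K m)⁻¹) * g := by group
      _ = _ := by rw [← e1]; group
  obtain ⟨g, hg⟩ := (Finite.injective_iff_surjective.1 hinj) ⟨a, ha⟩
  refine ⟨g, g.2, ?_⟩
  rw [← show (g : RG K m) * (hEl hK c * (g : RG K m)⁻¹ * (hEl hK c)⁻¹) = a from congrArg Subtype.val hg]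
  group

theorem orderOf_BR_other {c : Kˣ} (hc : (c : K) ^ 2 ≠ 1) {a : RG K m} (ha : a ∈ UR K m) :
    orderOf (a * hEl hK c) ∣ 3 ^ (2 * m + 1) - 1 := by
  obtain ⟨g, -, hg⟩ := conj_HR_of_BR hK hc ha
  rw [← hg, ← MulAut.conj_apply, MulEquiv.orderOf_eq, ← card_HR hK, ← Subgroup.orderOf_mk _ (hEl_mem hK c)]
  exact orderOf_dvd_natCard _

/-- the cases for an element of the Borel subgroup -/
theorem BR_cases {b : RG K m} (hb : b ∈ BR K m) :
    (∃ t u v, b = uEl m t u v) ∨ (∃ t u v, b = uEl m t u v * jEl hK) ∨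
      (orderOf b ∣ 3 ^ (2 * m + 1) - 1) := by
  obtain ⟨t, u, v, c, rfl⟩ := BR_form hK hb
  by_cases hc : (c : K) ^ 2 = 1
  · rcases sq_eq_one_iff.1 hc with h | h
    · exact Or.inl ⟨t, u, v, by rw [show c = 1 from Units.ext h, map_one, mul_one]⟩
    · refine Or.inr (Or.inl ⟨t, u, v, ?_⟩)
      rw [jEl, show c = -1 from Units.ext (by rw [h, Units.val_neg, Units.val_one])]
  · exact Or.inr (Or.inr (orderOf_BR_other hK hc (uEl_mem hK _ _ _)))

omit hK [Fintype K] in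
theorem three_not_dvd (m : ℕ) : ¬ 3 ∣ 3 ^ (2 * m + 1) - 1 := fun h => by
  have h3 : 3 ∣ 3 ^ (2 * m + 1) := dvd_pow_self 3 (by omega)
  have := Nat.one_le_pow (2 * m + 1) 3 three_pos
  omega

/-- the elements of the Borel subgroup with order a multiple of three -/
theorem orderOf_of_three_dvd {b : RG K m} (hb : b ∈ BR K m) (h : 3 ∣ orderOf b) :
    orderOf b = 3 ∨ orderOf b = 6 ∨ orderOf b = 9 := by
  rcases BR_cases hK hb with ⟨t, u, v, rfl⟩ | ⟨t, u, v, rfl⟩ | h'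
  · rcases orderOf_uEl hK t u v with ⟨e, -⟩ | ⟨e, -⟩ | ⟨e, -⟩ <;> omega
  · rcases orderOf_uEl_jEl hK t u v with ⟨e, -⟩ | ⟨e, -⟩ <;> omega
  · exact absurd (h.trans h') (three_not_dvd m)

theorem card_sq_one : Nat.card {x : K × K × K // x.1 = 0 ∧ ¬(x.2.1 = 0 ∧ x.2.2 = 0)} =
    (3 ^ (2 * m + 1)) ^ 2 - 1 := by
  classical
  have h : Fintype.card {x : K × K // ¬ x = 0} = (3 ^ (2 * m + 1)) ^ 2 - 1 := by
    rw [Fintype.card_subtype_compl, Fintype.card_subtype_eq, Fintype.card_prod, hK, sq]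
  rw [← h, ← Nat.card_eq_fintype_card]
  exact Nat.card_congr
    { toFun := fun x => ⟨x.1.2, fun e => x.2.2 ⟨(Prod.ext_iff.1 e).1, (Prod.ext_iff.1 e).2⟩⟩
      invFun := fun x => ⟨(0, x.1), rfl, fun e => x.2 (Prod.ext e.1 e.2)⟩
      left_inv := fun x => Subtype.ext (Prod.ext x.2.1.symm rfl)
      right_inv := fun x => rfl }

theorem card_BR_three :
    Nat.card ({b : RG K m | b ∈ BR K m ∧ orderOf b = 3} : Set (RG K m)) = (3 ^ (2 * m + 1)) ^ 2 - 1 := by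
  rw [← card_sq_one hK]
  symm
  refine Nat.card_eq_of_bijective (fun x => ⟨uEl m x.1.1 x.1.2.1 x.1.2.2, (split hK).U_le (uEl_mem hK _ _ _), ?_⟩)
    ⟨?_, ?_⟩
  · rcases orderOf_uEl hK x.1.1 x.1.2.1 x.1.2.2 with ⟨-, -, e⟩ | ⟨e, -⟩ | ⟨-, e⟩
    · exact absurd e x.2.2
    · exact e
    · exact absurd x.2.1 e
  · intro x y e
    obtain ⟨e1, e2, e3⟩ := uEl_inj hK (by simp only [Subtype.mk.injEq] at e; exact e)
    exact Subtype.ext (Prod.ext e1 (Prod.ext e2 e3))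
  · rintro ⟨b, hb, ho⟩
    rcases BR_cases hK hb with ⟨t, u, v, rfl⟩ | ⟨t, u, v, rfl⟩ | h
    · rcases orderOf_uEl hK t u v with ⟨e, -⟩ | ⟨-, e, e'⟩ | ⟨e, -⟩
      · omega
      · exact ⟨⟨(t, u, v), e, e'⟩, rfl⟩
      · omega
    · rcases orderOf_uEl_jEl hK t u v with ⟨e, -⟩ | ⟨e, -⟩ <;> omega
    · rw [ho] at h; exact absurd h (three_not_dvd m)

theorem card_BR_nine :
    Nat.card ({b : RG K m | b ∈ BR K m ∧ orderOf b = 9} : Set (RG K m)) =
      (3 ^ (2 * m + 1)) ^ 2 * (3 ^ (2 * m + 1) - 1) := by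
  classical
  rw [show (3 ^ (2 * m + 1)) ^ 2 * (3 ^ (2 * m + 1) - 1) = Nat.card (Kˣ × K × K) by
    rw [Nat.card_prod, Nat.card_prod, Nat.card_units, Nat.card_eq_fintype_card, hK]; ring]
  symm
  refine Nat.card_eq_of_bijective (fun x => ⟨uEl m (x.1 : K) x.2.1 x.2.2, (split hK).U_le (uEl_mem hK _ _ _), ?_⟩)
    ⟨?_, ?_⟩
  · rcases orderOf_uEl hK (x.1 : K) x.2.1 x.2.2 with ⟨-, e, -⟩ | ⟨-, e, -⟩ | ⟨e, -⟩
    · exact absurd e x.1.ne_zero
    · exact absurd e x.1.ne_zero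
    · exact e
  · intro x y e
    obtain ⟨e1, e2, e3⟩ := uEl_inj hK (by simp only [Subtype.mk.injEq] at e; exact e)
    exact Prod.ext (Units.ext e1) (Prod.ext e2 e3)
  · rintro ⟨b, hb, ho⟩
    rcases BR_cases hK hb with ⟨t, u, v, rfl⟩ | ⟨t, u, v, rfl⟩ | h
    · rcases orderOf_uEl hK t u v with ⟨e, -⟩ | ⟨e, -⟩ | ⟨-, e⟩
      · omega
      · omega
      · exact ⟨(Units.mk0 t e, u, v), rfl⟩
    · rcases orderOf_uEl_jEl hK t u v with ⟨e, -⟩ | ⟨e, -⟩ <;> omega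
    · exact absurd ((show 3 ∣ orderOf b by rw [ho]; norm_num).trans h) (three_not_dvd m)

theorem card_BR_six :
    Nat.card ({b : RG K m | b ∈ BR K m ∧ orderOf b = 6} : Set (RG K m)) =
      (3 ^ (2 * m + 1)) ^ 2 * (3 ^ (2 * m + 1) - 1) := by
  classical
  rw [show (3 ^ (2 * m + 1)) ^ 2 * (3 ^ (2 * m + 1) - 1) = Nat.card (Kˣ × K × K) by
    rw [Nat.card_prod, Nat.card_prod, Nat.card_units, Nat.card_eq_fintype_card, hK]; ring]
  symm
  refine Nat.card_eq_of_bijective (fun x => ⟨uEl m x.2.1 ((x.2.1 ^ 3 ^ m) ^ 3 * x.2.1 + x.1) x.2.2 * jEl hK,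
    mul_mem ((split hK).U_le (uEl_mem hK _ _ _)) ((split hK).H_le (hEl_mem hK _)), ?_⟩) ⟨?_, ?_⟩
  · rcases orderOf_uEl_jEl hK x.2.1 ((x.2.1 ^ 3 ^ m) ^ 3 * x.2.1 + x.1) x.2.2 with ⟨-, e⟩ | ⟨e, -⟩
    · exact absurd (add_eq_left.1 e) x.1.ne_zero
    · exact e
  · intro x y e
    obtain ⟨e1, e2, e3⟩ := uEl_inj hK (mul_right_cancel (by simp only [Subtype.mk.injEq] at e; exact e))
    rw [e1] at e2
    exact Prod.ext (Units.ext (add_left_cancel e2)) (Prod.ext e1 e3)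
  · rintro ⟨b, hb, ho⟩
    rcases BR_cases hK hb with ⟨t, u, v, rfl⟩ | ⟨t, u, v, rfl⟩ | h
    · rcases orderOf_uEl hK t u v with ⟨e, -⟩ | ⟨e, -⟩ | ⟨e, -⟩ <;> omega
    · rcases orderOf_uEl_jEl hK t u v with ⟨e, -⟩ | ⟨-, e⟩
      · omega
      · refine ⟨(Units.mk0 (u - (t ^ 3 ^ m) ^ 3 * t) (sub_ne_zero.2 e), t, v), Subtype.ext ?_⟩
        simp
    · exact absurd ((show 3 ∣ orderOf b by rw [ho]; norm_num).trans h) (three_not_dvd m)

/-- a unipotent element stays unipotent only under the Borel subgroup -/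
theorem mem_BR_of_conj {g b : RG K m} (hb : b ∈ BR K m) (h3 : 3 ∣ orderOf b) (hgb : g * b * g⁻¹ ∈ BR K m) :
    g ∈ BR K m := by
  have key : ∀ a : RG K m, a ∈ BR K m → orderOf a = 3 → a ∈ UR K m := fun a ha ho => by
    rcases BR_cases hK ha with ⟨t, u, v, rfl⟩ | ⟨t, u, v, rfl⟩ | h
    · exact uEl_mem hK _ _ _
    · rcases orderOf_uEl_jEl hK t u v with ⟨e, -⟩ | ⟨e, -⟩ <;> omega
    · rw [ho] at h; exact absurd h (three_not_dvd m)
  obtain ⟨c, hc⟩ := h3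
  have hc0 : c ≠ 0 := fun e => by rw [e, mul_zero] at hc; exact (orderOf_pos b).ne' hc
  have ho : orderOf (b ^ c) = 3 := by
    rw [orderOf_pow' b hc0, hc, Nat.gcd_mul_left_left, Nat.mul_div_cancel _ (Nat.pos_of_ne_zero hc0)]
  have ho' : orderOf (g * b ^ c * g⁻¹) = 3 := by rw [← MulAut.conj_apply, MulEquiv.orderOf_eq, ho]
  have hx := key _ (pow_mem hb c) ho
  have hy := key _ (by rw [← conj_pow]; exact pow_mem hgb c) ho'
  by_contra hg
  refine absurd ((split hK).inter_conj (g := g⁻¹) (fun h => hg (inv_mem_iff.1 h)) hx (by rwa [inv_inv])) fun e => ?_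
  rw [e, orderOf_one] at ho
  norm_num at ho

end CfsgLib.Lie.Ree
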