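/-
The torus of order `q + 1` inside the centraliser of an involution of a small Ree group.
-/
import Cfsg.Agent.Lib.Lie.Twisted.Ree.Split
import Cfsg.Agent.Lib.Lie.Twisted.Ree.Count
import Mathlib.FieldTheory.IsAlgClosed.AlgebraicClosure
import Mathlib.RingTheory.IntegralDomain

set_option autoImplicit false

namespace CfsgLib.Lie.Ree

open Cfsg.Lie CfsgLib.Lie CfsgLib.Lie.Chev CfsgLib.Lie.Chev.TwGroups
open scoped MatrixGroups

section slPart

variable {K : Type*} [Field K]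

/-- the torus of rotations -/
def slT (K : Type*) [Field K] : Subgroup SL(2, K) where
  carrier := {g | g.1 1 0 = -g.1 0 1 ∧ g.1 1 1 = g.1 0 0}
  mul_mem' {g h} := by
    rintro ⟨g1, g2⟩ ⟨h1, h2⟩
    simp only [Set.mem_setOf_eq, Matrix.SpecialLinearGroup.coe_mul, Matrix.mul_apply, Fin.sum_univ_two, g1, g2, h1, h2]
    constructor <;> ring
  one_mem' := by simp
  inv_mem' {g} := by
    rintro ⟨g1, g2⟩
    simp only [Set.mem_setOf_eq, Matrix.SpecialLinearGroup.coe_inv, Matrix.adjugate_fin_two]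
    simp [g1, g2]

theorem mem_slT_iff {g : SL(2, K)} : g ∈ slT K ↔ g.1 1 0 = -g.1 0 1 ∧ g.1 1 1 = g.1 0 0 := Iff.rfl

theorem slT_det {g : SL(2, K)} (hg : g ∈ slT K) : g.1 0 0 ^ 2 + g.1 0 1 ^ 2 = 1 := by
  have h := g.2
  rw [Matrix.det_fin_two, (mem_slT_iff.1 hg).1, (mem_slT_iff.1 hg).2] at h
  linear_combination h

theorem slT_comm {g h : SL(2, K)} (hg : g ∈ slT K) (hh : h ∈ slT K) : g * h = h * g := by
  obtain ⟨g1, g2⟩ := hg
  obtain ⟨h1, h2⟩ := hh
  refine Subtype.ext (Matrix.ext fun i j => ?_)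
  fin_cases i <;> fin_cases j <;>
    simp [Matrix.SpecialLinearGroup.coe_mul, Matrix.mul_apply, Fin.sum_univ_two, g1, g2, h1, h2] <;> ring

/-- the reflections normalising the torus -/
def slS (K : Type*) [Field K] : Set SL(2, K) := {g | g.1 1 0 = g.1 0 1 ∧ g.1 1 1 = -g.1 0 0}

theorem slS_div {g h : SL(2, K)} (hg : g ∈ slS K) (hh : h ∈ slS K) : g⁻¹ * h ∈ slT K := by
  obtain ⟨g1, g2⟩ := hg
  obtain ⟨h1, h2⟩ := hh
  simp only [mem_slT_iff, Matrix.SpecialLinearGroup.coe_mul, Matrix.SpecialLinearGroup.coe_inv,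
    Matrix.adjugate_fin_two, Matrix.mul_apply, Fin.sum_univ_two]
  refine ⟨?_, ?_⟩ <;> simp [g1, g2, h1, h2] <;> ring

theorem slS_invert {g t : SL(2, K)} (hg : g ∈ slS K) (ht : t ∈ slT K) : g * t = t⁻¹ * g := by
  obtain ⟨g1, g2⟩ := hg
  obtain ⟨t1, t2⟩ := ht
  refine Subtype.ext (Matrix.ext fun i j => ?_)
  simp only [Matrix.SpecialLinearGroup.coe_mul, Matrix.SpecialLinearGroup.coe_inv, Matrix.adjugate_fin_two,
    Matrix.mul_apply, Fin.sum_univ_two]
  fin_cases i <;> fin_cases j <;> simp [g1, g2, t1, t2] <;> ring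

theorem slS_sq {g : SL(2, K)} (hg : g ∈ slS K) : (g * g).1 = Matrix.scalar (Fin 2) (-1 : K) := by
  obtain ⟨g1, g2⟩ := hg
  have h := g.2
  rw [Matrix.det_fin_two, g1, g2] at h
  ext i j
  fin_cases i <;> fin_cases j <;>
    simp [Matrix.SpecialLinearGroup.coe_mul, Matrix.mul_apply, Fin.sum_univ_two, g1, g2] <;> first | ring1 | linear_combination -h

/-- an element carrying a rotation to a multiple of a rotation is a rotation or a reflection -/
theorem torus_conj (h2 : (2 : K) ≠ 0) {t t' h : SL(2, K)} (ht : t ∈ slT K) (ht' : t' ∈ slT K) (hb : t.1 0 1 ≠ 0)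
    {r : K} (hr : r ^ 2 = 1) (e : (h * t * h⁻¹).1 = r • t'.1) : h ∈ slT K ∨ h ∈ slS K := by
  have htr : Matrix.trace (h * t * h⁻¹).1 = Matrix.trace t.1 := by
    rw [Matrix.SpecialLinearGroup.coe_mul, Matrix.trace_mul_comm, ← Matrix.SpecialLinearGroup.coe_mul,
      ← mul_assoc, inv_mul_cancel, one_mul]
  rw [e, Matrix.trace_smul, Matrix.trace_fin_two, Matrix.trace_fin_two, (mem_slT_iff.1 ht).2,
    (mem_slT_iff.1 ht').2, smul_eq_mul] at htr
  have ha : r * t'.1 0 0 = t.1 0 0 := mul_left_cancel₀ h2 (by linear_combination htr)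
  have hbb : (r * t'.1 0 1) ^ 2 = t.1 0 1 ^ 2 := by
    linear_combination r ^ 2 * slT_det ht' - slT_det ht + hr - (r * t'.1 0 0 + t.1 0 0) * ha
  have e' : (h * t).1 = r • (t' * h).1 := by
    rw [Matrix.SpecialLinearGroup.coe_mul t' h, ← Matrix.smul_mul, ← e, ← Matrix.SpecialLinearGroup.coe_mul,
      inv_mul_cancel_right]
  have e00 := congrFun (congrFun e' 0) 0
  have e01 := congrFun (congrFun e' 0) 1
  simp only [Matrix.SpecialLinearGroup.coe_mul, Matrix.mul_apply, Fin.sum_univ_two, Matrix.smul_apply,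
    smul_eq_mul, (mem_slT_iff.1 ht).1, (mem_slT_iff.1 ht).2] at e00 e01
  rcases sq_eq_sq_iff_eq_or_eq_neg.1 hbb with hs | hs
  · left
    refine ⟨mul_left_cancel₀ hb ?_, mul_left_cancel₀ hb ?_⟩
    · linear_combination -e00 - h.1 0 0 * ha - h.1 1 0 * hs
    · linear_combination -e01 - h.1 0 1 * ha - h.1 1 1 * hs
  · right
    refine ⟨mul_left_cancel₀ hb ?_, mul_left_cancel₀ hb ?_⟩
    · linear_combination e00 + h.1 0 0 * ha + h.1 1 0 * hs
    · linear_combination e01 + h.1 0 1 * ha + h.1 1 1 * hs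

/-- the rotation with given parameter -/
def rot (hns : ∀ t : K, 1 + t ^ 2 ≠ 0) : Option K → ↥(slT K)
  | none => ⟨⟨!![-1, 0; 0, -1], by simp [Matrix.det_fin_two]⟩, (neg_zero).symm, rfl⟩
  | some t => ⟨⟨!![(1 - t ^ 2) / (1 + t ^ 2), 2 * t / (1 + t ^ 2); -(2 * t / (1 + t ^ 2)), (1 - t ^ 2) / (1 + t ^ 2)], by
      have := hns t
      rw [Matrix.det_fin_two_of]; field_simp; ring⟩, rfl, rfl⟩

theorem rot_bijective (h2 : (2 : K) ≠ 0) (hns : ∀ t : K, 1 + t ^ 2 ≠ 0) : Function.Bijective (rot hns) := by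
  constructor
  · intro a b e
    have hp : ∀ t : K, 1 + (1 - t ^ 2) / (1 + t ^ 2) ≠ 0 ∧
        (2 * t / (1 + t ^ 2)) / (1 + (1 - t ^ 2) / (1 + t ^ 2)) = t := fun t => by
      have := hns t
      have h : 1 + (1 - t ^ 2) / (1 + t ^ 2) = 2 / (1 + t ^ 2) := by field_simp; ring
      rw [h]
      exact ⟨div_ne_zero h2 this, by field_simp⟩
    match a, b with
    | none, none => rfl
    | none, some t =>
      have e0 : (-1 : K) = (1 - t ^ 2) / (1 + t ^ 2) := congrArg (fun g : ↥(slT K) => (g : SL(2, K)).1 0 0) e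
      exact absurd (by rw [← e0, add_neg_cancel]) (hp t).1
    | some t, none =>
      have e0 : (1 - t ^ 2) / (1 + t ^ 2) = (-1 : K) := congrArg (fun g : ↥(slT K) => (g : SL(2, K)).1 0 0) e
      exact absurd (by rw [e0, add_neg_cancel]) (hp t).1
    | some t, some s =>
      have e0 : (1 - t ^ 2) / (1 + t ^ 2) = (1 - s ^ 2) / (1 + s ^ 2) :=
        congrArg (fun g : ↥(slT K) => (g : SL(2, K)).1 0 0) e
      have e1 : 2 * t / (1 + t ^ 2) = 2 * s / (1 + s ^ 2) := congrArg (fun g : ↥(slT K) => (g : SL(2, K)).1 0 1) e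
      rw [← (hp t).2, ← (hp s).2, e0, e1]
  · intro g
    obtain ⟨g1, g2⟩ := mem_slT_iff.1 g.2
    have hdet := slT_det g.2
    by_cases ha : (g : SL(2, K)).1 0 0 = -1
    · refine ⟨none, Subtype.ext (Subtype.ext (Matrix.ext fun i j => ?_))⟩
      have hb : (g : SL(2, K)).1 0 1 = 0 := pow_eq_zero_iff two_ne_zero |>.1 (by rw [ha] at hdet; linear_combination hdet)
      fin_cases i <;> fin_cases j <;> simp [rot, g1, g2, ha, hb]
    · obtain ⟨a, rfl⟩ : ∃ a, a = (g : SL(2, K)).1 0 0 := ⟨_, rfl⟩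
      obtain ⟨b, hb⟩ : ∃ b, b = (g : SL(2, K)).1 0 1 := ⟨_, rfl⟩
      obtain ⟨a, ha'⟩ : ∃ a, a = (g : SL(2, K)).1 0 0 := ⟨_, rfl⟩
      rw [← hb] at g1 hdet
      rw [← ha'] at g2 hdet ha
      have h1 : 1 + a ≠ 0 := fun h => ha (by linear_combination h)
      refine ⟨some (b / (1 + a)), Subtype.ext (Subtype.ext (Matrix.ext fun i j => ?_))⟩
      have hn := hns (b / (1 + a))
      have hd : (1 + (b / (1 + a)) ^ 2) = 2 / (1 + a) := by field_simp; linear_combination hdet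
      have hA : (1 - (b / (1 + a)) ^ 2) / (1 + (b / (1 + a)) ^ 2) = a := by
        rw [hd]; field_simp; linear_combination -hdet
      have hB : 2 * (b / (1 + a)) / (1 + (b / (1 + a)) ^ 2) = b := by
        rw [hd]; field_simp
      fin_cases i <;> fin_cases j <;> simp [rot, g1, g2, ← hb, ← ha', hA, hB]

theorem isCyclic_slT [Finite K] (hns : ∀ t : K, 1 + t ^ 2 ≠ 0) : IsCyclic ↥(slT K) := by
  obtain ⟨z, hz⟩ := IsAlgClosed.exists_pow_nat_eq (-1 : AlgebraicClosure K) two_pos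
  let f : ↥(slT K) →* AlgebraicClosure K :=
    { toFun := fun g => algebraMap K _ ((g : SL(2, K)).1 0 0) + algebraMap K _ ((g : SL(2, K)).1 0 1) * z
      map_one' := by simp
      map_mul' := fun a b => by
        obtain ⟨a1, a2⟩ := mem_slT_iff.1 a.2
        obtain ⟨b1, b2⟩ := mem_slT_iff.1 b.2
        simp only [Subgroup.coe_mul, Matrix.SpecialLinearGroup.coe_mul, Matrix.mul_apply, Fin.sum_univ_two, b1, b2,
          map_add, map_mul, map_neg]
        linear_combination -(algebraMap K (AlgebraicClosure K) ((a : SL(2, K)).1 0 1) *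
          algebraMap K (AlgebraicClosure K) ((b : SL(2, K)).1 0 1)) * hz }
  refine isCyclic_of_injective_ringHom f fun a b e => ?_
  obtain ⟨a1, a2⟩ := mem_slT_iff.1 a.2
  obtain ⟨b1, b2⟩ := mem_slT_iff.1 b.2
  simp only [f, MonoidHom.coe_mk, OneHom.coe_mk] at e
  have hb : (a : SL(2, K)).1 0 1 = (b : SL(2, K)).1 0 1 := by
    by_contra hne
    have hne' : (a : SL(2, K)).1 0 1 - (b : SL(2, K)).1 0 1 ≠ 0 := sub_ne_zero.2 hne
    obtain ⟨s, hs⟩ : ∃ s : K, algebraMap K (AlgebraicClosure K) s = z :=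
      ⟨((b : SL(2, K)).1 0 0 - (a : SL(2, K)).1 0 0) / ((a : SL(2, K)).1 0 1 - (b : SL(2, K)).1 0 1), by
        rw [map_div₀, div_eq_iff (by simpa only [ne_eq, map_eq_zero] using hne'), map_sub, map_sub]
        linear_combination -e⟩
    refine hns s ((algebraMap K (AlgebraicClosure K)).injective ?_)
    rw [map_add, map_one, map_pow, hs, hz, map_zero]; ring
  have ha : (a : SL(2, K)).1 0 0 = (b : SL(2, K)).1 0 0 := (algebraMap K (AlgebraicClosure K)).injective (by
    rw [hb] at e; linear_combination e)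
  refine Subtype.ext (Subtype.ext (Matrix.ext fun i j => ?_))
  fin_cases i <;> fin_cases j <;> simp [a1, a2, b1, b2, ha, hb]

end slPart

end CfsgLib.Lie.Ree
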