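/-
The quarter torus of a small Ree group and the centralisers of its elements.
-/
import Cfsg.Agent.Lib.Lie.Twisted.Ree.Rotation
import Cfsg.Agent.Lib.Lie.Twisted.Ree.Six
import Cfsg.Agent.Lib.Core.Coprime
import Mathlib.GroupTheory.Transfer

set_option autoImplicit false

namespace CfsgLib.Lie.Ree

open Cfsg.Lie CfsgLib.Lie CfsgLib.Lie.Chev CfsgLib.Lie.Chev.TwGroups
open scoped MatrixGroups

/-- the odd number `(q + 1)/4` -/
def nQ (m : ℕ) : ℕ := (3 ^ (2 * m + 1) + 1) / 4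

theorem nQ_spec (m : ℕ) : 4 * nQ m = 3 ^ (2 * m + 1) + 1 ∧ nQ m % 2 = 1 := by
  have h : 3 ^ (2 * m + 1) % 8 = 3 := by
    rw [pow_succ, pow_mul, Nat.mul_mod, Nat.pow_mod]; norm_num
  unfold nQ
  omega

theorem nQ_gt (m : ℕ) (hm : 1 ≤ m) : 7 ≤ nQ m := by
  have h := (nQ_spec m).1
  have : 3 ^ 3 ≤ 3 ^ (2 * m + 1) := Nat.pow_le_pow_right three_pos (by omega)
  omega

variable {K : Type*} [Field K] [Fintype K] {m : ℕ} (hK : Fintype.card K = 3 ^ (2 * m + 1))
include hK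

theorem one_add_sq_ne (t : K) : 1 + t ^ 2 ≠ 0 := fun h => by
  rcases eq_or_ne t 0 with rfl | ht
  · simp at h
  · exact neg_one_not_sq hK (Units.mk0 t ht) (by rw [Units.val_mk0]; linear_combination h)

theorem card_slT : Nat.card ↥(slT K) = 3 ^ (2 * m + 1) + 1 := by
  rw [← Nat.card_eq_of_bijective _ (rot_bijective (two_ne hK) (one_add_sq_ne hK)), Finite.card_option,
    Nat.card_eq_fintype_card, hK]

theorem exists_slS : ∃ s : SL(2, K), s ∈ slS K := by
  obtain ⟨-, y, -, -, -, ⟨g, -, a, b, -, hg⟩, -⟩ := exists_klein hK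
  exact ⟨g, by rw [hg]; simp, by rw [hg]; simp⟩

/-- the torus inside the centraliser of the involution -/
noncomputable def TD : Subgroup (RG K m) where
  carrier := {g | ∃ t ∈ slT K, g = phi hK t ∨ g = jEl hK * phi hK t}
  mul_mem' := by
    rintro _ _ ⟨t, ht, e⟩ ⟨s, hs, e'⟩
    refine ⟨t * s, mul_mem ht hs, ?_⟩
    rcases e with rfl | rfl <;> rcases e' with rfl | rfl
    · exact Or.inl (map_mul _ _ _).symm
    · exact Or.inr (by rw [map_mul, ← mul_assoc, ← phi_commute_jEl hK t, mul_assoc])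
    · exact Or.inr (by rw [map_mul, mul_assoc])
    · refine Or.inl ?_
      rw [map_mul, mul_assoc, ← mul_assoc (phi hK t), ← phi_commute_jEl hK t, ← mul_assoc, ← mul_assoc,
        jEl_mul_self hK, one_mul]
  one_mem' := ⟨1, one_mem _, Or.inl (map_one _).symm⟩
  inv_mem' := by
    rintro _ ⟨t, ht, rfl | rfl⟩
    · exact ⟨t⁻¹, inv_mem ht, Or.inl (map_inv _ _).symm⟩
    · refine ⟨t⁻¹, inv_mem ht, Or.inr ?_⟩
      rw [phi_commute_jEl hK t, mul_inv_rev, map_inv, inv_eq_of_mul_eq_one_right (jEl_mul_self hK)]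

theorem mem_TD_iff (g : RG K m) : g ∈ TD hK ↔ ∃ t ∈ slT K, g = phi hK t ∨ g = jEl hK * phi hK t := Iff.rfl

theorem jEl_mem_TD : jEl hK ∈ TD hK := ⟨1, one_mem _, Or.inr (by rw [map_one, mul_one])⟩

theorem phi_mem_TD {t : SL(2, K)} (ht : t ∈ slT K) : phi hK t ∈ TD hK := ⟨t, ht, Or.inl rfl⟩

theorem TD_comm {x y : RG K m} (hx : x ∈ TD hK) (hy : y ∈ TD hK) : x * y = y * x := by
  obtain ⟨t, ht, e⟩ := hx
  obtain ⟨s, hs, e'⟩ := hy
  have h1 : Commute (phi hK t) (phi hK s) := by rw [Commute, SemiconjBy, ← map_mul, slT_comm ht hs, map_mul]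
  have h2 : ∀ g, Commute (jEl hK) (phi hK g) := phi_commute_jEl hK
  have h3 : Commute x (phi hK s) ∧ Commute x (jEl hK) := by
    rcases e with rfl | rfl
    · exact ⟨h1, (h2 t).symm⟩
    · exact ⟨(h2 s).mul_left h1, (Commute.refl _).mul_left (h2 t).symm⟩
  rcases e' with rfl | rfl
  · exact h3.1
  · exact h3.2.mul_right h3.1

theorem TD_le_centralizer {x : RG K m} (hx : x ∈ TD hK) : TD hK ≤ Subgroup.centralizer {x} :=
  fun _ hy => Subgroup.mem_centralizer_singleton_iff.2 (TD_comm hK hy hx)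

omit hK in
/-- the image of the rotations -/
noncomputable def TP (hK : Fintype.card K = 3 ^ (2 * m + 1)) : Subgroup (RG K m) := (slT K).map (phi hK)

theorem TP_le : TP hK ≤ TD hK := by
  rintro _ ⟨t, ht, rfl⟩
  exact phi_mem_TD hK ht

theorem card_TP : Nat.card ↥(TP hK) = 2 * nQ m := by
  obtain ⟨f, hf⟩ : ∃ f : ↥(slT K) →* RG K m, f = (phi hK).comp (slT K).subtype := ⟨_, rfl⟩
  have hr : f.range = TP hK := by rw [hf, MonoidHom.range_comp, Subgroup.range_subtype, TP]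
  have hz : ∃ z : ↥(slT K), (z : SL(2, K)) = slD (-1) ∧ z ≠ 1 := by
    refine ⟨⟨slD (-1), ?_, ?_⟩, rfl, fun h => ?_⟩
    · rw [slD_val]; simp
    · rw [slD_val]; simp
    · have := congrArg (fun g : ↥(slT K) => (g : SL(2, K)).1 0 0) h
      simp [slD_val] at this
      exact neg_one_ne hK this
  obtain ⟨z, hz, hz1⟩ := hz
  have hker : (f.ker : Set ↥(slT K)) = {1, z} := by
    ext t
    rw [SetLike.mem_coe, MonoidHom.mem_ker, hf, MonoidHom.comp_apply, Subgroup.coe_subtype, Set.mem_insert_iff,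
      Set.mem_singleton_iff]
    constructor
    · intro h
      obtain ⟨r, hr, e⟩ := phi_ker hK h
      rcases sq_eq_one_iff.1 hr with rfl | rfl
      · exact Or.inl (Subtype.ext (Subtype.ext (by rw [e]; simp)))
      · refine Or.inr (Subtype.ext (hz ▸ Subtype.ext ?_))
        rw [e, slD_val]
        ext i j; fin_cases i <;> fin_cases j <;> simp
    · rintro (rfl | rfl)
      · exact map_one _
      · refine phi_center hK (Subgroup.mem_center_iff.2 fun g => Subtype.ext (Matrix.ext fun i j => ?_))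
        rw [hz]
        simp only [Matrix.SpecialLinearGroup.coe_mul, slD_val, Matrix.mul_apply, Fin.sum_univ_two]
        fin_cases i <;> fin_cases j <;> simp
  have h2 : Nat.card f.ker = 2 := by
    show Nat.card (f.ker : Set ↥(slT K)) = 2
    rw [hker, Nat.card_coe_set_eq, Set.ncard_pair (Ne.symm hz1)]
  have h := f.ker.card_mul_index
  rw [Subgroup.index_ker, hr, h2, card_slT hK, ← (nQ_spec m).1] at h
  omega

theorem card_TD : Nat.card ↥(TD hK) = 3 ^ (2 * m + 1) + 1 := by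
  rw [← (nQ_spec m).1, show 4 * nQ m = 2 * (2 * nQ m) by ring, ← card_TP hK, ← card_zpowers_jEl hK, ← Nat.card_prod]
  have hj : ∀ z : ↥(Subgroup.zpowers (jEl hK)), (z : RG K m) = 1 ∨ (z : RG K m) = jEl hK := fun z =>
    zpowers_two hK (jEl_mul_self hK) z.2
  refine (Nat.card_eq_of_bijective (fun p => ⟨(p.1 : RG K m) * (p.2 : RG K m),
    mul_mem ((Subgroup.zpowers_le.2 (jEl_mem_TD hK)) p.1.2) (TP_le hK p.2.2)⟩) ⟨?_, ?_⟩).symm
  · rintro ⟨z, w⟩ ⟨z', w'⟩ e
    have e1 : (z : RG K m) * w = z' * w' := congrArg Subtype.val e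
    have hw : (z' : RG K m)⁻¹ * z = w' * (w : RG K m)⁻¹ := by
      rw [eq_mul_inv_iff_mul_eq, mul_assoc, e1, inv_mul_cancel_left]
    obtain ⟨t, -, ht⟩ : (z' : RG K m)⁻¹ * z ∈ TP hK := hw ▸ mul_mem w'.2 (inv_mem w.2)
    have hz : (z' : RG K m)⁻¹ * z = 1 := by
      rcases hj (z'⁻¹ * z) with h | h
      · exact h
      · exact absurd (ht.trans (by simpa using h)) (jEl_not_range hK t)
    have hzz : z = z' := Subtype.ext (inv_mul_eq_one.1 hz).symm
    subst hzz
    exact Prod.ext rfl (Subtype.ext (mul_left_cancel e1))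
  · rintro ⟨g, t, ht, rfl | rfl⟩
    · exact ⟨(1, ⟨_, Subgroup.mem_map_of_mem _ ht⟩), Subtype.ext (by simp)⟩
    · exact ⟨(⟨jEl hK, Subgroup.mem_zpowers _⟩, ⟨_, Subgroup.mem_map_of_mem _ ht⟩), Subtype.ext (by simp)⟩

theorem TD_index : (TD hK).index =
    (3 ^ (2 * m + 1)) ^ 3 * (3 ^ (2 * m + 1) - 1) * nSix m := by
  refine Nat.eq_of_mul_eq_mul_left (show 0 < 3 ^ (2 * m + 1) + 1 by omega) ?_
  have h := (TD hK).card_mul_index
  rw [card_TD hK, card_RG' hK] at h
  rw [h]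
  ring

theorem TP_cyclic : IsCyclic ↥(TP hK) :=
  have := isCyclic_slT (one_add_sq_ne hK)
  isCyclic_of_surjective ((phi hK).subgroupMap (slT K)) ((phi hK).subgroupMap_surjective _)

theorem TD_pow {g : RG K m} (hg : g ∈ TD hK) : g ^ (2 * nQ m) = 1 := by
  obtain ⟨t, ht, e⟩ := hg
  have h : phi hK t ^ (2 * nQ m) = 1 := card_TP hK ▸ Count.pow_card_of_mem (Subgroup.mem_map_of_mem _ ht)
  rcases e with rfl | rfl
  · exact h
  · rw [Commute.mul_pow (phi_commute_jEl hK t), h, mul_one, pow_mul, sq, jEl_mul_self hK, one_pow]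

omit hK in
/-- the quarter torus -/
noncomputable def A1 (hK : Fintype.card K = 3 ^ (2 * m + 1)) : Subgroup (RG K m) where
  carrier := {g | g ∈ TD hK ∧ g ^ nQ m = 1}
  mul_mem' := by
    rintro a b ⟨ha, ha'⟩ ⟨hb, hb'⟩
    exact ⟨mul_mem ha hb, by rw [Commute.mul_pow (TD_comm hK ha hb), ha', hb', one_mul]⟩
  one_mem' := ⟨one_mem _, one_pow _⟩
  inv_mem' := by
    rintro a ⟨ha, ha'⟩
    exact ⟨inv_mem ha, by rw [inv_pow, ha', inv_one]⟩

theorem A1_le : A1 hK ≤ TD hK := fun _ h => h.1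

theorem sq_mem_A1 {g : RG K m} (hg : g ∈ TD hK) : g * g ∈ A1 hK :=
  ⟨mul_mem hg hg, by rw [← sq, ← pow_mul, TD_pow hK hg]⟩

theorem A1_le_TP : A1 hK ≤ TP hK := by
  rintro g ⟨⟨t, ht, rfl | rfl⟩, hg⟩
  · exact Subgroup.mem_map_of_mem _ ht
  · rw [Commute.mul_pow (phi_commute_jEl hK t), ← Nat.div_add_mod (nQ m) 2, (nQ_spec m).2, pow_succ _ (2 * (nQ m / 2)),
      pow_mul, sq, jEl_mul_self hK, one_pow, one_mul] at hg
    exact absurd (show phi hK (t ^ (2 * (nQ m / 2) + 1))⁻¹ = jEl hK by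
      rw [map_inv, map_pow]; exact (eq_inv_of_mul_eq_one_left hg).symm) (jEl_not_range hK _)

theorem A1_cyclic : IsCyclic ↥(A1 hK) :=
  have := TP_cyclic hK
  isCyclic_of_injective (Subgroup.inclusion (A1_le_TP hK)) (Subgroup.inclusion_injective _)

theorem card_A1 : Nat.card ↥(A1 hK) = nQ m := by
  obtain ⟨z, hz⟩ := isCyclic_iff_exists_zpowers_eq_top.1 (TP_cyclic hK)
  have ho : orderOf (z : RG K m) = 2 * nQ m := by
    rw [Subgroup.orderOf_coe, orderOf_eq_card_of_forall_mem_zpowers (by rw [hz]; exact Subgroup.mem_top), card_TP hK]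
  have ho2 : orderOf ((z : RG K m) * z) = nQ m := by
    rw [← sq, orderOf_pow, ho, Nat.gcd_eq_right (Dvd.intro _ rfl), Nat.mul_div_cancel_left _ two_pos]
  refine Nat.dvd_antisymm ?_ ?_
  · have := A1_cyclic hK
    rw [← IsCyclic.exponent_eq_card (α := ↥(A1 hK))]
    exact Monoid.exponent_dvd_of_forall_pow_eq_one fun g => Subtype.ext (by simpa using g.2.2)
  · rw [← ho2, ← Subgroup.orderOf_mk _ (sq_mem_A1 hK (TP_le hK z.2))]
    exact orderOf_dvd_natCard _

theorem mem_A1_of_odd {g : RG K m} (hg : g ∈ TD hK) (h : Odd (orderOf g)) : g ∈ A1 hK := by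
  refine ⟨hg, orderOf_dvd_iff_pow_eq_one.1 ((Nat.Coprime.dvd_mul_left ?_).1 (orderOf_dvd_of_pow_eq_one (TD_pow hK hg)))⟩
  exact Nat.coprime_two_right.2 h

omit hK in
/-- the second involution of the torus -/
noncomputable def iEl (hK : Fintype.card K = 3 ^ (2 * m + 1)) : RG K m :=
  phi hK ⟨!![0, 1; -1, 0], by simp [Matrix.det_fin_two]⟩

theorem iEl_props : iEl hK ∈ TP hK ∧ iEl hK * iEl hK = 1 ∧ iEl hK ≠ 1 ∧ iEl hK ≠ jEl hK := by
  obtain ⟨w, hw⟩ : ∃ w : SL(2, K), w = ⟨!![0, 1; -1, 0], by simp [Matrix.det_fin_two]⟩ := ⟨_, rfl⟩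
  have hi : iEl hK = phi hK w := by rw [hw]; rfl
  have hm' : w ∈ slT K := by rw [hw]; exact ⟨rfl, rfl⟩
  refine ⟨hi ▸ Subgroup.mem_map_of_mem _ hm', ?_, fun h => ?_, fun h => jEl_not_range hK w (hi ▸ h)⟩
  · rw [hi, ← map_mul]
    have hw1 : w.1 = !![0, 1; -1, 0] := congrArg Subtype.val hw
    have hww : (w * w).1 = Matrix.scalar (Fin 2) (-1 : K) := by
      rw [Matrix.SpecialLinearGroup.coe_mul, hw1]
      ext i j; fin_cases i <;> fin_cases j <;> simp
    refine phi_center hK (Subgroup.mem_center_iff.2 fun g => Subtype.ext ?_)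
    show g.1 * (w * w).1 = (w * w).1 * g.1
    rw [hww]
    exact (Matrix.scalar_commute (-1 : K) (fun _ => Commute.all _ _) _).symm.eq
  · obtain ⟨r, hr, e⟩ := phi_ker hK (hi ▸ h)
    have := congrFun (congrFun e 0) 1
    rw [hw] at this
    simp at this

theorem TD_involution {z : RG K m} (hz : z ∈ TD hK) (h2 : z * z = 1) :
    z = 1 ∨ z = jEl hK ∨ z = iEl hK ∨ z = jEl hK * iEl hK := by
  obtain ⟨hi, hii, hi1, -⟩ := iEl_props hK
  have key : ∀ t ∈ slT K, phi hK t * phi hK t = 1 → phi hK t = 1 ∨ phi hK t = iEl hK := by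
    intro t ht h
    have hcard : Nat.card ↥(Subgroup.zpowers (iEl hK)) = 2 := by
      rw [Nat.card_zpowers]
      exact orderOf_eq_prime (by rw [sq]; exact hii) hi1
    refine zpowers_two hK hii ((Count.mem_iff_pow_card (TP_cyclic hK) (Subgroup.zpowers_le.2 hi)).2
      ⟨Subgroup.mem_map_of_mem _ ht, by rw [hcard, sq, h]⟩)
  obtain ⟨t, ht, rfl | rfl⟩ := hz
  · exact (key t ht h2).imp id (fun h => Or.inr (Or.inl h))
  · rw [(show Commute (jEl hK) (phi hK t) from phi_commute_jEl hK t).symm.mul_mul_mul_comm, jEl_mul_self hK,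
      one_mul] at h2
    rcases key t ht h2 with h | h <;> rw [h]
    · exact Or.inr (Or.inl (mul_one _))
    · exact Or.inr (Or.inr (Or.inr rfl))

/-- the torus is the product of its involutions and its odd part -/
theorem TD_decomp {g : RG K m} (hg : g ∈ TD hK) : ∃ z ∈ TD hK, ∃ a ∈ A1 hK, z * z = 1 ∧ g = z * a := by
  refine ⟨g ^ nQ m, pow_mem hg _, (g ^ nQ m)⁻¹ * g,
    ⟨mul_mem (inv_mem (pow_mem hg _)) hg, ?_⟩, by rw [← pow_add, ← two_mul, TD_pow hK hg], by group⟩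
  rw [Commute.mul_pow ((Commute.refl g).pow_left _).inv_left, inv_pow, ← pow_mul]
  obtain ⟨k, hk⟩ : ∃ k, nQ m = 2 * k + 1 := ⟨nQ m / 2, by have := (nQ_spec m).2; omega⟩
  have h : g ^ (nQ m * nQ m) = g ^ nQ m := by
    have : nQ m * nQ m = 2 * nQ m * k + nQ m := by rw [hk]; ring
    rw [this, pow_add, pow_mul, TD_pow hK hg, one_pow, one_mul]
  rw [h, inv_mul_cancel]

theorem centralizer_jEl_torus {t' t : SL(2, K)} (ht : t ∈ slT K) (ht' : t' ∈ slT K) (hb : t.1 0 1 ≠ 0) {g : RG K m}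
    (hg : g ∈ Subgroup.centralizer {jEl hK}) (e : g * phi hK t * g⁻¹ = phi hK t') :
    g ∈ TD hK ∨ ∃ s ∈ slS K, g = phi hK s ∨ g = jEl hK * phi hK s := by
  obtain ⟨h, hh⟩ := centralizer_dichotomy hK hg
  have e' : phi hK (h * t * h⁻¹ * t'⁻¹) = 1 := by
    rw [map_mul, map_mul, map_mul, map_inv, map_inv, mul_inv_eq_one]
    rcases hh with rfl | rfl
    · exact e
    · rw [← e, mul_inv_rev, inv_eq_of_mul_eq_one_right (jEl_mul_self hK)]
      calc phi hK h * phi hK t * (phi hK h)⁻¹ = jEl hK * jEl hK * (phi hK h * phi hK t * (phi hK h)⁻¹) := by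
            rw [jEl_mul_self hK, one_mul]
        _ = _ := by
          rw [mul_assoc (jEl hK) (jEl hK), show jEl hK * (phi hK h * phi hK t * (phi hK h)⁻¹) =
            phi hK h * phi hK t * (phi hK h)⁻¹ * jEl hK by
              rw [← map_inv, ← map_mul, ← map_mul]; exact phi_commute_jEl hK _]
          group
  obtain ⟨r, hr, e''⟩ := phi_ker hK e'
  have e3 : (h * t * h⁻¹).1 = r • t'.1 := by
    rw [show h * t * h⁻¹ = (h * t * h⁻¹ * t'⁻¹) * t' by group, Matrix.SpecialLinearGroup.coe_mul, e'',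
      Matrix.scalar_apply, ← Matrix.smul_one_eq_diagonal, Matrix.smul_mul, one_mul]
  rcases torus_conj (two_ne hK) ht ht' hb hr e3 with h' | h'
  · exact Or.inl ⟨h, h', hh⟩
  · exact Or.inr ⟨h, h', hh⟩

end CfsgLib.Lie.Ree
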