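/-
A lower bound for the degrees of the representations of a small Ree group.
-/
import Cfsg.Agent.Lib.Lie.Twisted.Ree.Borel
import Cfsg.Agent.Lib.Lie.Twisted.Ree.Quarter
import Mathlib.LinearAlgebra.Trace
import Mathlib.RepresentationTheory.Irreducible
import Mathlib.NumberTheory.LegendreSymbol.AddCharacter
import Mathlib.GroupTheory.FiniteAbelian.Duality
import Mathlib.RingTheory.RootsOfUnity.AlgebraicallyClosed
import Mathlib.Analysis.Complex.Polynomial.Basic

set_option autoImplicit false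

namespace CfsgLib.Lie.Ree

open Cfsg.Lie CfsgLib.Lie CfsgLib.Lie.Chev CfsgLib.Lie.Chev.TwGroups

theorem exists_primitive_complex (K : Type*) [Field K] [Fintype K] : ∃ ψ : AddChar K ℂ, ψ.IsPrimitive := by
  obtain ⟨φ, hφ⟩ := CommGroup.exists_apply_ne_one_of_hasEnoughRootsOfUnity (Multiplicative K) ℂ
    (a := Multiplicative.ofAdd (1 : K)) (fun h => one_ne_zero (α := K) (Multiplicative.ofAdd.injective (h.trans ofAdd_zero.symm)))
  refine ⟨{ toFun := fun x => ((φ (Multiplicative.ofAdd x) : ℂˣ) : ℂ)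
            map_zero_eq_one' := by simp
            map_add_eq_mul' := fun x y => by rw [ofAdd_add, map_mul, Units.val_mul] },
    AddChar.IsPrimitive.of_ne_one fun h => hφ (Units.ext ?_)⟩
  exact DFunLike.congr_fun h (1 : K)

theorem trace_idem {V : Type*} [AddCommGroup V] [Module ℂ V] [FiniteDimensional ℂ V] {P : Module.End ℂ V}
    (hP : P * P = P) : ∃ n : ℕ, LinearMap.trace ℂ V P = n ∧ (n = 0 → P = 0) := by
  have h : LinearMap.IsProj (LinearMap.range P) P :=
    ⟨fun x => LinearMap.mem_range_self _ x, fun x hx => by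
      obtain ⟨y, rfl⟩ := hx
      exact LinearMap.congr_fun hP y⟩
  exact ⟨_, h.trace, fun e => LinearMap.range_eq_bot.1 (Submodule.finrank_eq_zero.1 e)⟩

section spectral

variable {K : Type*} [Field K] [Fintype K] {V : Type*} [AddCommGroup V] [Module ℂ V]

/-- the spectral idempotent of an additive family of operators -/
noncomputable def spec (ψ : AddChar K ℂ) (π : K → Module.End ℂ V) (a : K) : Module.End ℂ V :=
  (Fintype.card K : ℂ)⁻¹ • ∑ v, ψ (-(a * v)) • π v

variable (ψ : AddChar K ℂ) (π : K → Module.End ℂ V) (hadd : ∀ x y, π (x + y) = π x * π y)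
include hadd

theorem apply_spec (a w : K) : π w * spec ψ π a = ψ (a * w) • spec ψ π a := by
  rw [spec, mul_smul_comm, Finset.mul_sum, smul_comm (ψ (a * w))]
  congr 1
  rw [Finset.smul_sum]
  refine Fintype.sum_equiv (Equiv.addLeft w) _ _ fun v => ?_
  rw [mul_smul_comm, ← hadd, smul_smul, Equiv.coe_addLeft, ← AddChar.map_add_eq_mul]
  congr 2
  ring

theorem spec_mul (hψ : ψ.IsPrimitive) (a b : K) [DecidableEq K] :
    spec ψ π a * spec ψ π b = if a = b then spec ψ π b else 0 := by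
  have hq : (Fintype.card K : ℂ) ≠ 0 := Nat.cast_ne_zero.2 Fintype.card_ne_zero
  conv_lhs => rw [spec, smul_mul_assoc, Finset.sum_mul]
  simp only [smul_mul_assoc, apply_spec ψ π hadd, smul_smul, ← AddChar.map_add_eq_mul, ← Finset.sum_smul]
  rw [show (fun v : K => ψ (-(a * v) + b * v)) = fun v => ψ (v * (b - a)) from funext fun v => by ring_nf,
    AddChar.sum_mulShift _ hψ]
  by_cases h : a = b
  · simp [h, hq]
  · simp [h, sub_ne_zero.2 (Ne.symm h)]

omit hadd in
theorem spec_sum (hψ : ψ.IsPrimitive) (h0 : π 0 = 1) : ∑ a, spec ψ π a = 1 := by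
  classical
  have hq : (Fintype.card K : ℂ) ≠ 0 := Nat.cast_ne_zero.2 Fintype.card_ne_zero
  simp only [spec]
  rw [← Finset.smul_sum, Finset.sum_comm]
  simp only [← Finset.sum_smul]
  rw [Finset.sum_eq_single (0 : K) (fun v _ hv => ?_) (fun h => absurd (Finset.mem_univ _) h)]
  · simp [h0, smul_smul, inv_mul_cancel₀ hq]
  · have h := AddChar.sum_mulShift (-v) hψ
    rw [if_neg (neg_ne_zero.2 hv), Nat.cast_zero] at h
    rw [show (fun a : K => ψ (-(a * v))) = fun a => ψ (a * -v) from funext fun a => by ring_nf, h, zero_smul]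

omit hadd in
theorem spec_scale {μ : K} (hμ : μ ≠ 0) {N : Module.End ℂ V} (hN : ∀ x, N * π x = π (μ * x) * N) (a : K) :
    N * spec ψ π (a * μ) = spec ψ π a * N := by
  rw [spec, spec, mul_smul_comm, smul_mul_assoc, Finset.mul_sum, Finset.sum_mul]
  congr 1
  refine Fintype.sum_equiv (Equiv.mulLeft₀ μ hμ) _ _ fun v => ?_
  rw [mul_smul_comm, hN, smul_mul_assoc, Equiv.mulLeft₀_apply, mul_assoc a]

omit hadd in
theorem spec_commute {N : Module.End ℂ V} (hN : ∀ x, Commute N (π x)) (a : K) : Commute N (spec ψ π a) := by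
  rw [spec]
  exact (Commute.sum_right _ _ _ fun v _ => (hN v).smul_right _).smul_right _

end spectral

variable {K : Type*} [Field K] [Fintype K] {m : ℕ} (hK : Fintype.card K = 3 ^ (2 * m + 1))
include hK

theorem min_degree (hm : 1 ≤ m) {V : Type*} [AddCommGroup V] [Module ℂ V] [FiniteDimensional ℂ V]
    (ρ : Representation ℂ (RG K m) V) (hirr : ρ.IsIrreducible) (h2 : 2 ≤ Module.finrank ℂ V) :
    3 ^ (2 * m + 1) * (3 ^ (2 * m + 1) - 1) + 1 ≤ Module.finrank ℂ V := by
  classical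
  obtain ⟨ψ, hψ⟩ := exists_primitive_complex K
  obtain ⟨z, hz⟩ : ∃ z : K → Module.End ℂ V, ∀ v, z v = ρ (uEl m 0 0 v) := ⟨_, fun _ => rfl⟩
  obtain ⟨y, hy⟩ : ∃ y : K → Module.End ℂ V, ∀ u, y u = ρ (uEl m 0 u 0) := ⟨_, fun _ => rfl⟩
  have zadd : ∀ a b, z (a + b) = z a * z b := fun a b => by
    rw [hz, hz, hz, ← map_mul, uEl_mul hK]; congr 2 <;> ring
  have yadd : ∀ a b, y (a + b) = y a * y b := fun a b => by
    rw [hy, hy, hy, ← map_mul, uEl_mul hK]; congr 2 <;> ring
  have z0 : z 0 = 1 := by rw [hz, uEl_zero hK, map_one]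
  have y0 : y 0 = 1 := by rw [hy, uEl_zero hK, map_one]
  obtain ⟨e, he⟩ : ∃ e, e = spec ψ z := ⟨_, rfl⟩
  obtain ⟨f, hf⟩ : ∃ f, f = spec ψ y := ⟨_, rfl⟩
  have conj : ∀ (g : RG K m) (M M' : Module.End ℂ V), ρ g * M = M' * ρ g →
      LinearMap.trace ℂ V M = LinearMap.trace ℂ V M' := by
    intro g M M' h
    have hinv : ρ g * ρ g⁻¹ = 1 := by rw [← map_mul, mul_inv_cancel, map_one]
    have hinv' : ρ g⁻¹ * ρ g = 1 := by rw [← map_mul, inv_mul_cancel, map_one]
    calc LinearMap.trace ℂ V M = LinearMap.trace ℂ V (ρ g⁻¹ * (ρ g * M)) := by rw [← mul_assoc, hinv', one_mul]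
      _ = LinearMap.trace ℂ V (ρ g⁻¹ * (M' * ρ g)) := by rw [h]
      _ = LinearMap.trace ℂ V (M' * ρ g * ρ g⁻¹) := LinearMap.trace_mul_comm _ _ _
      _ = _ := by rw [mul_assoc, hinv, mul_one]
  have escale : ∀ (c : Kˣ) (a : K), ρ (hEl hK c) * e (a * c) = e a * ρ (hEl hK c) := fun c a => by
    rw [he]
    refine spec_scale ψ z c.ne_zero (fun x => ?_) a
    rw [hz, hz, ← map_mul, ← map_mul]
    congr 1
    have h := hEl_conj_uEl hK c (0 : K) 0 x
    simp only [mul_zero] at h
    rw [← h, inv_mul_cancel_right]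
  -- some non-trivial constituent occurs
  have hne : ∃ a : K, a ≠ 0 ∧ e a ≠ 0 := by
    by_contra hcon
    push_neg at hcon
    have h1 : e 0 = 1 := by
      rw [← spec_sum ψ z hψ z0, ← he, Finset.sum_eq_single (0 : K) (fun b _ hb => hcon b hb)
        (fun h => absurd (Finset.mem_univ _) h)]
    have hz1 : z 1 = 1 := by
      have := apply_spec ψ z zadd 0 1
      rw [← he, h1, mul_one, zero_mul, AddChar.map_zero_eq_one, one_smul] at this
      exact this
    have hker : ρ.ker = ⊤ := by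
      have := simple_RG hK hm
      refine (IsSimpleGroup.eq_bot_or_eq_top_of_normal ρ.ker inferInstance).resolve_left fun hb => ?_
      have hm' : uEl m (0 : K) 0 1 ∈ ρ.ker := by rw [MonoidHom.mem_ker, ← hz]; exact hz1
      rw [hb, Subgroup.mem_bot, uEl_eq_one_iff hK] at hm'
      exact one_ne_zero hm'.2.2
    have htriv : ∀ g, ρ g = 1 := fun g => MonoidHom.mem_ker.1 (hker ▸ Subgroup.mem_top g)
    obtain ⟨v, hv⟩ : ∃ v : V, v ≠ 0 := by
      by_contra hv
      push_neg at hv
      have : Subsingleton V := ⟨fun a b => by rw [hv a, hv b]⟩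
      rw [Module.finrank_zero_of_subsingleton] at h2
      omega
    let W : Subrepresentation ρ := ⟨Submodule.span ℂ {v}, fun g w hw => by rw [htriv]; exact hw⟩
    rcases hirr.eq_bot_or_eq_top W with hW | hW
    · have := congrArg Subrepresentation.toSubmodule hW
      exact hv (Submodule.span_singleton_eq_bot.1 this)
    · have := congrArg (fun U : Subrepresentation ρ => Module.finrank ℂ ↥U.toSubmodule) hW
      have htop : Module.finrank ℂ ↥(⊤ : Subrepresentation ρ).toSubmodule = Module.finrank ℂ V := finrank_top ℂ V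
      simp only [W, finrank_span_singleton hv, htop] at this
      omega
  obtain ⟨a0, ha0, hea0⟩ := hne
  have eidem : ∀ a, e a * e a = e a := fun a => by rw [he, spec_mul ψ z zadd hψ, if_pos rfl]
  have fidem : ∀ a, f a * f a = f a := fun a => by rw [hf, spec_mul ψ y yadd hψ, if_pos rfl]
  have fe : ∀ a b, Commute (f b) (e a) := fun a b => by
    rw [he, hf]
    refine spec_commute ψ z (fun x => (spec_commute ψ y (fun u => ?_) b).symm) a
    rw [Commute, SemiconjBy, hz, hy, ← map_mul, ← map_mul, uEl_mul hK, uEl_mul hK]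
    congr 2 <;> ring
  have shift : ∀ a b, LinearMap.trace ℂ V (f b * e a) = LinearMap.trace ℂ V (f 0 * e a) ∨ a = 0 := by
    intro a b
    rcases eq_or_ne a 0 with h | ha
    · exact Or.inr h
    refine Or.inl (conj (uEl m (b / a) 0 0) _ _ ?_)
    obtain ⟨t, ht⟩ : ∃ t, t = b / a := ⟨_, rfl⟩
    rw [← ht]
    have hzt : Commute (ρ (uEl m t 0 0)) (e a) := by
      rw [he]
      refine spec_commute ψ z (fun x => ?_) a
      rw [Commute, SemiconjBy, hz, ← map_mul, ← map_mul, uEl_mul hK, uEl_mul hK]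
      congr 2 <;> simp
    have hyt : ∀ u, ρ (uEl m t 0 0) * y u = y u * z (t * u) * ρ (uEl m t 0 0) := fun u => by
      rw [hy, hz, ← map_mul, ← map_mul, ← map_mul, uEl_mul hK, uEl_mul hK, uEl_mul hK]
      congr 2 <;> simp <;> ring
    rw [← mul_assoc, hf, spec, mul_smul_comm, Finset.mul_sum, smul_mul_assoc, Finset.sum_mul]
    conv_rhs => rw [spec, smul_mul_assoc, Finset.sum_mul, smul_mul_assoc, Finset.sum_mul]
    congr 1
    refine Finset.sum_congr rfl fun u _ => ?_
    rw [mul_smul_comm, hyt, smul_mul_assoc, mul_assoc _ (ρ (uEl m t 0 0)), hzt.eq, ← mul_assoc, mul_assoc (y u), he,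
      apply_spec ψ z zadd, mul_smul_comm, smul_mul_assoc, smul_smul, ← AddChar.map_add_eq_mul, ht]
    rw [smul_mul_assoc, smul_mul_assoc]
    congr 1
    rw [zero_mul, neg_zero, AddChar.map_zero_eq_one,
      show -(b * u) + a * (b / a * u) = (0 : K) by field_simp; ring, AddChar.map_zero_eq_one]
  have hval : ∀ a, a ≠ 0 → ∃ n : ℕ, 1 ≤ n ∧ LinearMap.trace ℂ V (e a) = (3 ^ (2 * m + 1) * n : ℕ) := by
    intro a ha
    have hP : f 0 * e a * (f 0 * e a) = f 0 * e a := by
      rw [(fe a 0).symm.mul_mul_mul_comm, eidem, fidem]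
    obtain ⟨n, hn, hn0⟩ := trace_idem hP
    have ht : LinearMap.trace ℂ V (e a) = (3 ^ (2 * m + 1) * n : ℕ) := by
      conv_lhs => rw [← one_mul (e a), ← spec_sum ψ y hψ y0, ← hf, Finset.sum_mul]
      rw [map_sum, Finset.sum_congr rfl (fun b _ => ((shift a b).resolve_right ha).trans hn), Finset.sum_const,
        Finset.card_univ, hK, nsmul_eq_mul, ← Nat.cast_mul]
    refine ⟨n, ?_, ht⟩
    by_contra hlt
    have ha0' : e a = 0 := by
      obtain ⟨n', hn', hn'0⟩ := trace_idem (eidem a)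
      rw [ht, show n = 0 by omega, mul_zero] at hn'
      exact hn'0 (Nat.cast_injective hn'.symm)
    refine hea0 ?_
    have h := escale (Units.mk0 (a0 / a) (div_ne_zero ha0 ha)) a
    rw [Units.val_mk0, mul_div_cancel₀ _ ha, ha0', zero_mul] at h
    calc e a0 = ρ (hEl hK (Units.mk0 (a0 / a) (div_ne_zero ha0 ha)))⁻¹ *
          (ρ (hEl hK (Units.mk0 (a0 / a) (div_ne_zero ha0 ha))) * e a0) := by
            rw [← mul_assoc, ← map_mul, inv_mul_cancel, map_one, one_mul]
      _ = 0 := by rw [h, mul_zero]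
  obtain ⟨n1, hn1, ht1⟩ := hval 1 one_ne_zero
  obtain ⟨n0, hn0, hn00⟩ := trace_idem (eidem 0)
  have hall : ∀ a, a ≠ 0 → LinearMap.trace ℂ V (e a) = (3 ^ (2 * m + 1) * n1 : ℕ) := fun a ha => by
    have h := escale (Units.mk0 a ha) 1
    rw [Units.val_mk0, one_mul] at h
    rw [conj _ _ _ h, ht1]
  have hk : Module.finrank ℂ V = n0 + (3 ^ (2 * m + 1) - 1) * (3 ^ (2 * m + 1) * n1) := by
    have h := LinearMap.trace_one (R := ℂ) (M := V)
    rw [← spec_sum ψ z hψ z0, ← he, map_sum, ← Finset.add_sum_erase _ _ (Finset.mem_univ (0 : K)), hn0,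
      Finset.sum_congr rfl (fun b hb => hall b (Finset.ne_of_mem_erase hb)), Finset.sum_const,
      Finset.card_erase_of_mem (Finset.mem_univ _), Finset.card_univ, hK, nsmul_eq_mul] at h
    exact_mod_cast h.symm
  by_contra hlt
  push_neg at hlt
  have hle : (3 ^ (2 * m + 1) - 1) * 3 ^ (2 * m + 1) ≤ (3 ^ (2 * m + 1) - 1) * (3 ^ (2 * m + 1) * n1) :=
    Nat.mul_le_mul_left _ (Nat.le_mul_of_pos_right _ (by omega))
  rw [mul_comm (3 ^ (2 * m + 1)) (3 ^ (2 * m + 1) - 1)] at hlt
  have hn00' : e 0 = 0 := hn00 (by omega)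
  have hkq : Module.finrank ℂ V = (3 ^ (2 * m + 1) - 1) * 3 ^ (2 * m + 1) := by omega
  have hJ : LinearMap.trace ℂ V (ρ (jEl hK)) = 0 := by
    rw [show ρ (jEl hK) = ρ (jEl hK) * ∑ a, e a by rw [he, spec_sum ψ z hψ z0, mul_one], Finset.mul_sum, map_sum]
    refine Finset.sum_eq_zero fun a _ => ?_
    rcases eq_or_ne a 0 with rfl | ha
    · rw [hn00', mul_zero, map_zero]
    have h := escale (-1) a
    rw [Units.val_neg, Units.val_one, mul_neg_one] at h
    have hne' : -a ≠ a := fun e' => ha ((mul_eq_zero.1 (show (2 : K) * a = 0 by linear_combination -e')).resolve_left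
      (two_ne hK))
    calc LinearMap.trace ℂ V (ρ (jEl hK) * e a) = LinearMap.trace ℂ V (ρ (jEl hK) * e a * e a) := by
          rw [mul_assoc, eidem]
      _ = LinearMap.trace ℂ V (e a * (ρ (jEl hK) * e a)) := LinearMap.trace_mul_comm _ _ _
      _ = LinearMap.trace ℂ V (ρ (jEl hK) * (e (-a) * e a)) := by
          rw [← mul_assoc, ← mul_assoc, jEl, h]
      _ = 0 := by rw [he, spec_mul ψ z zadd hψ, if_neg hne', mul_zero, map_zero]
  have hinv : ∀ x : RG K m, x * x = 1 → x ≠ 1 → LinearMap.trace ℂ V (ρ x) = 0 := fun x hx h1 => by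
    obtain ⟨g, hg⟩ := involution_conj hK hm hx h1
    rw [← hJ]
    exact (conj g _ _ (by rw [← map_mul, ← map_mul, ← hg, inv_mul_cancel_right])).symm
  obtain ⟨hiP, hii, hi1, hij⟩ := iEl_props hK
  have hjj := jEl_mul_self hK
  have hcomm : jEl hK * iEl hK = iEl hK * jEl hK := TD_comm hK (jEl_mem_TD hK) (TP_le hK hiP)
  have hji1 : jEl hK * iEl hK ≠ 1 := fun e' => hij (by
    rw [eq_inv_of_mul_eq_one_right e', inv_eq_of_mul_eq_one_right hjj])
  have hji : jEl hK * iEl hK * (jEl hK * iEl hK) = 1 := by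
    rw [(show Commute (iEl hK) (jEl hK) from hcomm.symm).mul_mul_mul_comm, hjj, hii, one_mul]
  obtain ⟨J, hJd⟩ : ∃ J, J = ρ (jEl hK) := ⟨_, rfl⟩
  obtain ⟨I, hId⟩ : ∃ I, I = ρ (iEl hK) := ⟨_, rfl⟩
  have JJ : J * J = 1 := by rw [hJd, ← map_mul, hjj, map_one]
  have II : I * I = 1 := by rw [hId, ← map_mul, hii, map_one]
  have IJ : I * J = J * I := by rw [hId, hJd, ← map_mul, ← map_mul, hcomm]
  have hP : ((4 : ℂ)⁻¹ • (1 + J + I + J * I)) * ((4 : ℂ)⁻¹ • (1 + J + I + J * I)) =
      (4 : ℂ)⁻¹ • (1 + J + I + J * I) := by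
    have hS : (1 + J + I + J * I) * (1 + J + I + J * I) = (4 : ℂ) • (1 + J + I + J * I) := by
      have e1 : I * (J * I) = J := by rw [← mul_assoc, IJ, mul_assoc, II, mul_one]
      have e2 : J * (J * I) = I := by rw [← mul_assoc, JJ, one_mul]
      have e3 : J * I * J = I := by rw [mul_assoc, IJ, e2]
      have e4 : J * I * I = J := by rw [mul_assoc, II, mul_one]
      have e5 : J * I * (J * I) = 1 := by rw [← mul_assoc, e3, II]
      simp only [mul_add, add_mul, one_mul, mul_one, JJ, II, IJ, e1, e2, e3, e4, e5]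
      module
    rw [smul_mul_smul_comm, hS, smul_smul]
    norm_num
  obtain ⟨n, hn, -⟩ := trace_idem hP
  rw [map_smul, map_add, map_add, map_add, LinearMap.trace_one, hJd, hId, hinv _ hjj (jEl_ne_one hK),
    hinv _ hii hi1, ← map_mul, hinv _ hji hji1, add_zero, add_zero, add_zero, smul_eq_mul] at hn
  have hn' : Module.finrank ℂ V = 4 * n := by
    have : (Module.finrank ℂ V : ℂ) = ((4 * n : ℕ) : ℂ) := by push_cast; linear_combination 4 * hn
    exact_mod_cast this
  have h8 := q_mod_eight (K := K) hK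
  rw [hkq] at hn'
  have hmod : ((3 ^ (2 * m + 1) - 1) * 3 ^ (2 * m + 1)) % 4 = (4 * n) % 4 := by rw [hn']
  rw [Nat.mul_mod, Nat.mul_mod_right, show (3 ^ (2 * m + 1) - 1) % 4 = 2 by omega,
    show 3 ^ (2 * m + 1) % 4 = 3 by omega] at hmod
  norm_num at hmod

end CfsgLib.Lie.Ree
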