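/-
The half torus of a small Ree group.
-/
import Cfsg.Agent.Lib.Lie.Twisted.Ree.Six
import Cfsg.Agent.Lib.Lie.Twisted.Ree.Count
import Mathlib.RingTheory.IntegralDomain

set_option autoImplicit false

namespace CfsgLib.Lie.Ree

open Cfsg.Lie CfsgLib.Lie CfsgLib.Lie.Chev CfsgLib.Lie.Chev.TwGroups

/-- the odd number `(q - 1)/2` -/
def nH (m : ℕ) : ℕ := (3 ^ (2 * m + 1) - 1) / 2

theorem nH_spec (m : ℕ) : 2 * nH m = 3 ^ (2 * m + 1) - 1 ∧ nH m % 2 = 1 := by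
  have h : 3 ^ (2 * m + 1) % 8 = 3 := by
    rw [pow_succ, pow_mul, Nat.mul_mod, Nat.pow_mod]; norm_num
  unfold nH
  obtain ⟨q, hq⟩ : ∃ q, q = 3 ^ (2 * m + 1) := ⟨_, rfl⟩
  rw [← hq] at h ⊢
  omega

theorem nH_gt (m : ℕ) (hm : 1 ≤ m) : 13 ≤ nH m := by
  have h := (nH_spec m).1
  have : 3 ^ 3 ≤ 3 ^ (2 * m + 1) := Nat.pow_le_pow_right three_pos (by omega)
  omega

theorem half_prime {m l : ℕ} (hl : l.Prime) (hd : l ∣ nH m) :
    l ≠ 2 ∧ l ≠ 3 ∧ l ∣ 3 ^ (2 * m + 1) - 1 := by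
  obtain ⟨h2, hodd⟩ := nH_spec m
  have hq : l ∣ 3 ^ (2 * m + 1) - 1 := h2 ▸ Dvd.dvd.mul_left hd 2
  refine ⟨fun e => by subst e; omega, fun e => ?_, hq⟩
  subst e
  have h3 : 3 ∣ 3 ^ (2 * m + 1) := dvd_pow_self 3 (by omega)
  omega

/-- an element sharing a prime with a torus is conjugate into its centraliser -/
theorem conj_mem_of_prime_dvd {G : Type*} [Group G] [Finite G] {A T : Subgroup G} {l : ℕ} (hl : l.Prime)
    (hconj : ∀ x : G, x ^ l = 1 → ∃ g : G, g⁻¹ * x * g ∈ A)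
    (hcent : ∀ a ∈ A, a ≠ 1 → a ^ l = 1 → Subgroup.centralizer {a} ≤ T) {y : G} (hy : l ∣ orderOf y) :
    ∃ g : G, g⁻¹ * y * g ∈ T := by
  obtain ⟨c, hc⟩ := hy
  have hc0 : c ≠ 0 := fun e => by rw [e, mul_zero] at hc; exact (orderOf_pos y).ne' hc
  have hxl : (y ^ c) ^ l = 1 := by rw [← pow_mul, mul_comm, ← hc]; exact pow_orderOf_eq_one y
  have hx1 : y ^ c ≠ 1 := fun e => by
    have := Nat.le_of_dvd (Nat.pos_of_ne_zero hc0) (orderOf_dvd_of_pow_eq_one e)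
    have : 2 * c ≤ l * c := Nat.mul_le_mul_right c hl.two_le
    omega
  obtain ⟨g, hg⟩ := hconj _ hxl
  have hcp : ∀ x : G, ∀ n : ℕ, (g⁻¹ * x * g) ^ n = g⁻¹ * x ^ n * g := fun x n => by
    simpa using conj_pow (a := g⁻¹) (b := x) (i := n)
  refine ⟨g, hcent _ hg (fun e => hx1 ?_) ?_ (Subgroup.mem_centralizer_singleton_iff.2 ?_)⟩
  · calc y ^ c = g * (g⁻¹ * y ^ c * g) * g⁻¹ := by group
      _ = 1 := by rw [e]; group
  · rw [hcp, hxl]; group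
  · rw [← hcp y c]
    exact ((Commute.refl _).pow_right c).eq

variable {K : Type*} [Field K] [Fintype K] {m : ℕ} (hK : Fintype.card K = 3 ^ (2 * m + 1))
include hK

theorem HR_cyclic : IsCyclic ↥(HR K m) :=
  isCyclic_of_surjective ((hEl hK).codRestrict (HR K m) (hEl_mem hK)) fun g => by
    obtain ⟨c, hc⟩ := (mem_HR_iff hK _).1 g.2
    exact ⟨c, Subtype.ext hc.symm⟩

omit hK in
/-- the half torus -/
noncomputable def AH (hK : Fintype.card K = 3 ^ (2 * m + 1)) : Subgroup (RG K m) where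
  carrier := {g | g ∈ HR K m ∧ g ^ nH m = 1}
  mul_mem' := by
    rintro a b ⟨ha, ha'⟩ ⟨hb, hb'⟩
    exact ⟨mul_mem ha hb, by rw [Commute.mul_pow (HR_comm hK ha hb), ha', hb', one_mul]⟩
  one_mem' := ⟨one_mem _, one_pow _⟩
  inv_mem' := by
    rintro a ⟨ha, ha'⟩
    exact ⟨inv_mem ha, by rw [inv_pow, ha', inv_one]⟩

theorem AH_le : AH hK ≤ HR K m := fun _ h => h.1

theorem AH_cyclic : IsCyclic ↥(AH hK) :=
  have := HR_cyclic hK
  isCyclic_of_injective (Subgroup.inclusion (AH_le hK)) (Subgroup.inclusion_injective _)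

theorem card_AH : Nat.card ↥(AH hK) = nH m := by
  obtain ⟨z, hz⟩ := isCyclic_iff_exists_zpowers_eq_top.1 (HR_cyclic hK)
  have ho : orderOf (z : RG K m) = 2 * nH m := by
    rw [Subgroup.orderOf_coe, orderOf_eq_card_of_forall_mem_zpowers (by rw [hz]; exact Subgroup.mem_top), card_HR hK,
      (nH_spec m).1]
  have ho2 : orderOf ((z : RG K m) ^ 2) = nH m := by
    rw [orderOf_pow, ho, Nat.gcd_eq_right (Dvd.intro _ rfl), Nat.mul_div_cancel_left _ two_pos]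
  refine Nat.dvd_antisymm ?_ ?_
  · have := AH_cyclic hK
    rw [← IsCyclic.exponent_eq_card (α := ↥(AH hK))]
    exact Monoid.exponent_dvd_of_forall_pow_eq_one fun g => Subtype.ext (by simpa using g.2.2)
  · rw [← ho2, ← Subgroup.orderOf_mk _ (show (z : RG K m) ^ 2 ∈ AH hK from
      ⟨pow_mem z.2 2, by rw [← pow_mul, ← ho, pow_orderOf_eq_one]⟩)]
    exact orderOf_dvd_natCard _

theorem sq_ne_of_AH {c : Kˣ} (hc : hEl hK c ∈ AH hK) (h1 : hEl hK c ≠ 1) : (c : K) ^ 2 ≠ 1 := fun h => by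
  have e : hEl hK c ^ 2 = 1 := by
    rw [← map_pow, show c ^ 2 = 1 from Units.ext (by rw [Units.val_pow_eq_pow_val, h, Units.val_one]), map_one]
  have := hc.2
  rw [← Nat.div_add_mod (nH m) 2, (nH_spec m).2, pow_succ, pow_mul, e, one_pow, one_mul] at this
  exact h1 this

theorem exists_sq_ne_of_AH {A0 : Subgroup (RG K m)} (hA : A0 ≤ AH hK) (h : A0 ≠ ⊥) :
    ∃ c : Kˣ, (c : K) ^ 2 ≠ 1 ∧ hEl hK c ∈ A0 := by
  obtain ⟨x, hx, hx1⟩ := A0.bot_or_exists_ne_one.resolve_left h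
  obtain ⟨c, rfl⟩ := (mem_HR_iff hK _).1 (AH_le hK (hA hx))
  exact ⟨c, sq_ne_of_AH hK (hA hx) hx1, hx⟩

theorem centralizer_of_le_AH (hm : 1 ≤ m) {A0 : Subgroup (RG K m)} (hA : A0 ≤ AH hK) (h : A0 ≠ ⊥) :
    Subgroup.centralizer (A0 : Set (RG K m)) = HR K m := by
  obtain ⟨c, hc, hcA⟩ := exists_sq_ne_of_AH hK hA h
  refine le_antisymm ((Subgroup.centralizer_le (Set.singleton_subset_iff.2 hcA)).trans
    (centralizer_hEl hK hm hc).le) fun g hg => Subgroup.mem_centralizer_iff.2 fun a ha =>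
      HR_comm hK (AH_le hK (hA ha)) hg

theorem normalizer_of_le_AH (hm : 1 ≤ m) {A0 : Subgroup (RG K m)} (hA : A0 ≤ AH hK) (h : A0 ≠ ⊥) :
    Subgroup.normalizer (A0 : Set (RG K m)) = Subgroup.normalizer (HR K m : Set (RG K m)) := by
  obtain ⟨c, hc, hcA⟩ := exists_sq_ne_of_AH hK hA h
  exact normalizer_of_le_HR hK hm (hA.trans (AH_le hK)) hc hcA

theorem exists_conj_AH {l : ℕ} (hl : l.Prime) (hd : l ∣ nH m) {y : RG K m} (hy : y ^ l = 1) :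
    ∃ g : RG K m, g⁻¹ * y * g ∈ AH hK := by
  obtain ⟨h2, -, hq⟩ := half_prime hl hd
  obtain ⟨g, hg⟩ := exists_conj_mem_of_not_dvd_index hl (not_dvd_index_HR hK hl h2 hq) (k := 1) (x := y) (by rwa [pow_one])
  refine ⟨g, hg, ?_⟩
  obtain ⟨k, hk⟩ := hd
  rw [hk, pow_mul, show g⁻¹ * y * g = g⁻¹ * y * g⁻¹⁻¹ by rw [inv_inv], conj_pow, hy]
  simp

theorem exists_conj_HR (hm : 1 ≤ m) {l : ℕ} (hl : l.Prime) (hd : l ∣ nH m) {y : RG K m} (hy : l ∣ orderOf y) :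
    ∃ g : RG K m, g⁻¹ * y * g ∈ HR K m :=
  conj_mem_of_prime_dvd hl (fun _ => exists_conj_AH hK hl hd) (fun a ha h1 _ => by
    obtain ⟨c, rfl⟩ := (mem_HR_iff hK _).1 (AH_le hK ha)
    exact (centralizer_hEl hK hm (sq_ne_of_AH hK ha h1)).le) hy

end CfsgLib.Lie.Ree
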