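/-
Centralisers and normalisers of the quarter torus of a small Ree group.
-/
import Cfsg.Agent.Lib.Lie.Twisted.Ree.Quarter

set_option autoImplicit false

namespace CfsgLib.Lie.Ree

open Cfsg.Lie CfsgLib.Lie CfsgLib.Lie.Chev CfsgLib.Lie.Chev.TwGroups
open scoped MatrixGroups

/-- conjugation carries centralisers to centralisers -/
theorem conj_centralizer {G : Type*} [Group G] (h u : G) :
    (Subgroup.centralizer {u}).map (MulAut.conj h).toMonoidHom = Subgroup.centralizer {h * u * h⁻¹} := by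
  ext g
  rw [Subgroup.mem_map_equiv, Subgroup.mem_centralizer_singleton_iff, Subgroup.mem_centralizer_singleton_iff,
    MulAut.conj_symm_apply]
  constructor <;> intro e
  · calc g * (h * u * h⁻¹) = h * (h⁻¹ * g * h * u) * h⁻¹ := by group
      _ = _ := by rw [e]; group
  · calc h⁻¹ * g * h * u = h⁻¹ * (g * (h * u * h⁻¹)) * h := by group
      _ = _ := by rw [e]; group

theorem third_of_three {α : Type*} {j i k a b c : α} (ha : a = i ∨ a = k) (hb : b = i ∨ b = k)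
    (hc : c = j ∨ c = i ∨ c = k) (hba : b ≠ a) (hcb : c ≠ b) (hca : c ≠ a) : c = j := by
  rcases ha with rfl | rfl <;> rcases hb with rfl | rfl <;> rcases hc with rfl | rfl | rfl <;>
    first | rfl | exact absurd rfl hba | exact absurd rfl hcb | exact absurd rfl hca

/-- two commuting involutions cannot act without fixed points together with their product on a group of odd order -/
theorem eq_bot_of_klein_fpf {G : Type*} [Group G] [Finite G] {r : ℕ} [Fact r.Prime] (hr : r ≠ 2) {j i : G}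
    {Q : Subgroup G} (hQ : IsPGroup r Q)
    (hact : ∀ z ∈ ({j, i, j * i} : Set G), z * z = 1 ∧ (∀ w ∈ Q, z * w * z⁻¹ ∈ Q) ∧ ∀ w ∈ Q, z * w * z⁻¹ = w → w = 1) :
    Q = ⊥ := by
  by_contra hne
  have : Nontrivial ↥Q := (Subgroup.nontrivial_iff_ne_bot _).2 hne
  have := hQ.center_nontrivial
  obtain ⟨v, hv1⟩ := exists_ne (1 : ↥(Subgroup.center ↥Q))
  obtain ⟨u, hu⟩ : ∃ u : G, u = ((v : ↥Q) : G) := ⟨_, rfl⟩
  have huQ : u ∈ Q := hu ▸ (v : ↥Q).2
  have hucomm : ∀ w ∈ Q, w * u = u * w := fun w hw => by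
    simpa [hu] using congrArg Subtype.val (Subgroup.mem_center_iff.1 v.2 ⟨w, hw⟩)
  have hinv : ∀ z ∈ ({j, i, j * i} : Set G), z * u * z⁻¹ = u⁻¹ := fun z hz => by
    obtain ⟨h2, hmem, hfix⟩ := hact z hz
    have hzu := hmem u huQ
    refine eq_inv_of_mul_eq_one_right (hfix _ (mul_mem huQ hzu) ?_)
    calc z * (u * (z * u * z⁻¹)) * z⁻¹ = z * u * z⁻¹ * ((z * z) * u * (z * z)⁻¹) := by group
      _ = z * u * z⁻¹ * u := by rw [h2]; group
      _ = _ := hucomm _ hzu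
  have huu : u⁻¹ = u := by
    rw [← hinv (j * i) (by simp)]
    calc j * i * u * (j * i)⁻¹ = j * (i * u * i⁻¹) * j⁻¹ := by group
      _ = (j * u * j⁻¹)⁻¹ := by rw [hinv i (by simp)]; group
      _ = u := by rw [hinv j (by simp), inv_inv]
  refine hv1 (Subtype.ext (Subtype.ext ?_))
  show ((v : ↥Q) : G) = 1
  rw [← hu]
  obtain ⟨k, hk⟩ := hQ ⟨u, huQ⟩
  exact orderOf_eq_one_iff.1 (Nat.eq_one_of_dvd_coprimes
    (Nat.Coprime.pow_right k ((Nat.coprime_primes Nat.prime_two (Fact.out)).2 (Ne.symm hr)))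
    (orderOf_dvd_of_pow_eq_one (show u ^ 2 = 1 by rw [sq]; exact inv_eq_iff_mul_eq_one.1 huu))
    (orderOf_dvd_of_pow_eq_one (show u ^ r ^ k = 1 by simpa using congrArg Subtype.val hk)))

variable {K : Type*} [Field K] [Fintype K] {m : ℕ} (hK : Fintype.card K = 3 ^ (2 * m + 1))
include hK

omit hK [Fintype K] in
theorem quarter_prime {l : ℕ} (hl : l.Prime) (hd : l ∣ nQ m) :
    l ≠ 2 ∧ l ≠ 3 ∧ ¬ l ∣ 3 ^ (2 * m + 1) ∧ ¬ l ∣ 3 ^ (2 * m + 1) - 1 ∧ ¬ l ∣ nSix m ∧ l ∣ 3 ^ (2 * m + 1) + 1 := by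
  obtain ⟨h4, hodd⟩ := nQ_spec m
  have hq : l ∣ 3 ^ (2 * m + 1) + 1 := h4 ▸ Dvd.dvd.mul_left hd 4
  have h2 : l ≠ 2 := fun e => by
    subst e
    omega
  have h3 : l ≠ 3 := fun e => by
    subst e
    have := Nat.dvd_sub hq (dvd_pow_self 3 (by omega : 2 * m + 1 ≠ 0))
    rw [Nat.add_sub_cancel_left] at this
    norm_num at this
  refine ⟨h2, h3, fun h => ?_, fun h => ?_, fun h => (six_prime hl h).2.2.2.2.2.2 hq, hq⟩
  · exact h3 ((Nat.prime_dvd_prime_iff_eq hl Nat.prime_three).1 (hl.dvd_of_dvd_pow h))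
  · have := Nat.dvd_sub hq h
    rw [show 3 ^ (2 * m + 1) + 1 - (3 ^ (2 * m + 1) - 1) = 2 by
      have := Nat.one_le_pow (2 * m + 1) 3 three_pos; omega] at this
    exact h2 ((Nat.prime_dvd_prime_iff_eq hl Nat.prime_two).1 this)

theorem A1_index : (A1 hK).index = 4 * (3 ^ (2 * m + 1)) ^ 3 * (3 ^ (2 * m + 1) - 1) * nSix m := by
  refine Nat.eq_of_mul_eq_mul_left (show 0 < nQ m by have := (nQ_spec m).2; omega) ?_
  have h := (A1 hK).card_mul_index
  rw [card_A1 hK, card_RG' hK, ← (nQ_spec m).1] at h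
  rw [h]
  ring

theorem not_dvd_index_A1 {l : ℕ} (hl : l.Prime) (hd : l ∣ nQ m) : ¬ l ∣ (A1 hK).index := by
  obtain ⟨h2, -, h3, h1, h6, -⟩ := quarter_prime hl hd
  rw [A1_index hK]
  intro h
  rcases hl.dvd_mul.1 h with h | h
  rcases hl.dvd_mul.1 h with h | h
  rcases hl.dvd_mul.1 h with h | h
  · exact h2 ((Nat.prime_dvd_prime_iff_eq hl Nat.prime_two).1 (hl.dvd_of_dvd_pow (show l ∣ 2 ^ 2 from h)))
  · exact h3 (hl.dvd_of_dvd_pow h)
  · exact h1 h
  · exact h6 h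

theorem sq_eq_one_A1 {x : RG K m} (hx : x ∈ A1 hK) (h : x * x = 1) : x = 1 := by
  have := hx.2
  rwa [← Nat.div_add_mod (nQ m) 2, (nQ_spec m).2, pow_succ, pow_mul, sq, h, one_pow, one_mul] at this

theorem exists_rot_of_A1 {x : RG K m} (hx : x ∈ A1 hK) (h1 : x ≠ 1) :
    ∃ t ∈ slT K, t.1 0 1 ≠ 0 ∧ x = phi hK t := by
  obtain ⟨t, ht, rfl⟩ := A1_le_TP hK hx
  refine ⟨t, ht, fun hb => h1 ?_, rfl⟩
  refine phi_center hK (Subgroup.mem_center_iff.2 fun g => Subtype.ext ?_)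
  obtain ⟨t1, t2⟩ := mem_slT_iff.1 ht
  show g.1 * t.1 = t.1 * g.1
  have e : t.1 = Matrix.scalar (Fin 2) (t.1 0 0) := by
    ext i j; fin_cases i <;> fin_cases j <;> simp [hb, t1, t2]
  rw [e]
  exact (Matrix.scalar_commute (t.1 0 0) (fun _ => Commute.all _ _) _).symm.eq

/-- the reflection inverts the torus part -/
theorem slS_conj {s t : SL(2, K)} (hs : s ∈ slS K) (ht : t ∈ slT K) :
    phi hK s * phi hK t * (phi hK s)⁻¹ = (phi hK t)⁻¹ := by
  rw [← map_mul, slS_invert hs ht, map_mul, map_inv, mul_inv_cancel_right]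

theorem jEl_conj_phi (h : SL(2, K)) : jEl hK * phi hK h * (jEl hK)⁻¹ = phi hK h := by
  rw [phi_commute_jEl hK h, mul_inv_cancel_right]

theorem centralizer_jEl_inf {x : RG K m} (hx : x ∈ A1 hK) (h1 : x ≠ 1) :
    Subgroup.centralizer {jEl hK} ⊓ Subgroup.centralizer {x} = TD hK := by
  refine le_antisymm ?_ (le_inf (TD_le_centralizer hK (jEl_mem_TD hK)) (TD_le_centralizer hK hx.1))
  rintro g ⟨hg, hgx⟩
  obtain ⟨t, ht, hb, rfl⟩ := exists_rot_of_A1 hK hx h1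
  have e : g * phi hK t * g⁻¹ = phi hK t := by
    rw [Subgroup.mem_centralizer_singleton_iff.1 hgx, mul_inv_cancel_right]
  rcases centralizer_jEl_torus hK ht ht hb hg e with h | ⟨s, hs, h⟩
  · exact h
  · exfalso
    refine h1 (sq_eq_one_A1 hK hx ?_)
    have e' : (phi hK t)⁻¹ = phi hK t := by
      rcases h with rfl | rfl
      · rw [← slS_conj hK hs ht]; exact e
      · conv_rhs => rw [← e]
        rw [mul_inv_rev]
        calc (phi hK t)⁻¹ = jEl hK * (phi hK t)⁻¹ * (jEl hK)⁻¹ := by rw [← map_inv, jEl_conj_phi]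
          _ = _ := by rw [← slS_conj hK hs ht]; group
    exact inv_eq_iff_mul_eq_one.1 e'

theorem exists_conj_pair {l : ℕ} (hl : l.Prime) (hd : l ∣ nQ m) (hm : 1 ≤ m) {z x : RG K m} (hz : z * z = 1)
    (hz1 : z ≠ 1) (hx : x ^ l = 1) (hx1 : x ≠ 1) (hc : z * x = x * z) :
    ∃ h : RG K m, ∃ a ∈ A1 hK, a ≠ 1 ∧ h * jEl hK * h⁻¹ = z ∧ h * a * h⁻¹ = x := by
  obtain ⟨g, hg⟩ := involution_conj hK hm hz hz1
  obtain ⟨C, hC⟩ : ∃ C, C = Subgroup.centralizer {jEl hK} := ⟨_, rfl⟩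
  have hy : g⁻¹ * x * g ∈ C := by
    rw [hC, Subgroup.mem_centralizer_singleton_iff]
    calc g⁻¹ * x * g * jEl hK = g⁻¹ * (x * (g * jEl hK * g⁻¹)) * g := by group
      _ = g⁻¹ * ((g * jEl hK * g⁻¹) * x) * g := by rw [hg, hc]
      _ = jEl hK * (g⁻¹ * x * g) := by group
  have hle : A1 hK ≤ C := hC ▸ (A1_le hK).trans (TD_le_centralizer hK (jEl_mem_TD hK))
  have hidx : ¬ l ∣ ((A1 hK).subgroupOf C).index := by
    intro h
    have h' := Subgroup.card_mul_index ((A1 hK).subgroupOf C)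
    rw [Nat.card_congr (Subgroup.subgroupOfEquivOfLe hle).toEquiv, card_A1 hK, hC, card_centralizer_jEl hK,
      ← (nQ_spec m).1, ← hC] at h'
    have e : ((A1 hK).subgroupOf C).index = 4 * (3 ^ (2 * m + 1) * (3 ^ (2 * m + 1) - 1)) :=
      Nat.eq_of_mul_eq_mul_left (show 0 < nQ m by have := (nQ_spec m).2; omega) (by rw [h']; ring)
    rw [e] at h
    obtain ⟨h2, -, h3, hq1, -, -⟩ := quarter_prime hl hd
    rcases hl.dvd_mul.1 h with h | h
    · exact h2 ((Nat.prime_dvd_prime_iff_eq hl Nat.prime_two).1 (hl.dvd_of_dvd_pow (show l ∣ 2 ^ 2 from h)))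
    · rcases hl.dvd_mul.1 h with h | h
      · exact h3 h
      · exact hq1 h
  obtain ⟨c, hc'⟩ := exists_conj_mem_of_not_dvd_index hl hidx (k := 1) (x := (⟨_, hy⟩ : ↥C)) (Subtype.ext (by
    rw [pow_one, SubmonoidClass.coe_pow]
    show (g⁻¹ * x * g) ^ l = ((1 : ↥C) : RG K m)
    rw [show g⁻¹ * x * g = g⁻¹ * x * g⁻¹⁻¹ by rw [inv_inv], conj_pow, hx, Subgroup.coe_one]
    group))
  rw [Subgroup.mem_subgroupOf, Subgroup.coe_mul, Subgroup.coe_mul, Subgroup.coe_inv] at hc'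
  simp only at hc'
  refine ⟨g * c, _, hc', fun e => hx1 ?_, ?_, by group⟩
  · calc x = g * (c : RG K m) * ((c : RG K m)⁻¹ * (g⁻¹ * x * g) * c) * (g * (c : RG K m))⁻¹ := by group
      _ = 1 := by rw [e]; group
  · have hcj : (c : RG K m) * jEl hK = jEl hK * c := Subgroup.mem_centralizer_singleton_iff.1 (hC.le c.2)
    rw [mul_inv_rev]
    calc g * (c : RG K m) * jEl hK * ((c : RG K m)⁻¹ * g⁻¹) = g * ((c : RG K m) * jEl hK) * (c : RG K m)⁻¹ * g⁻¹ := by group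
      _ = g * jEl hK * g⁻¹ := by rw [hcj]; group
      _ = z := hg

theorem card_inf_centralizer {l : ℕ} (hl : l.Prime) (hd : l ∣ nQ m) (hm : 1 ≤ m) {z x : RG K m} (hz : z * z = 1)
    (hz1 : z ≠ 1) (hx : x ^ l = 1) (hx1 : x ≠ 1) (hc : z * x = x * z) :
    Nat.card ↥(Subgroup.centralizer {z} ⊓ Subgroup.centralizer {x}) = 3 ^ (2 * m + 1) + 1 := by
  obtain ⟨h, a, ha, ha1, e1, e2⟩ := exists_conj_pair hK hl hd hm hz hz1 hx hx1 hc
  rw [← e1, ← e2, ← conj_centralizer, ← conj_centralizer,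
    ← Subgroup.map_inf _ _ _ (MulAut.conj h).injective, centralizer_jEl_inf hK ha ha1, ← card_TD hK]
  exact (Nat.card_congr ((TD hK).equivMapOfInjective _ (MulAut.conj h).injective).toEquiv).symm

omit hK in
/-- the four involutory elements of the torus -/
noncomputable def TE (hK : Fintype.card K = 3 ^ (2 * m + 1)) : Subgroup (RG K m) where
  carrier := {g | g ∈ TD hK ∧ g * g = 1}
  mul_mem' := by
    rintro a b ⟨ha, ha'⟩ ⟨hb, hb'⟩
    exact ⟨mul_mem ha hb, by rw [(show Commute b a from TD_comm hK hb ha).mul_mul_mul_comm, ha', hb', one_mul]⟩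
  one_mem' := ⟨one_mem _, one_mul _⟩
  inv_mem' := by
    rintro a ⟨ha, ha'⟩
    exact ⟨inv_mem ha, by rw [← mul_inv_rev, ha', inv_one]⟩

theorem TE_cases {z : RG K m} (hz : z ∈ TE hK) :
    z = 1 ∨ z = jEl hK ∨ z = iEl hK ∨ z = jEl hK * iEl hK := TD_involution hK hz.1 hz.2

theorem card_TE : Nat.card ↥(TE hK) = 4 := by
  refine Nat.eq_of_mul_eq_mul_right (show 0 < nQ m by have := (nQ_spec m).2; omega) ?_
  rw [(nQ_spec m).1, ← card_TD hK, ← card_A1 hK, ← Nat.card_prod]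
  refine Nat.card_eq_of_bijective (fun p => ⟨(p.1 : RG K m) * (p.2 : RG K m), mul_mem p.1.2.1 p.2.2.1⟩) ⟨?_, ?_⟩
  · rintro ⟨z, a⟩ ⟨z', a'⟩ e
    have e1 : (z : RG K m) * a = z' * a' := congrArg Subtype.val e
    have hw : (z' : RG K m)⁻¹ * z = a' * (a : RG K m)⁻¹ := by
      rw [eq_mul_inv_iff_mul_eq, mul_assoc, e1, inv_mul_cancel_left]
    have h1 : (z' : RG K m)⁻¹ * z = 1 :=
      sq_eq_one_A1 hK (hw ▸ mul_mem a'.2 (inv_mem a.2)) (mul_mem (inv_mem z'.2) z.2).2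
    have hzz : z = z' := Subtype.ext (inv_mul_eq_one.1 h1).symm
    subst hzz
    exact Prod.ext rfl (Subtype.ext (mul_left_cancel e1))
  · rintro ⟨g, hg⟩
    obtain ⟨z, hz, a, ha, h2, e⟩ := TD_decomp hK hg
    exact ⟨(⟨z, hz, h2⟩, ⟨a, ha⟩), Subtype.ext e.symm⟩

theorem jEl_iEl_mem : jEl hK ∈ TE hK ∧ iEl hK ∈ TE hK ∧ jEl hK * iEl hK ∈ TE hK :=
  have hj : jEl hK ∈ TE hK := ⟨jEl_mem_TD hK, jEl_mul_self hK⟩
  have hi : iEl hK ∈ TE hK := ⟨TP_le hK (iEl_props hK).1, (iEl_props hK).2.1⟩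
  ⟨hj, hi, mul_mem hj hi⟩

theorem klein_normalizer {M : Subgroup (RG K m)} {n : RG K m} (hσ : ∀ z ∈ TE hK, n * z * n⁻¹ ∈ TE hK)
    (hfix : ∀ z ∈ TE hK, z ≠ 1 → n * z = z * n → n ∈ TD hK)
    (hfixj : ∀ g ∈ M, g * jEl hK = jEl hK * g → g ∈ TD hK)
    (h3 : ¬ 3 ∣ orderOf n) (hnM : n ∈ M) : n ∈ TD hK := by
  obtain ⟨σ, hσd⟩ : ∃ σ : RG K m → RG K m, ∀ z, σ z = n * z * n⁻¹ := ⟨_, fun _ => rfl⟩
  by_contra hnot
  have nofix : ∀ z ∈ TE hK, z ≠ 1 → σ z ≠ z := fun z hz hz1 e =>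
    hnot (hfix z hz hz1 (mul_inv_eq_iff_eq_mul.1 ((hσd z).symm.trans e)))
  have σmul : ∀ a b, σ (a * b) = σ a * σ b := fun a b => by simp only [hσd]; group
  have σne : ∀ {a b}, a ≠ b → σ a ≠ σ b := fun hab e =>
    hab (by simp only [hσd] at e; exact mul_left_cancel (mul_right_cancel e))
  have σone : σ 1 = 1 := by rw [hσd]; group
  have σmem : ∀ z ∈ TE hK, σ z ∈ TE hK := fun z hz => by rw [hσd]; exact hσ z hz
  obtain ⟨hj, hi, hji⟩ := jEl_iEl_mem hK
  obtain ⟨-, hii, hi1, hij⟩ := iEl_props hK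
  have hj1 := jEl_ne_one hK
  have hji1 : jEl hK * iEl hK ≠ 1 := fun e => hij (by
    rw [eq_inv_of_mul_eq_one_right e, inv_eq_of_mul_eq_one_right (jEl_mul_self hK)])
  have hz1 := σmem _ hj
  have hz1ne : σ (jEl hK) ≠ 1 := fun e => σne hj1 (e.trans σone.symm)
  have hz2 := σmem _ hz1
  have hz2ne : σ (σ (jEl hK)) ≠ 1 := fun e => σne hz1ne (e.trans σone.symm)
  have e21 : σ (σ (jEl hK)) ≠ jEl hK := fun e => by
    have hw := mul_mem hj hz1
    refine nofix _ hw (fun h => nofix _ hj hj1 ?_) ?_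
    · rw [eq_inv_of_mul_eq_one_right h, inv_eq_of_mul_eq_one_right (jEl_mul_self hK)]
    · rw [σmul, e]
      exact TD_comm hK hz1.1 hj.1
  have e3 : σ (σ (σ (jEl hK))) = jEl hK := by
    have hz3 := σmem _ hz2
    have hz3ne : σ (σ (σ (jEl hK))) ≠ 1 := fun e => σne hz2ne (e.trans σone.symm)
    have d21 : σ (σ (jEl hK)) ≠ σ (jEl hK) := nofix _ hz1 hz1ne
    have d32 : σ (σ (σ (jEl hK))) ≠ σ (σ (jEl hK)) := nofix _ hz2 hz2ne
    have d31 : σ (σ (σ (jEl hK))) ≠ σ (jEl hK) := σne e21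
    have d1j : σ (jEl hK) ≠ jEl hK := nofix _ hj hj1
    refine third_of_three (i := iEl hK) (k := jEl hK * iEl hK) ?_ ?_ ?_ d21 d32 d31
    · exact ((TE_cases hK hz1).resolve_left hz1ne).resolve_left d1j
    · exact ((TE_cases hK hz2).resolve_left hz2ne).resolve_left e21
    · exact (TE_cases hK hz3).resolve_left hz3ne
  have hn3 : n ^ 3 ∈ Subgroup.centralizer {jEl hK} := by
    rw [Subgroup.mem_centralizer_singleton_iff]
    refine mul_inv_eq_iff_eq_mul.1 ?_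
    conv_rhs => rw [← e3]
    simp only [hσd, pow_three, mul_inv_rev, mul_assoc]
  have hcop : Nat.Coprime 3 (orderOf n) := Nat.prime_three.coprime_iff_not_dvd.2 h3
  obtain ⟨k, hk⟩ := exists_pow_eq_self_of_coprime hcop
  have hnj : n ∈ Subgroup.centralizer {jEl hK} := hk ▸ pow_mem hn3 k
  exact hnot (hfixj n hnM (Subgroup.mem_centralizer_singleton_iff.1 hnj))

/-- the centraliser of an element of prime order in the quarter torus -/
theorem centralizer_A1_prime (hm : 1 ≤ m) {x : RG K m} (hx : x ∈ A1 hK) {l : ℕ} (hl : l.Prime)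
    (ho : orderOf x = l) : Subgroup.centralizer {x} = TD hK := by
  have hd : l ∣ nQ m := ho ▸ orderOf_dvd_of_pow_eq_one hx.2
  obtain ⟨hl2, hl3, hlq, hlq1, hl6, -⟩ := quarter_prime hl hd
  have hx1 : x ≠ 1 := fun e => by rw [e, orderOf_one] at ho; exact hl.one_lt.ne ho
  have hxl : x ^ l = 1 := ho ▸ pow_orderOf_eq_one x
  obtain ⟨M, hM⟩ : ∃ M, M = Subgroup.centralizer {x} := ⟨_, rfl⟩
  have hDM : TD hK ≤ M := hM ▸ TD_le_centralizer hK hx.1
  have hmemM : ∀ {g}, g ∈ M → x * g = g * x := fun h => (Subgroup.mem_centralizer_singleton_iff.1 (hM.le h)).symm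
  have hfix : ∀ z ∈ TE hK, z ≠ 1 → ∀ g ∈ M, g * z = z * g → g ∈ TD hK := by
    intro z hz hz1 g hg hgz
    have heq : TD hK = Subgroup.centralizer {z} ⊓ M := by
      refine Subgroup.eq_of_le_of_card_ge (le_inf (TD_le_centralizer hK hz.1) hDM) ?_
      rw [hM, card_inf_centralizer hK hl hd hm hz.2 hz1 hxl hx1 (TD_comm hK hz.1 hx.1), card_TD hK]
    exact heq.ge ⟨Subgroup.mem_centralizer_singleton_iff.2 hgz, hg⟩
  have hEM : TE hK ≤ M := fun z hz => hDM hz.1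
  have h3M : ¬ 3 ∣ Nat.card ↥M := fun h => by
    have : Fact (Nat.Prime 3) := ⟨Nat.prime_three⟩
    obtain ⟨y, hy⟩ := exists_prime_orderOf_dvd_card' 3 h
    have h' := dvd_of_commute_three hK (hmemM y.2).symm ho ((Subgroup.orderOf_coe y).trans hy) hm
    rcases hl.dvd_mul.1 h' with h' | h'
    · exact hlq (hl.dvd_of_dvd_pow h')
    · exact hlq1 h'
  have : Fact (Nat.Prime 2) := ⟨Nat.prime_two⟩
  have h8 : ¬ 2 ^ 3 ∣ Nat.card ↥M := fun h => by
    obtain ⟨S0, hS0⟩ := Sylow.exists_subgroup_card_pow_prime 2 h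
    have hc : Nat.card ↥(S0.map M.subtype) = 2 ^ (Nat.card (RG K m)).factorization 2 := by
      rw [← Nat.card_congr (S0.equivMapOfInjective _ M.subtype_injective).toEquiv, hS0, factorization_two hK]
    obtain ⟨S, hS⟩ : ∃ S : Sylow 2 (RG K m), (S : Subgroup (RG K m)) = S0.map M.subtype :=
      ⟨Sylow.ofCard _ hc, Sylow.coe_ofCard _ hc⟩
    have hxS : x ∈ (S : Subgroup (RG K m)) := by
      rw [← centralizer_sylow hK S, Subgroup.mem_centralizer_iff]
      intro y hy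
      rw [SetLike.mem_coe, hS] at hy
      exact (hmemM (Subgroup.map_subtype_le _ hy)).symm
    exact hx1 (sq_eq_one_A1 hK hx ((sylow_two_elem hK S).2 x hxS))
  obtain ⟨E', hE'⟩ : ∃ E' : Subgroup ↥M, E' = (TE hK).subgroupOf M := ⟨_, rfl⟩
  have hcE : Nat.card ↥E' = 4 := by
    rw [hE', Nat.card_congr (Subgroup.subgroupOfEquivOfLe hEM).toEquiv, card_TE hK]
  have h2fac : (Nat.card ↥M).factorization 2 = 2 := by
    refine le_antisymm ?_ ?_
    · by_contra h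
      exact h8 ((Nat.Prime.pow_dvd_iff_le_factorization Nat.prime_two Nat.card_pos.ne').2 (by omega))
    · exact (Nat.Prime.pow_dvd_iff_le_factorization Nat.prime_two Nat.card_pos.ne').1
        (by have := E'.card_subgroup_dvd_card; rw [hcE] at this; exact this)
  obtain ⟨P, hP⟩ : ∃ P : Sylow 2 ↥M, (P : Subgroup ↥M) = E' :=
    ⟨Sylow.ofCard E' (by rw [hcE, h2fac]; norm_num), Sylow.coe_ofCard _ _⟩
  have hNC : Subgroup.normalizer ((P : Subgroup ↥M) : Set ↥M) ≤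
      Subgroup.centralizer ((P : Subgroup ↥M) : Set ↥M) := by
    intro n hn
    rw [hP] at hn ⊢
    have hσ : ∀ z ∈ TE hK, (n : RG K m) * z * (n : RG K m)⁻¹ ∈ TE hK := fun z hz => by
      have := (Subgroup.mem_normalizer_iff.1 hn ⟨z, hEM hz⟩).1 (by rw [hE', Subgroup.mem_subgroupOf]; exact hz)
      rwa [hE', Subgroup.mem_subgroupOf] at this
    have hnD : (n : RG K m) ∈ TD hK := klein_normalizer hK hσ
      (fun z hz hz1 => hfix z hz hz1 n n.2)
      (fun g hg => hfix (jEl hK) (jEl_iEl_mem hK).1 (jEl_ne_one hK) g hg)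
      (fun h => h3M (h.trans ((Subgroup.orderOf_coe n) ▸ orderOf_dvd_natCard _))) n.2
    rw [Subgroup.mem_centralizer_iff]
    intro y hy
    rw [SetLike.mem_coe, hE', Subgroup.mem_subgroupOf] at hy
    exact Subtype.ext (TD_comm hK hy.1 hnD)
  obtain ⟨W, hW⟩ : ∃ W, W = (MonoidHom.transferSylow P hNC).ker := ⟨_, rfl⟩
  have hWc : Nat.card ↥W * 4 = Nat.card ↥M := by
    rw [hW, ← hcE, ← hP]
    exact (MonoidHom.ker_transferSylow_isComplement' P hNC).card_mul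
  have hWodd : ¬ 2 ∣ Nat.card ↥W := hW ▸ MonoidHom.not_dvd_card_ker_transferSylow P hNC
  obtain ⟨Wg, hWg⟩ : ∃ Wg, Wg = W.map M.subtype := ⟨_, rfl⟩
  have hWgc : Nat.card ↥Wg = Nat.card ↥W := by
    rw [hWg]; exact (Nat.card_congr (W.equivMapOfInjective _ M.subtype_injective).toEquiv).symm
  have hWgM : Wg ≤ M := hWg ▸ Subgroup.map_subtype_le W
  have hEN : TE hK ≤ Subgroup.normalizer (Wg : Set (RG K m)) := by
    refine le_trans hEM ?_
    have hnorm : W.Normal := hW ▸ inferInstance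
    intro g hg
    rw [hWg]
    refine Subgroup.le_normalizer_map _ ⟨⟨g, hg⟩, ?_, rfl⟩
    rw [Subgroup.normalizer_eq_top]; exact Subgroup.mem_top _
  have hprimes : ∀ r : ℕ, r.Prime → r ∣ Nat.card ↥W →
      ¬ r ∣ (3 ^ (2 * m + 1)) ^ 3 * (3 ^ (2 * m + 1) - 1) * nSix m := by
    intro r hr hrW hrd
    have hrM : r ∣ Nat.card ↥M := hWc ▸ hrW.mul_right 4
    have hr2 : r ≠ 2 := fun e => hWodd (e ▸ hrW)
    have : Fact r.Prime := ⟨hr⟩
    rcases hr.dvd_mul.1 hrd with hrd | hrd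
    · rcases hr.dvd_mul.1 hrd with hrd | hrd
      · exact h3M (((Nat.prime_dvd_prime_iff_eq hr Nat.prime_three).1 (hr.dvd_of_dvd_pow (hr.dvd_of_dvd_pow hrd))) ▸ hrM)
      · obtain ⟨y, hy⟩ := exists_prime_orderOf_dvd_card' r hrM
        exact hlq1 (dvd_of_commute_split hK (hmemM y.2).symm ho ((Subgroup.orderOf_coe y).trans hy) hr hr2 hrd hm)
    · have hcop : (Nat.card ↥(TE hK)).Coprime (Nat.card ↥Wg) := by
        rw [card_TE hK, hWgc]
        exact Nat.Coprime.pow_left 2 (Nat.prime_two.coprime_iff_not_dvd.2 hWodd)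
      have hsolv : Group.IsSolvable ↥(TE hK) := by
        refine isSolvable_of_comm fun a b => Subtype.ext (TD_comm hK a.2.1 b.2.1)
      obtain ⟨Q, hQ⟩ := CfsgLib.Core.exists_invariant_sylow hEN hcop (Or.inl hsolv) r
      obtain ⟨Qg, hQg⟩ : ∃ Qg, Qg = (Q : Subgroup ↥Wg).map Wg.subtype := ⟨_, rfl⟩
      have hQne : (Q : Subgroup ↥Wg) ≠ ⊥ := fun h => by
        have hdv := Q.dvd_card_of_dvd_card (hWgc.symm ▸ hrW)
        rw [h, Subgroup.card_bot, Nat.dvd_one] at hdv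
        exact hr.one_lt.ne' hdv
      refine hQne (Subgroup.map_injective Wg.subtype_injective ?_)
      rw [Subgroup.map_bot, ← hQg]
      have hfix0 : ∀ z ∈ TE hK, z ≠ 1 → ∀ w ∈ Qg, z * w * z⁻¹ = w → w = 1 := by
        intro z hz hz1 w hw e
        have hwW : w ∈ Wg := (hQg ▸ Subgroup.map_subtype_le _) hw
        have hwD := hfix z hz hz1 w (hWgM hwW) (mul_inv_eq_iff_eq_mul.1 e).symm
        rw [hQg] at hw
        obtain ⟨w', hw', rfl⟩ := hw
        obtain ⟨k, hk⟩ := Q.isPGroup' ⟨w', hw'⟩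
        refine orderOf_eq_one_iff.1 (Nat.eq_one_of_dvd_coprimes (Nat.Coprime.pow_right k ?_)
          (orderOf_dvd_of_pow_eq_one (TD_pow hK hwD)) (orderOf_dvd_of_pow_eq_one (n := r ^ k) (by
            simpa using congrArg (fun a : ↥(Q : Subgroup ↥Wg) => ((a : ↥Wg) : RG K m)) hk)))
        refine (hr.coprime_iff_not_dvd.2 fun h => ?_).symm
        rcases hr.dvd_mul.1 h with h | h
        · exact hr2 ((Nat.prime_dvd_prime_iff_eq hr Nat.prime_two).1 h)
        · exact (quarter_prime hr h).2.2.2.2.1 hrd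
      obtain ⟨hj, hi, hji⟩ := jEl_iEl_mem hK
      obtain ⟨-, hii, hi1, hij⟩ := iEl_props hK
      have hji1 : jEl hK * iEl hK ≠ 1 := fun e => hij (by
        rw [eq_inv_of_mul_eq_one_right e, inv_eq_of_mul_eq_one_right (jEl_mul_self hK)])
      have hact : ∀ z ∈ TE hK, z ≠ 1 → z * z = 1 ∧ (∀ w ∈ Qg, z * w * z⁻¹ ∈ Qg) ∧
          ∀ w ∈ Qg, z * w * z⁻¹ = w → w = 1 := fun z hz hz1 =>
        ⟨hz.2, fun w hw => hQg ▸ (Subgroup.mem_normalizer_iff.1 (hQ hz) w).1 (hQg ▸ hw), hfix0 z hz hz1⟩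
      refine eq_bot_of_klein_fpf (r := r) hr2 (j := jEl hK) (i := iEl hK) (hQg ▸ Q.isPGroup'.map _) ?_
      rintro z (rfl | rfl | rfl)
      · exact hact _ hj (jEl_ne_one hK)
      · exact hact _ hi hi1
      · exact hact _ hji hji1
  have hWdvd : Nat.card ↥W ∣ nQ m := by
    have h1 : Nat.card ↥W ∣ Nat.card (RG K m) :=
      (hWc ▸ Dvd.intro _ rfl : Nat.card ↥W ∣ Nat.card ↥M).trans M.card_subgroup_dvd_card
    rw [card_RG' hK, ← (nQ_spec m).1,
      show ∀ a b c : ℕ, a * (4 * b * c) = (2 ^ 2 * (a * c)) * b from fun a b c => by ring] at h1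
    refine Nat.Coprime.dvd_of_dvd_mul_left (Nat.Coprime.mul_right ?_ ?_) h1
    · exact Nat.Coprime.pow_right 2 (Nat.prime_two.coprime_iff_not_dvd.2 hWodd).symm
    · exact Nat.coprime_of_dvd fun r hr h h' => hprimes r hr h h'
  refine le_antisymm ?_ (hM ▸ hDM)
  rw [← hM]
  refine le_of_eq (Subgroup.eq_of_le_of_card_ge hDM ?_).symm
  rw [card_TD hK, ← (nQ_spec m).1, ← hWc]
  have := Nat.le_of_dvd (by have := (nQ_spec m).2; omega) hWdvd
  omega

end CfsgLib.Lie.Ree
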