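/-
The normaliser of the quarter torus of a small Ree group.
-/
import Cfsg.Agent.Lib.Lie.Twisted.Ree.QuarterCentralizer

set_option autoImplicit false

namespace CfsgLib.Lie.Ree

open Cfsg.Lie CfsgLib.Lie CfsgLib.Lie.Chev CfsgLib.Lie.Chev.TwGroups
open scoped MatrixGroups

variable {K : Type*} [Field K] [Fintype K] {m : ℕ} (hK : Fintype.card K = 3 ^ (2 * m + 1))
include hK

theorem exists_prime_in {A0 : Subgroup (RG K m)} (h : A0 ≠ ⊥) :
    ∃ l : ℕ, ∃ x ∈ A0, l.Prime ∧ orderOf x = l := by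
  obtain ⟨l, hl, hd⟩ := Nat.exists_prime_and_dvd (show Nat.card ↥A0 ≠ 1 from fun e => h (Subgroup.eq_bot_of_card_eq A0 e))
  have : Fact l.Prime := ⟨hl⟩
  obtain ⟨y, hy⟩ := exists_prime_orderOf_dvd_card' l hd
  exact ⟨l, y, y.2, hl, (Subgroup.orderOf_coe y).trans hy⟩

theorem centralizer_quarter (hm : 1 ≤ m) {x : RG K m} (hx : x ∈ A1 hK) (h1 : x ≠ 1) :
    Subgroup.centralizer {x} = TD hK := by
  refine le_antisymm (fun g hg => ?_) (TD_le_centralizer hK hx.1)
  obtain ⟨l, y, hy, hl, ho⟩ := exists_prime_in hK (A0 := Subgroup.zpowers x) (fun e => h1 (Subgroup.zpowers_eq_bot.1 e))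
  rw [← centralizer_A1_prime hK hm (Subgroup.zpowers_le.2 hx hy) hl ho, Subgroup.mem_centralizer_singleton_iff]
  obtain ⟨k, rfl⟩ := hy
  exact ((show Commute g x from Subgroup.mem_centralizer_singleton_iff.1 hg).zpow_right k).eq

theorem centralizer_of_le_A1 (hm : 1 ≤ m) {A0 : Subgroup (RG K m)} (hA : A0 ≤ A1 hK) (h : A0 ≠ ⊥) :
    Subgroup.centralizer (A0 : Set (RG K m)) = TD hK := by
  obtain ⟨l, x, hx, hl, ho⟩ := exists_prime_in hK h
  refine le_antisymm ((Subgroup.centralizer_le (Set.singleton_subset_iff.2 hx)).trans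
    (centralizer_A1_prime hK hm (hA hx) hl ho).le) fun g hg => Subgroup.mem_centralizer_iff.2 fun a ha =>
      TD_comm hK (hA ha).1 hg

theorem normalizes_TD_of_conj (hm : 1 ≤ m) {g a b : RG K m} (ha : a ∈ A1 hK) (ha1 : a ≠ 1) (hb : b ∈ A1 hK)
    (e : g * a * g⁻¹ = b) : g ∈ Subgroup.normalizer (A1 hK : Set (RG K m)) := by
  have hb1 : b ≠ 1 := fun h => ha1 (conj_eq_one_iff.1 (e.trans h))
  have hmap : (TD hK).map (MulAut.conj g).toMonoidHom = TD hK := by
    conv_lhs => rw [← centralizer_quarter hK hm ha ha1]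
    rw [conj_centralizer, e, centralizer_quarter hK hm hb hb1]
  rw [Subgroup.mem_normalizer_iff]
  intro y
  show y ∈ TD hK ∧ y ^ nQ m = 1 ↔ g * y * g⁻¹ ∈ TD hK ∧ (g * y * g⁻¹) ^ nQ m = 1
  conv_rhs => rw [conj_pow, conj_eq_one_iff, ← hmap, Subgroup.mem_map_equiv, MulAut.conj_symm_apply,
    show g⁻¹ * (g * y * g⁻¹) * g = y by group]

theorem normalizer_A1_conj (hm : 1 ≤ m) {g : RG K m} (hg : g ∈ Subgroup.normalizer (A1 hK : Set (RG K m)))
    {a : RG K m} (ha : a ∈ TD hK) : g * a * g⁻¹ ∈ TD hK := by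
  obtain ⟨l, x, hx, hl, ho⟩ := exists_prime_in hK (A0 := A1 hK) (fun e => by
    have := card_A1 hK
    rw [e, Subgroup.card_bot] at this
    have := nQ_gt m hm
    omega)
  have hx1 : x ≠ 1 := fun e => by rw [e, orderOf_one] at ho; exact hl.one_lt.ne ho
  have hgx := (Subgroup.mem_normalizer_iff.1 hg x).1 hx
  rw [← centralizer_quarter hK hm hgx (fun e => hx1 (conj_eq_one_iff.1 e)), ← conj_centralizer,
    centralizer_quarter hK hm hx hx1]
  exact Subgroup.mem_map_of_mem _ ha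

theorem normalizer_of_le_A1 (hm : 1 ≤ m) {A0 : Subgroup (RG K m)} (hA : A0 ≤ A1 hK) (h : A0 ≠ ⊥) :
    Subgroup.normalizer (A0 : Set (RG K m)) = Subgroup.normalizer (A1 hK : Set (RG K m)) := by
  refine le_antisymm (fun g hg => ?_) (Count.normalizer_le_normalizer (A1_cyclic hK) hA)
  obtain ⟨l, x, hx, hl, ho⟩ := exists_prime_in hK h
  exact normalizes_TD_of_conj hK hm (hA hx) (fun e => by rw [e, orderOf_one] at ho; exact hl.one_lt.ne ho)
    (hA ((Subgroup.mem_normalizer_iff.1 hg x).1 hx)) rfl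

theorem exists_prime_A1 (hm : 1 ≤ m) :
    ∃ l : ℕ, ∃ x ∈ A1 hK, l.Prime ∧ l ∣ nQ m ∧ orderOf x = l := by
  obtain ⟨l, x, hx, hl, ho⟩ := exists_prime_in hK (A0 := A1 hK) (fun e => by
    have := card_A1 hK
    rw [e, Subgroup.card_bot] at this
    have := nQ_gt m hm
    omega)
  exact ⟨l, x, hx, hl, ho ▸ orderOf_dvd_of_pow_eq_one hx.2, ho⟩

theorem card_normalizer_inf (hm : 1 ≤ m) :
    Nat.card ↥(Subgroup.normalizer (A1 hK : Set (RG K m)) ⊓ Subgroup.centralizer {jEl hK}) =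
      2 * (3 ^ (2 * m + 1) + 1) := by
  obtain ⟨l, x, hx, hl, hd, ho⟩ := exists_prime_A1 hK hm
  have hx1 : x ≠ 1 := fun e => by rw [e, orderOf_one] at ho; exact hl.one_lt.ne ho
  obtain ⟨s, hs⟩ := exists_slS hK
  obtain ⟨t, ht, hb, htx⟩ := exists_rot_of_A1 hK hx hx1
  have hinv : phi hK s * x * (phi hK s)⁻¹ = x⁻¹ := by rw [htx, slS_conj hK hs ht]
  have hsN : phi hK s ∈ Subgroup.normalizer (A1 hK : Set (RG K m)) :=
    normalizes_TD_of_conj hK hm hx hx1 (inv_mem hx) hinv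
  have hsC : phi hK s ∈ Subgroup.centralizer {jEl hK} :=
    Subgroup.mem_centralizer_singleton_iff.2 (phi_commute_jEl hK s).symm
  have hsD : phi hK s ∉ TD hK := fun h => by
    rw [Subgroup.mem_centralizer_singleton_iff.1 (TD_le_centralizer hK hx.1 h), mul_inv_cancel_right] at hinv
    exact hx1 (sq_eq_one_A1 hK hx (eq_inv_iff_mul_eq_one.1 hinv))
  have hDN : TD hK ≤ Subgroup.normalizer (A1 hK : Set (RG K m)) ⊓ Subgroup.centralizer {jEl hK} := fun d hd' =>
    ⟨normalizes_TD_of_conj hK hm hx hx1 hx (by rw [TD_comm hK hd' hx.1, mul_inv_cancel_right]),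
      TD_le_centralizer hK (jEl_mem_TD hK) hd'⟩
  rw [← card_TD hK, ← Nat.card_eq_two_iff.2 ⟨true, false, by decide, by ext b; cases b <;> simp⟩, ← Nat.card_prod]
  refine (Nat.card_eq_of_bijective (fun p : Bool × ↥(TD hK) => ⟨(if p.1 then phi hK s else 1) * (p.2 : RG K m), by
    refine mul_mem ?_ (hDN p.2.2)
    split
    · exact ⟨hsN, hsC⟩
    · exact one_mem _⟩) ⟨?_, ?_⟩).symm
  · rintro ⟨b, d⟩ ⟨b', d'⟩ e
    have e1 := congrArg Subtype.val e
    simp only at e1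
    cases b <;> cases b' <;> simp at e1
    · exact Prod.ext rfl e1
    · exact absurd (show phi hK s ∈ TD hK by
        rw [eq_mul_inv_of_mul_eq e1.symm]; exact mul_mem d.2 (inv_mem d'.2)) hsD
    · exact absurd (show phi hK s ∈ TD hK by
        rw [eq_mul_inv_of_mul_eq e1]; exact mul_mem d'.2 (inv_mem d.2)) hsD
    · exact Prod.ext rfl e1
  · rintro ⟨g, hgN, hgC⟩
    obtain ⟨t', ht', htx'⟩ := A1_le_TP hK ((Subgroup.mem_normalizer_iff.1 hgN x).1 hx)
    rcases centralizer_jEl_torus hK ht ht' hb hgC (by rw [← htx, htx']) with h | ⟨s', hs', h⟩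
    · exact ⟨(false, ⟨g, h⟩), Subtype.ext (one_mul _)⟩
    · have h' : (phi hK s)⁻¹ * g ∈ TD hK := by
        refine ⟨s⁻¹ * s', slS_div hs hs', ?_⟩
        rcases h with rfl | rfl
        · exact Or.inl (by rw [map_mul, map_inv])
        · exact Or.inr (by rw [← mul_assoc, ← map_inv, ← phi_commute_jEl hK s⁻¹, mul_assoc, ← map_mul])
      exact ⟨(true, ⟨_, h'⟩), Subtype.ext (mul_inv_cancel_left _ _)⟩

theorem card_normalizer_A1 (hm : 1 ≤ m) :
    Nat.card ↥(Subgroup.normalizer (A1 hK : Set (RG K m))) = 6 * (3 ^ (2 * m + 1) + 1) := by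
  obtain ⟨N, hN⟩ : ∃ N, N = Subgroup.normalizer (A1 hK : Set (RG K m)) := ⟨_, rfl⟩
  obtain ⟨l, x, hx, hl, hd, ho⟩ := exists_prime_A1 hK hm
  have hx1 : x ≠ 1 := fun e => by rw [e, orderOf_one] at ho; exact hl.one_lt.ne ho
  obtain ⟨hj, hi, hji⟩ := jEl_iEl_mem hK
  obtain ⟨-, -, hi1, hij⟩ := iEl_props hK
  have hji1 : jEl hK * iEl hK ≠ 1 := fun e => hij (by
    rw [eq_inv_of_mul_eq_one_right e, inv_eq_of_mul_eq_one_right (jEl_mul_self hK)])
  have hjij : jEl hK * iEl hK ≠ jEl hK := fun e => hi1 (mul_eq_left.1 e)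
  have hiji : iEl hK ≠ jEl hK * iEl hK := fun e => jEl_ne_one hK (mul_eq_right.1 e.symm)
  have hset : (Set.range fun n : ↥N => (n : RG K m) * jEl hK * (n : RG K m)⁻¹) =
      {jEl hK, iEl hK, jEl hK * iEl hK} := by
    ext z
    constructor
    · rintro ⟨n, rfl⟩
      rcases TD_involution hK (normalizer_A1_conj hK hm (hN.le n.2) hj.1) (by
          simp only [mul_assoc, inv_mul_cancel_left]; rw [← mul_assoc (jEl hK), jEl_mul_self hK, one_mul, mul_inv_cancel])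
        with h | h | h | h
      · exact absurd (conj_eq_one_iff.1 h) (jEl_ne_one hK)
      · exact Or.inl h
      · exact Or.inr (Or.inl h)
      · exact Or.inr (Or.inr h)
    · intro hz
      obtain ⟨hzE, hz1⟩ : z ∈ TE hK ∧ z ≠ 1 := by
        rcases hz with rfl | rfl | rfl
        · exact ⟨hj, jEl_ne_one hK⟩
        · exact ⟨hi, hi1⟩
        · exact ⟨hji, hji1⟩
      obtain ⟨h, a, ha, ha1, e1, e2⟩ := exists_conj_pair hK hl hd hm hzE.2 hz1 (ho ▸ pow_orderOf_eq_one x) hx1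
        (TD_comm hK hzE.1 hx.1)
      exact ⟨⟨h, hN.symm ▸ normalizes_TD_of_conj hK hm ha ha1 hx e2⟩, e1⟩
  have h3 := card_conj_set N (jEl hK)
  rw [hset, Nat.card_coe_set_eq, Set.ncard_eq_three.2 ⟨_, _, _, hij.symm, hjij.symm, hiji, rfl⟩] at h3
  have h := ((Subgroup.centralizer {jEl hK}).subgroupOf N).card_mul_index
  rw [← h3, ← Subgroup.inf_subgroupOf_right, Nat.card_congr (Subgroup.subgroupOfEquivOfLe inf_le_right).toEquiv,
    inf_comm, hN, card_normalizer_inf hK hm] at h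
  omega

theorem exists_conj_A1 {l : ℕ} (hl : l.Prime) (hd : l ∣ nQ m) {y : RG K m} (hy : y ^ l = 1) :
    ∃ g : RG K m, g⁻¹ * y * g ∈ A1 hK :=
  exists_conj_mem_of_not_dvd_index hl (not_dvd_index_A1 hK hl hd) (k := 1) (by rwa [pow_one])

end CfsgLib.Lie.Ree
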