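/-
The cyclic subgroups of a small Ree group of order dividing q² - q + 1.
-/
import Cfsg.Agent.Lib.Lie.Twisted.Ree.QuarterNormalizer
import Cfsg.Agent.Lib.Lie.Twisted.Ree.Half

set_option autoImplicit false

namespace CfsgLib.Lie.Ree

open Cfsg.Lie CfsgLib.Lie CfsgLib.Lie.Chev CfsgLib.Lie.Chev.TwGroups

/-- the power of prime order -/
theorem exists_pow_prime_order {G : Type*} [Group G] [Finite G] (y : G) {l : ℕ} (hl : l ∣ orderOf y) :
    ∃ c : ℕ, orderOf (y ^ c) = l := by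
  obtain ⟨c, hc⟩ := hl
  have hc0 : c ≠ 0 := fun e => by rw [e, mul_zero] at hc; exact (orderOf_pos y).ne' hc
  exact ⟨c, by rw [orderOf_pow' y hc0, hc, Nat.gcd_mul_left_left, Nat.mul_div_cancel _ (Nat.pos_of_ne_zero hc0)]⟩

theorem nSix_gt (m : ℕ) (hm : 1 ≤ m) : 703 ≤ nSix m := by
  have h : 3 ^ 3 ≤ 3 ^ (2 * m + 1) := Nat.pow_le_pow_right three_pos (by omega)
  have : 27 * 26 ≤ 3 ^ (2 * m + 1) * (3 ^ (2 * m + 1) - 1) := Nat.mul_le_mul (by omega) (by omega)
  unfold nSix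
  omega

/-- a number prime to the other factors of the group order divides the norm -/
theorem dvd_nSix {m n : ℕ}
    (hn : n ∣ (3 ^ (2 * m + 1)) ^ 3 * (3 ^ (2 * m + 1) - 1) * ((3 ^ (2 * m + 1) + 1) * nSix m))
    (h : ∀ r : ℕ, r.Prime → r ∣ n →
      r ≠ 2 ∧ r ≠ 3 ∧ ¬ r ∣ 3 ^ (2 * m + 1) - 1 ∧ ¬ r ∣ nQ m) : n ∣ nSix m := by
  rw [← (nQ_spec m).1, show ∀ a b c d : ℕ, a * b * (4 * c * d) = (2 ^ 2 * a * b * c) * d from fun a b c d => by ring] at hn
  refine Nat.Coprime.dvd_of_dvd_mul_left (Nat.coprime_of_dvd fun r hr hrn hrd => ?_) hn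
  obtain ⟨h2, h3, h1, hQ⟩ := h r hr hrn
  rcases hr.dvd_mul.1 hrd with hd | hd
  · rcases hr.dvd_mul.1 hd with hd | hd
    · rcases hr.dvd_mul.1 hd with hd | hd
      · exact h2 ((Nat.prime_dvd_prime_iff_eq hr Nat.prime_two).1 (hr.dvd_of_dvd_pow hd))
      · exact h3 ((Nat.prime_dvd_prime_iff_eq hr Nat.prime_three).1 (hr.dvd_of_dvd_pow (hr.dvd_of_dvd_pow hd)))
    · exact h1 hd
  · exact hQ hd

variable {K : Type*} [Field K] [Fintype K] {m : ℕ} (hK : Fintype.card K = 3 ^ (2 * m + 1))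
include hK

theorem exists_conj_TD (hm : 1 ≤ m) {l : ℕ} (hl : l.Prime) (hd : l ∣ nQ m) {y : RG K m} (hy : l ∣ orderOf y) :
    ∃ g : RG K m, g⁻¹ * y * g ∈ TD hK :=
  conj_mem_of_prime_dvd hl (fun _ => exists_conj_A1 hK hl hd)
    (fun a ha h1 _ => (centralizer_quarter hK hm ha h1).le) hy

theorem exists_orderOf_nSix {p : ℕ} (hp : p.Prime) (hd : p ∣ nSix m) : ∃ x : RG K m, orderOf x = p := by
  have : Fact p.Prime := ⟨hp⟩
  exact exists_prime_orderOf_dvd_card' p (by rw [card_RG' hK]; exact Dvd.dvd.mul_left (Dvd.dvd.mul_left hd _) _)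

theorem six_orderOf (hm : 1 ≤ m) {p : ℕ} (hp : p.Prime) (hd : p ∣ nSix m) {x : RG K m} (hx : orderOf x = p)
    {y : RG K m} (hy : y ∈ Subgroup.centralizer {x}) : orderOf y ∣ nSix m := by
  obtain ⟨-, hcop, -⟩ := centralizer_six hK hm hp hd hx
  refine dvd_nSix (by rw [← card_RG' hK]; exact orderOf_dvd_natCard y) fun r hr hry => ?_
  have hr6 : ¬ r ∣ 6 * (3 ^ (2 * m + 1) - 1) := fun h => hr.one_lt.ne'
    (Nat.eq_one_of_dvd_coprimes (hcop y hy) hry h)
  refine ⟨fun e => hr6 (by subst e; exact dvd_mul_of_dvd_left (by norm_num) _),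
    fun e => hr6 (by subst e; exact dvd_mul_of_dvd_left (by norm_num) _), fun h => hr6 (h.mul_left 6), fun hQ => ?_⟩
  obtain ⟨c, hc⟩ := exists_pow_prime_order y hry
  obtain ⟨g, hg⟩ := exists_conj_A1 hK hr hQ (y := y ^ c) (by rw [← hc]; exact pow_orderOf_eq_one _)
  have hg1 : g⁻¹ * y ^ c * g ≠ 1 := fun e => by
    have hy1 : y ^ c = 1 := by
      calc y ^ c = g * (g⁻¹ * y ^ c * g) * g⁻¹ := by group
        _ = 1 := by rw [e]; group
    rw [hy1, orderOf_one] at hc
    exact hr.one_lt.ne hc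
  have h1 := prime_dvd_centralizer hK
    ((show Commute y x from Subgroup.mem_centralizer_singleton_iff.1 hy).pow_left c).eq hx
  have h2 := card_centralizer_conj g⁻¹ (y ^ c)
  rw [inv_inv, centralizer_quarter hK hm hg hg1, card_TD hK] at h2
  rw [← h2] at h1
  exact (six_prime hp hd).2.2.2.2.2.2 h1

/-- every element commuting with an element of a six-type torus lies in it -/
theorem six_centralizer (hm : 1 ≤ m) {p : ℕ} (hp : p.Prime) (hd : p ∣ nSix m) {x : RG K m} (hx : orderOf x = p)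
    {y : RG K m} (hy : y ∈ Subgroup.centralizer {x}) (h1 : y ≠ 1) :
    Subgroup.centralizer {y} = Subgroup.centralizer {x} := by
  obtain ⟨hcyc, -, -⟩ := centralizer_six hK hm hp hd hx
  obtain ⟨r, hr, hry⟩ := Nat.exists_prime_and_dvd (fun e : orderOf y = 1 => h1 (orderOf_eq_one_iff.1 e))
  obtain ⟨c, hc⟩ := exists_pow_prime_order y hry
  have hrN : r ∣ nSix m := hry.trans (six_orderOf hK hm hp hd hx hy)
  obtain ⟨hcyc', -, -⟩ := centralizer_six hK hm hr hrN hc
  have hcomm : ∀ {a : RG K m}, IsCyclic ↥(Subgroup.centralizer {a}) → ∀ {u v : RG K m},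
      u ∈ Subgroup.centralizer {a} → v ∈ Subgroup.centralizer {a} → u * v = v * u := fun {a} h {u v} hu hv => by
    letI := @IsCyclic.commGroup _ _ h
    exact congrArg Subtype.val (mul_comm (⟨u, hu⟩ : ↥(Subgroup.centralizer {a})) ⟨v, hv⟩)
  refine le_antisymm (fun g hg => ?_) (fun g hg => Subgroup.mem_centralizer_singleton_iff.2 (hcomm hcyc hg hy))
  have hgc : g ∈ Subgroup.centralizer {y ^ c} := Subgroup.mem_centralizer_singleton_iff.2
    ((show Commute g y from Subgroup.mem_centralizer_singleton_iff.1 hg).pow_right c).eq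
  have hxc : x ∈ Subgroup.centralizer {y ^ c} := Subgroup.mem_centralizer_singleton_iff.2
    ((show Commute x y from (Subgroup.mem_centralizer_singleton_iff.1 hy).symm).pow_right c).eq
  exact Subgroup.mem_centralizer_singleton_iff.2 (hcomm hcyc' hgc hxc)

theorem card_six_dvd (hm : 1 ≤ m) {p : ℕ} (hp : p.Prime) (hd : p ∣ nSix m) {x : RG K m} (hx : orderOf x = p) :
    Nat.card ↥(Subgroup.centralizer {x}) ∣ nSix m := by
  obtain ⟨hcyc, -, -⟩ := centralizer_six hK hm hp hd hx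
  obtain ⟨z, hz⟩ := isCyclic_iff_exists_zpowers_eq_top.1 hcyc
  rw [← orderOf_eq_card_of_forall_mem_zpowers (g := z) (by rw [hz]; exact Subgroup.mem_top), ← Subgroup.orderOf_coe]
  exact six_orderOf hK hm hp hd hx z.2

theorem six_index (hm : 1 ≤ m) {p : ℕ} (hp : p.Prime) (hd : p ∣ nSix m) {x : RG K m} (hx : orderOf x = p)
    {r : ℕ} (hr : r.Prime) (hrA : r ∣ Nat.card ↥(Subgroup.centralizer {x})) :
    ¬ r ∣ (Subgroup.centralizer {x}).index := by
  have : Fact r.Prime := ⟨hr⟩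
  have hrN : r ∣ nSix m := hrA.trans (card_six_dvd hK hm hp hd hx)
  obtain ⟨w, hw⟩ := exists_prime_orderOf_dvd_card' r hrA
  have hwo : orderOf (w : RG K m) = r := (Subgroup.orderOf_coe w).trans hw
  have hw1 : (w : RG K m) ≠ 1 := fun e => by rw [e, orderOf_one] at hwo; exact hr.one_lt.ne hwo
  obtain ⟨P, hP⟩ := (IsPGroup.of_card (n := 1) (by rw [Nat.card_zpowers, hwo, pow_one]) :
    IsPGroup r ↥(Subgroup.zpowers (w : RG K m))).exists_le_sylow
  have : Nontrivial ↥(P : Subgroup (RG K m)) :=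
    (Subgroup.nontrivial_iff_ne_bot _).2 fun e => hw1 (Subgroup.mem_bot.1 (e ▸ hP (Subgroup.mem_zpowers _)))
  have hZ := P.isPGroup'.center_nontrivial
  obtain ⟨v, hv⟩ := exists_ne (1 : ↥(Subgroup.center ↥(P : Subgroup (RG K m))))
  obtain ⟨u, hu⟩ : ∃ u : RG K m, u = ((v : ↥(P : Subgroup (RG K m))) : RG K m) := ⟨_, rfl⟩
  have hu1 : u ≠ 1 := fun e => hv (Subtype.ext (Subtype.ext (hu.symm.trans e)))
  have hucomm : ∀ g ∈ (P : Subgroup (RG K m)), g * u = u * g := fun g hg => by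
    simpa [hu] using congrArg Subtype.val (Subgroup.mem_center_iff.1 v.2 ⟨g, hg⟩)
  have huC : u ∈ Subgroup.centralizer {(w : RG K m)} :=
    Subgroup.mem_centralizer_singleton_iff.2 (hucomm _ (hP (Subgroup.mem_zpowers _))).symm
  have hPA : (P : Subgroup (RG K m)) ≤ Subgroup.centralizer {x} := fun g hg => by
    rw [← six_centralizer hK hm hp hd hx w.2 hw1, ← six_centralizer hK hm hr hrN hwo huC hu1]
    exact Subgroup.mem_centralizer_singleton_iff.2 (hucomm g hg)
  exact fun h => P.not_dvd_index (h.trans (Subgroup.index_dvd_of_le hPA))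

theorem six_normalizer_le (hm : 1 ≤ m) {p : ℕ} (hp : p.Prime) (hd : p ∣ nSix m) {x : RG K m} (hx : orderOf x = p)
    {g a : RG K m} (ha : a ∈ Subgroup.centralizer {x}) (h1 : a ≠ 1) (hga : g * a * g⁻¹ ∈ Subgroup.centralizer {x}) :
    g ∈ Subgroup.normalizer (Subgroup.centralizer {x} : Set (RG K m)) := by
  have hmap : (Subgroup.centralizer {x}).map (MulAut.conj g).toMonoidHom = Subgroup.centralizer {x} := by
    conv_lhs => rw [← six_centralizer hK hm hp hd hx ha h1]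
    rw [conj_centralizer, six_centralizer hK hm hp hd hx hga fun e => h1 (conj_eq_one_iff.1 e)]
  rw [Subgroup.mem_normalizer_iff]
  intro y
  conv_rhs => rw [← hmap, Subgroup.mem_map_equiv, MulAut.conj_symm_apply, show g⁻¹ * (g * y * g⁻¹) * g = y by group]

theorem six_normalizer_sub (hm : 1 ≤ m) {p : ℕ} (hp : p.Prime) (hd : p ∣ nSix m) {x : RG K m} (hx : orderOf x = p)
    {A0 : Subgroup (RG K m)} (hA : A0 ≤ Subgroup.centralizer {x}) (h : A0 ≠ ⊥) :
    Subgroup.normalizer (A0 : Set (RG K m)) = Subgroup.normalizer (Subgroup.centralizer {x} : Set (RG K m)) := by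
  refine le_antisymm (fun g hg => ?_) (Count.normalizer_le_normalizer (centralizer_six hK hm hp hd hx).1 hA)
  obtain ⟨a, ha, h1⟩ := A0.bot_or_exists_ne_one.resolve_left h
  exact six_normalizer_le hK hm hp hd hx (hA ha) h1 (hA ((Subgroup.mem_normalizer_iff.1 hg a).1 ha))

theorem six_normalizer_card (hm : 1 ≤ m) {p : ℕ} (hp : p.Prime) (hd : p ∣ nSix m) {x : RG K m} (hx : orderOf x = p) :
    ∃ e : ℕ, e ∣ 6 ∧ Nat.card ↥(Subgroup.normalizer (Subgroup.centralizer {x} : Set (RG K m))) =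
      e * Nat.card ↥(Subgroup.centralizer {x}) := by
  have hxA : Subgroup.zpowers x ≤ Subgroup.centralizer {x} :=
    Subgroup.zpowers_le.2 (Subgroup.mem_centralizer_singleton_iff.2 rfl)
  have hne : Subgroup.zpowers x ≠ ⊥ := fun e => by
    rw [Subgroup.zpowers_eq_bot.1 e, orderOf_one] at hx
    exact hp.one_lt.ne hx
  refine ⟨_, normalizer_six_index hK hm hp hd hx, ?_⟩
  rw [six_normalizer_sub hK hm hp hd hx hxA hne, mul_comm]
  obtain ⟨A, hA⟩ : ∃ A, A = Subgroup.centralizer {x} := ⟨_, rfl⟩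
  rw [← hA, Subgroup.relIndex]
  have := (A.subgroupOf (Subgroup.normalizer (A : Set (RG K m)))).card_mul_index
  rw [Nat.card_congr (Subgroup.subgroupOfEquivOfLe Subgroup.le_normalizer).toEquiv] at this
  exact this.symm

theorem conj_into_six (hm : 1 ≤ m) {p : ℕ} (hp : p.Prime) (hd : p ∣ nSix m) {x : RG K m} (hx : orderOf x = p)
    {r : ℕ} (hr : r.Prime) (hrA : r ∣ Nat.card ↥(Subgroup.centralizer {x})) {y : RG K m} (hy : r ∣ orderOf y) :
    ∃ g : RG K m, g⁻¹ * y * g ∈ Subgroup.centralizer {x} :=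
  conj_mem_of_prime_dvd hr
    (fun z hz => exists_conj_mem_of_not_dvd_index hr (six_index hK hm hp hd hx hr hrA) (k := 1) (by rwa [pow_one]))
    (fun a ha h1 _ => (six_centralizer hK hm hp hd hx ha h1).le) hy

end CfsgLib.Lie.Ree
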