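/-
The census of element orders of a small Ree group.
-/
import Cfsg.Agent.Lib.Lie.Twisted.Ree.SixCentralizer
import Cfsg.Agent.Lib.Lie.Twisted.Ree.Borel
import Mathlib.Algebra.BigOperators.Ring.Finset

set_option autoImplicit false

namespace CfsgLib.Lie.Ree

open Cfsg.Lie CfsgLib.Lie CfsgLib.Lie.Chev CfsgLib.Lie.Chev.TwGroups

/-- counting elements with a property of their order through a covering subgroup -/
theorem Count.card_of_cover {G : Type*} [Group G] (T N : Subgroup G) (P : ℕ → Prop)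
    (hcover : ∀ g : G, P (orderOf g) → ∃ h : G, h⁻¹ * g * h ∈ T)
    (huniq : ∀ g : G, ∀ t ∈ T, P (orderOf t) → g * t * g⁻¹ ∈ T → g ∈ N)
    (hinv : ∀ n ∈ N, ∀ t ∈ T, P (orderOf t) → n * t * n⁻¹ ∈ T) :
    Nat.card {g : G // P (orderOf g)} * Nat.card N =
      Nat.card G * Nat.card ({t : G | t ∈ T ∧ P (orderOf t)} : Set G) := by
  have ho : ∀ g x : G, orderOf (g * x * g⁻¹) = orderOf x := fun g x => by
    rw [← MulAut.conj_apply, MulEquiv.orderOf_eq]
  rw [← Count.card_conj_union N {t : G | t ∈ T ∧ P (orderOf t)} (fun g t ht h => huniq g t ht.1 ht.2 h.1)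
    (fun n hn t ht => ⟨hinv n hn t ht.1 ht.2, by rw [ho]; exact ht.2⟩)]
  congr 1
  refine Nat.card_congr (Equiv.subtypeEquivRight fun g => ⟨fun h => ?_, ?_⟩)
  · obtain ⟨x, hx⟩ := hcover g h
    have ho' : orderOf (x⁻¹ * g * x) = orderOf g := by simpa using ho x⁻¹ g
    exact ⟨x, hx, by rwa [ho']⟩
  · rintro ⟨x, -, hx⟩
    have ho' : orderOf (x⁻¹ * g * x) = orderOf g := by simpa using ho x⁻¹ g
    rwa [ho'] at hx

/-- having a prime in common with a number -/
def Shares (n o : ℕ) : Prop := ∃ r : ℕ, r.Prime ∧ r ∣ n ∧ r ∣ o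

theorem Shares.of_dvd {n o : ℕ} (h : o ∣ n) (ho : o ≠ 1) : Shares n o := by
  obtain ⟨r, hr, hd⟩ := Nat.exists_prime_and_dvd ho
  exact ⟨r, hr, hd.trans h, hd⟩

theorem not_shares_two {n : ℕ} (hn : n % 2 = 1) {o : ℕ} (h : o ∣ 2) : ¬ Shares n o := by
  rintro ⟨r, hr, hrn, hro⟩
  have := (Nat.prime_dvd_prime_iff_eq hr Nat.prime_two).1 (hro.trans h)
  subst this
  omega

variable {K : Type*} [Field K] [Fintype K] {m : ℕ} (hK : Fintype.card K = 3 ^ (2 * m + 1))
include hK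

theorem exists_conj_BR (hm : 1 ≤ m) {g : RG K m} (hg : 3 ∣ orderOf g) :
    ∃ h : RG K m, h⁻¹ * g * h ∈ BR K m := by
  have : Fact (Nat.Prime 3) := ⟨Nat.prime_three⟩
  obtain ⟨P, hP⟩ := exists_sylow_three hK hm
  refine conj_mem_of_prime_dvd (A := UR K m) Nat.prime_three (fun x hx => ?_)
    (fun a ha h1 _ => centralizer_UR_le hK ha h1) hg
  exact exists_conj_mem_of_not_dvd_index (k := 1) Nat.prime_three (by rw [UR, ← hP]; exact P.not_dvd_index)
    (by rwa [pow_one])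

theorem orderOf_three_cases (hm : 1 ≤ m) {g : RG K m} (hg : 3 ∣ orderOf g) :
    orderOf g = 3 ∨ orderOf g = 6 ∨ orderOf g = 9 := by
  obtain ⟨h, hh⟩ := exists_conj_BR hK hm hg
  have ho : orderOf (h⁻¹ * g * h) = orderOf g := by
    simpa using (MulEquiv.orderOf_eq (MulAut.conj h⁻¹) g)
  rw [← ho] at hg ⊢
  exact orderOf_of_three_dvd hK hh hg

theorem card_order_BR (hm : 1 ≤ m) {i : ℕ} (hi : 3 ∣ i) :
    Nat.card {g : RG K m // orderOf g = i} =
      ((3 ^ (2 * m + 1)) ^ 3 + 1) * Nat.card ({b : RG K m | b ∈ BR K m ∧ orderOf b = i} : Set (RG K m)) := by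
  have h := Count.card_of_cover (BR K m) (BR K m) (· = i) (fun g hg => exists_conj_BR hK hm (hg ▸ hi))
    (fun g t ht hti h => mem_BR_of_conj hK ht (hti ▸ hi) h) (fun n hn t ht _ => mul_mem (mul_mem hn ht) (inv_mem hn))
  rw [card_RG hK, card_BR hK] at h
  have hpos : 0 < (3 ^ (2 * m + 1)) ^ 3 * (3 ^ (2 * m + 1) - 1) := by rw [← card_BR hK]; exact Nat.card_pos
  exact Nat.eq_of_mul_eq_mul_right hpos (by rw [h]; ring)

theorem card_order_two (hm : 1 ≤ m) :
    Nat.card {g : RG K m // orderOf g = 2} = (3 ^ (2 * m + 1)) ^ 2 * nSix m := by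
  have : Fact (Nat.Prime 2) := ⟨Nat.prime_two⟩
  have ho : orderOf (jEl hK) = 2 := orderOf_eq_prime (by rw [sq]; exact jEl_mul_self hK) (jEl_ne_one hK)
  have h := Count.card_conj_union (Subgroup.centralizer {jEl hK}) ({jEl hK} : Set (RG K m))
    (fun g s hs h => by
      rw [Set.mem_singleton_iff] at hs h
      subst hs
      exact Subgroup.mem_centralizer_singleton_iff.2 (mul_inv_eq_iff_eq_mul.1 h))
    (fun n hn s hs => by
      rw [Set.mem_singleton_iff] at hs ⊢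
      subst hs
      rw [Subgroup.mem_centralizer_singleton_iff.1 hn, mul_inv_cancel_right])
  rw [card_centralizer_jEl hK, card_RG' hK, Nat.card_eq_fintype_card (α := ↥({jEl hK} : Set (RG K m))),
    Set.card_singleton] at h
  have e : Nat.card {g : RG K m // orderOf g = 2} =
      Nat.card {y : RG K m // ∃ g : RG K m, g⁻¹ * y * g ∈ ({jEl hK} : Set (RG K m))} := by
    refine Nat.card_congr (Equiv.subtypeEquivRight fun y => ⟨fun hy => ?_, ?_⟩)
    · obtain ⟨g, hg⟩ := involution_conj hK hm (z := y) (by rw [← sq, ← hy]; exact pow_orderOf_eq_one y)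
        (fun e => by rw [e, orderOf_one] at hy; norm_num at hy)
      exact ⟨g, by rw [Set.mem_singleton_iff, ← hg]; group⟩
    · rintro ⟨g, hg⟩
      rw [Set.mem_singleton_iff] at hg
      rw [← ho, ← hg]
      simpa using (MulEquiv.orderOf_eq (MulAut.conj g⁻¹) y).symm
  have hpos : 0 < 3 ^ (2 * m + 1) * (3 ^ (2 * m + 1) - 1) * (3 ^ (2 * m + 1) + 1) := by
    rw [← card_centralizer_jEl hK]; exact Nat.card_pos
  exact Nat.eq_of_mul_eq_mul_right hpos (by rw [e, h]; ring)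

theorem card_cover_HR (hm : 1 ≤ m) (P : ℕ → Prop) (hP : ∀ o, o ∣ 3 ^ (2 * m + 1) - 1 → P o → ¬ o ∣ 2)
    (hP' : ∀ o, P o → Shares (nH m) o) :
    Nat.card {g : RG K m // P (orderOf g)} * (2 * (3 ^ (2 * m + 1) - 1)) =
      Nat.card (RG K m) * Nat.card ({t : RG K m | t ∈ HR K m ∧ P (orderOf t)} : Set (RG K m)) := by
  rw [← card_normalizer_HR hK hm]
  refine Count.card_of_cover _ _ P (fun g hg => ?_) (fun g t ht hPt h => ?_)
    (fun n hn t ht _ => (Subgroup.mem_normalizer_iff.1 hn t).1 ht)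
  · obtain ⟨r, hr, hrn, hro⟩ := hP' _ hg
    exact exists_conj_HR hK hm hr hrn hro
  · obtain ⟨c, rfl⟩ := (mem_HR_iff hK _).1 ht
    have hdv : orderOf (hEl hK c) ∣ 3 ^ (2 * m + 1) - 1 := by
      rw [← card_HR hK, ← Subgroup.orderOf_mk _ ht]; exact orderOf_dvd_natCard _
    refine (mem_normalizer_HR_iff hK hm g).2 (conj_mem_HR_cases hK (fun hc => hP _ hdv hPt ?_) h)
    refine orderOf_dvd_of_pow_eq_one ?_
    rw [← map_pow, show c ^ 2 = 1 from Units.ext (by rw [Units.val_pow_eq_pow_val, hc, Units.val_one]), map_one]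

theorem card_cover_TD (hm : 1 ≤ m) (P : ℕ → Prop) (hP : ∀ o, P o → Shares (nQ m) o) :
    Nat.card {g : RG K m // P (orderOf g)} * (6 * (3 ^ (2 * m + 1) + 1)) =
      Nat.card (RG K m) * Nat.card ({t : RG K m | t ∈ TD hK ∧ P (orderOf t)} : Set (RG K m)) := by
  rw [← card_normalizer_A1 hK hm]
  refine Count.card_of_cover _ _ P (fun g hg => ?_) (fun g t ht hPt h => ?_)
    (fun n hn t ht _ => normalizer_A1_conj hK hm hn ht)
  · obtain ⟨r, hr, hrn, hro⟩ := hP _ hg
    exact exists_conj_TD hK hm hr hrn hro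
  · refine normalizes_TD_of_conj hK hm (sq_mem_A1 hK ht) (fun e => ?_) (sq_mem_A1 hK h)
      (show g * (t * t) * g⁻¹ = g * t * g⁻¹ * (g * t * g⁻¹) by group)
    exact not_shares_two (nQ_spec m).2 (orderOf_dvd_of_pow_eq_one (by rwa [sq])) (hP _ hPt)

theorem card_HR_shares :
    Nat.card ({t : RG K m | t ∈ HR K m ∧ Shares (nH m) (orderOf t)} : Set (RG K m)) = 3 ^ (2 * m + 1) - 3 := by
  have e : ({t : RG K m | t ∈ HR K m ∧ Shares (nH m) (orderOf t)} : Set (RG K m)) =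
      (HR K m : Set (RG K m)) \ {1, jEl hK} := by
    ext t
    simp only [Set.mem_setOf_eq, Set.mem_sdiff, SetLike.mem_coe, Set.mem_insert_iff, Set.mem_singleton_iff, not_or]
    constructor
    · rintro ⟨ht, hs⟩
      refine ⟨ht, fun e => ?_, fun e => ?_⟩
      · exact not_shares_two (nH_spec m).2 (by rw [e, orderOf_one]; exact one_dvd _) hs
      · exact not_shares_two (nH_spec m).2
          (by rw [e]; exact orderOf_dvd_of_pow_eq_one (by rw [sq, jEl_mul_self hK])) hs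
    · rintro ⟨ht, h1, hj⟩
      refine ⟨ht, ?_⟩
      have h2 : t * t ≠ 1 := fun e => hj (eq_jEl hK ht h1 e)
      have hd : orderOf t ∣ 2 * nH m := by
        rw [(nH_spec m).1, ← card_HR hK, ← Subgroup.orderOf_mk _ ht]; exact orderOf_dvd_natCard _
      by_contra hns
      refine h2 ?_
      rw [← sq, ← orderOf_dvd_iff_pow_eq_one]
      exact (Nat.Coprime.dvd_mul_right (Nat.coprime_of_dvd fun r hr h h' => hns ⟨r, hr, h', h⟩)).1 hd
  rw [e, Nat.card_coe_set_eq, Set.ncard_sdiff (Set.insert_subset (one_mem _)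
    (Set.singleton_subset_iff.2 (show jEl hK ∈ HR K m from hEl_mem hK _))) (Set.toFinite _), Set.ncard_pair (jEl_ne_one hK).symm,
    ← Nat.card_coe_set_eq]
  show Nat.card ↥(HR K m) - 2 = _
  rw [card_HR hK]
  omega

theorem card_TD_shares :
    Nat.card ({t : RG K m | t ∈ TD hK ∧ Shares (nQ m) (orderOf t)} : Set (RG K m)) = 3 ^ (2 * m + 1) - 3 := by
  have e : ({t : RG K m | t ∈ TD hK ∧ Shares (nQ m) (orderOf t)} : Set (RG K m)) =
      (TD hK : Set (RG K m)) \ (TE hK : Set (RG K m)) := by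
    ext t
    constructor
    · rintro ⟨ht, hs⟩
      exact ⟨ht, fun e => not_shares_two (nQ_spec m).2 (orderOf_dvd_of_pow_eq_one (by rw [sq]; exact e.2)) hs⟩
    · rintro ⟨ht, h⟩
      refine ⟨ht, ?_⟩
      by_contra hns
      refine h ⟨ht, ?_⟩
      rw [← sq, ← orderOf_dvd_iff_pow_eq_one]
      exact (Nat.Coprime.dvd_mul_right (Nat.coprime_of_dvd fun r hr h h' => hns ⟨r, hr, h', h⟩)).1
        (orderOf_dvd_of_pow_eq_one (TD_pow hK ht))
  rw [e, Nat.card_coe_set_eq, Set.ncard_sdiff (fun t ht => ht.1) (Set.toFinite _), ← Nat.card_coe_set_eq,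
    ← Nat.card_coe_set_eq]
  show Nat.card ↥(TD hK) - Nat.card ↥(TE hK) = _
  rw [card_TD hK, card_TE hK]
  omega

theorem orderOf_dvd_HR (hm : 1 ≤ m) {g : RG K m} (h : Shares (nH m) (orderOf g)) :
    orderOf g ∣ 3 ^ (2 * m + 1) - 1 := by
  obtain ⟨r, hr, hrn, hro⟩ := h
  obtain ⟨x, hx⟩ := exists_conj_HR hK hm hr hrn hro
  have ho : orderOf (x⁻¹ * g * x) = orderOf g := by simpa using (MulEquiv.orderOf_eq (MulAut.conj x⁻¹) g)
  rw [← ho, ← card_HR hK, ← Subgroup.orderOf_mk _ hx]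
  exact orderOf_dvd_natCard _

theorem orderOf_dvd_TD (hm : 1 ≤ m) {g : RG K m} (h : Shares (nQ m) (orderOf g)) :
    orderOf g ∣ 2 * nQ m := by
  obtain ⟨r, hr, hrn, hro⟩ := h
  obtain ⟨x, hx⟩ := exists_conj_TD hK hm hr hrn hro
  have ho : orderOf (x⁻¹ * g * x) = orderOf g := by simpa using (MulEquiv.orderOf_eq (MulAut.conj x⁻¹) g)
  rw [← ho]
  exact orderOf_dvd_of_pow_eq_one (TD_pow hK hx)

theorem orderOf_dvd_six (hm : 1 ≤ m) {g : RG K m} (h : Shares (nSix m) (orderOf g)) :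
    orderOf g ∣ nSix m := by
  obtain ⟨r, hr, hrn, hro⟩ := h
  obtain ⟨c, hc⟩ := exists_pow_prime_order g hro
  exact six_orderOf hK hm hr hrn hc
    (Subgroup.mem_centralizer_singleton_iff.2 ((Commute.refl g).pow_right c).eq)

theorem six_excludes (hm : 1 ≤ m) {g : RG K m} (h : Shares (nSix m) (orderOf g)) :
    orderOf g ≠ 1 ∧ orderOf g ≠ 2 ∧ ¬ 3 ∣ orderOf g ∧ ¬ Shares (nH m) (orderOf g) ∧ ¬ Shares (nQ m) (orderOf g) := by
  have hd := orderOf_dvd_six hK hm h
  refine ⟨?_, ?_, fun h3 => ?_, ?_, ?_⟩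
  · obtain ⟨r, hr, -, hro⟩ := h
    exact fun e => hr.one_lt.ne' (Nat.dvd_one.1 (e ▸ hro))
  · exact fun e => (six_prime Nat.prime_two (by rwa [e] at hd)).1 rfl
  · exact (six_prime Nat.prime_three (h3.trans hd)).2.1 rfl
  · rintro ⟨r, hr, hrn, hro⟩
    exact (six_prime hr (hro.trans hd)).2.2.2.2.2.1 (half_prime hr hrn).2.2
  · rintro ⟨r, hr, hrn, hro⟩
    exact (quarter_prime hr hrn).2.2.2.2.1 (hro.trans hd)

theorem quarter_excludes (hm : 1 ≤ m) {g : RG K m} (h : Shares (nQ m) (orderOf g)) :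
    orderOf g ≠ 1 ∧ orderOf g ≠ 2 ∧ ¬ 3 ∣ orderOf g ∧ ¬ Shares (nH m) (orderOf g) := by
  have hd := orderOf_dvd_TD hK hm h
  have hns := fun h' : orderOf g ∣ 2 => not_shares_two (nQ_spec m).2 h' h
  refine ⟨fun e => hns (e ▸ one_dvd 2), fun e => hns (e ▸ dvd_rfl), fun h3 => ?_, ?_⟩
  · rcases Nat.prime_three.dvd_mul.1 (h3.trans hd) with h' | h'
    · norm_num at h'
    · exact (quarter_prime Nat.prime_three h').2.1 rfl
  · rintro ⟨r, hr, hrn, hro⟩
    obtain ⟨h2, -, hq⟩ := half_prime hr hrn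
    rcases hr.dvd_mul.1 (hro.trans hd) with h' | h'
    · exact h2 ((Nat.prime_dvd_prime_iff_eq hr Nat.prime_two).1 h')
    · exact (quarter_prime hr h').2.2.2.1 hq

theorem half_excludes (hm : 1 ≤ m) {g : RG K m} (h : Shares (nH m) (orderOf g)) :
    orderOf g ≠ 1 ∧ orderOf g ≠ 2 ∧ ¬ 3 ∣ orderOf g :=
  have hns := fun h' : orderOf g ∣ 2 => not_shares_two (nH_spec m).2 h' h
  ⟨fun e => hns (e ▸ one_dvd 2), fun e => hns (e ▸ dvd_rfl),
    fun h3 => three_not_dvd m (h3.trans (orderOf_dvd_HR hK hm h))⟩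

theorem order_cases (hm : 1 ≤ m) (g : RG K m) : orderOf g = 1 ∨ orderOf g = 2 ∨ 3 ∣ orderOf g ∨
    Shares (nH m) (orderOf g) ∨ Shares (nQ m) (orderOf g) ∨ Shares (nSix m) (orderOf g) := by
  by_cases hodd : ∃ r : ℕ, r.Prime ∧ r ≠ 2 ∧ r ∣ orderOf g
  · obtain ⟨r, hr, hr2, hrd⟩ := hodd
    have h := hrd.trans (orderOf_dvd_natCard g)
    rw [card_RG' hK, ← (nQ_spec m).1, ← (nH_spec m).1] at h
    rcases hr.dvd_mul.1 h with h | h
    · rcases hr.dvd_mul.1 h with h | h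
      · have := (Nat.prime_dvd_prime_iff_eq hr Nat.prime_three).1 (hr.dvd_of_dvd_pow (hr.dvd_of_dvd_pow h))
        exact Or.inr (Or.inr (Or.inl (this ▸ hrd)))
      · refine Or.inr (Or.inr (Or.inr (Or.inl ⟨r, hr, (hr.dvd_mul.1 h).resolve_left fun e => ?_, hrd⟩)))
        exact hr2 ((Nat.prime_dvd_prime_iff_eq hr Nat.prime_two).1 e)
    · rcases hr.dvd_mul.1 h with h | h
      · refine Or.inr (Or.inr (Or.inr (Or.inr (Or.inl ⟨r, hr, (hr.dvd_mul.1 h).resolve_left fun e => ?_, hrd⟩))))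
        exact hr2 ((Nat.prime_dvd_prime_iff_eq hr Nat.prime_two).1 (hr.dvd_of_dvd_pow (show r ∣ 2 ^ 2 from e)))
      · exact Or.inr (Or.inr (Or.inr (Or.inr (Or.inr ⟨r, hr, h, hrd⟩))))
  · push_neg at hodd
    have : Fact (Nat.Prime 2) := ⟨Nat.prime_two⟩
    obtain ⟨k, hk⟩ : ∃ k, orderOf g = 2 ^ k := ⟨(orderOf g).primeFactorsList.length,
      Nat.eq_prime_pow_of_unique_prime_dvd (orderOf_pos g).ne' fun {r} hr hrd => by
        by_contra hne; exact hodd r hr hne hrd⟩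
    have hp : IsPGroup 2 ↥(Subgroup.zpowers g) := IsPGroup.of_card (n := k) (by rw [Nat.card_zpowers, hk])
    obtain ⟨S, hS⟩ := hp.exists_le_sylow
    have h2 := orderOf_dvd_of_pow_eq_one (show g ^ 2 = 1 by
      rw [sq]; exact (sylow_two_elem hK S).2 g (hS (Subgroup.mem_zpowers g)))
    rcases (Nat.dvd_prime Nat.prime_two).1 h2 with e | e
    · exact Or.inl e
    · exact Or.inr (Or.inl e)

/-- the number of elements meeting the norm -/
theorem card_six (hm : 1 ≤ m) :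
    3 * (nSix m : ℤ) * Nat.card {g : RG K m // Shares (nSix m) (orderOf g)} =
      (Nat.card (RG K m) : ℤ) * ((3 ^ (2 * m + 1) : ℤ) ^ 2 - 2 * 3 ^ (2 * m + 1)) := by
  classical
  have : Fintype (RG K m) := Fintype.ofFinite _
  have hpt : ∀ g : RG K m, (1 : ℕ) = (if orderOf g = 1 then 1 else 0) + (if orderOf g = 2 then 1 else 0) +
      (if orderOf g = 3 then 1 else 0) + (if orderOf g = 6 then 1 else 0) + (if orderOf g = 9 then 1 else 0) +
      (if Shares (nH m) (orderOf g) then 1 else 0) + (if Shares (nQ m) (orderOf g) then 1 else 0) +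
      (if Shares (nSix m) (orderOf g) then 1 else 0) := by
    intro g
    by_cases h6 : Shares (nSix m) (orderOf g)
    · obtain ⟨a, b, c, d, e⟩ := six_excludes hK hm h6
      have c3 : orderOf g ≠ 3 := fun x => c (by simp [x])
      have c6 : orderOf g ≠ 6 := fun x => c (by norm_num [x])
      have c9 : orderOf g ≠ 9 := fun x => c (by norm_num [x])
      simp [h6, a, b, c3, c6, c9, d, e]
    by_cases hQ : Shares (nQ m) (orderOf g)
    · obtain ⟨a, b, c, d⟩ := quarter_excludes hK hm hQ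
      have c3 : orderOf g ≠ 3 := fun x => c (by simp [x])
      have c6 : orderOf g ≠ 6 := fun x => c (by norm_num [x])
      have c9 : orderOf g ≠ 9 := fun x => c (by norm_num [x])
      simp [h6, a, b, c3, c6, c9, d, hQ]
    by_cases hH : Shares (nH m) (orderOf g)
    · obtain ⟨a, b, c⟩ := half_excludes hK hm hH
      have c3 : orderOf g ≠ 3 := fun x => c (by simp [x])
      have c6 : orderOf g ≠ 6 := fun x => c (by norm_num [x])
      have c9 : orderOf g ≠ 9 := fun x => c (by norm_num [x])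
      simp [h6, a, b, c3, c6, c9, hH, hQ]
    have hcase : orderOf g = 1 ∨ orderOf g = 2 ∨ orderOf g = 3 ∨ orderOf g = 6 ∨ orderOf g = 9 := by
      rcases order_cases hK hm g with h | h | h | h | h | h
      · exact Or.inl h
      · exact Or.inr (Or.inl h)
      · exact Or.inr (Or.inr (orderOf_three_cases hK hm h))
      · exact absurd h hH
      · exact absurd h hQ
      · exact absurd h h6
    simp only [if_neg h6, if_neg hQ, if_neg hH]
    rcases hcase with e | e | e | e | e <;> simp [e]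
  have hsum := Finset.sum_congr (rfl : (Finset.univ : Finset (RG K m)) = Finset.univ) (fun g _ => hpt g)
  simp only [Finset.sum_add_distrib, Finset.sum_boole, Finset.sum_const, Finset.card_univ, smul_eq_mul, mul_one,
    ← Fintype.card_subtype, ← Nat.card_eq_fintype_card, Nat.cast_id] at hsum
  have h1 : Nat.card {g : RG K m // orderOf g = 1} = 1 := by
    rw [Nat.card_eq_one_iff_unique]
    exact ⟨⟨fun a b => Subtype.ext ((orderOf_eq_one_iff.1 a.2).trans (orderOf_eq_one_iff.1 b.2).symm)⟩, ⟨⟨1, orderOf_one⟩⟩⟩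
  rw [h1, card_order_two hK hm, card_order_BR hK hm (i := 3) dvd_rfl, card_order_BR hK hm (i := 6) (by norm_num),
    card_order_BR hK hm (i := 9) (by norm_num), card_BR_three hK, card_BR_six hK, card_BR_nine hK] at hsum
  have hH := card_cover_HR hK hm (Shares (nH m)) (fun o _ h h' => not_shares_two (nH_spec m).2 h' h) (fun _ h => h)
  have hQ := card_cover_TD hK hm (Shares (nQ m)) (fun _ h => h)
  rw [card_HR_shares hK] at hH
  rw [card_TD_shares hK] at hQ
  have hG := card_RG hK (m := m)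
  obtain ⟨q, hq⟩ : ∃ q, q = 3 ^ (2 * m + 1) := ⟨_, rfl⟩
  have hq3 : 3 ≤ q := hq ▸ Nat.le_self_pow (by omega) 3
  have hN : (nSix m : ℤ) = (q : ℤ) ^ 2 - q + 1 := by
    rw [nSix, ← hq, Nat.cast_add, Nat.cast_mul, Nat.cast_sub (by omega : 1 ≤ q)]; push_cast; ring
  have hqz : (3 : ℤ) ^ (2 * m + 1) = (q : ℤ) := by rw [hq]; push_cast; rfl
  rw [← hq] at hsum hH hQ hG
  zify [show 1 ≤ q by omega, hq3, show 1 ≤ q ^ 2 from Nat.one_le_pow _ _ (by omega)] at hsum hH hQ hG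
  rw [hN] at hsum
  rw [hqz, hN]
  have hne : (2 : ℤ) * (((q : ℤ)) ^ 2 - 1) ≠ 0 := by nlinarith [(by exact_mod_cast hq3 : (3 : ℤ) ≤ q)]
  refine mul_left_cancel₀ hne ?_
  linear_combination (-(6 : ℤ) * ((q : ℤ) ^ 2 - 1) * ((q : ℤ) ^ 2 - q + 1)) * hsum -
    (3 * ((q : ℤ) + 1) * ((q : ℤ) ^ 2 - q + 1)) * hH - (((q : ℤ) - 1) * ((q : ℤ) ^ 2 - q + 1)) * hQ +
    (6 * (q : ℤ) - 6 * (q : ℤ) ^ 2 + 12 * (q : ℤ) ^ 3) * hG

end CfsgLib.Lie.Ree
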