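/-
Two generators of a small Ree group.
-/
import Cfsg.Agent.Lib.Lie.Twisted.Ree.Borel
import Cfsg.Agent.Lib.Lie.Twisted.Ree.Half

set_option autoImplicit false

namespace CfsgLib.Lie.Ree

open Cfsg.Lie CfsgLib.Lie CfsgLib.Lie.Chev CfsgLib.Lie.Chev.TwGroups

/-- an additive set stable under a multiplier is everything if the multiplier's powers exhaust the units up to sign -/
theorem addSubgroup_full {K : Type*} [Field K] (S : AddSubgroup K) (μ : K) (hμ : ∀ x ∈ S, μ * x ∈ S)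
    (hgen : ∀ y : K, y ≠ 0 → ∃ i : ℕ, y = μ ^ i ∨ y = -μ ^ i) {s : K} (hs : s ∈ S) (hs0 : s ≠ 0) (x : K) :
    x ∈ S := by
  have hpow : ∀ i : ℕ, μ ^ i * s ∈ S := fun i => by
    induction i with
    | zero => simpa using hs
    | succ i ih => rw [pow_succ', mul_assoc]; exact hμ _ ih
  rcases eq_or_ne x 0 with rfl | hx
  · exact zero_mem S
  obtain ⟨i, h | h⟩ := hgen (x / s) (div_ne_zero hx hs0)
  · rw [(div_eq_iff hs0).1 h]; exact hpow i
  · rw [(div_eq_iff hs0).1 h, neg_mul]; exact neg_mem (hpow i)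

variable {K : Type*} [Field K] [Fintype K] {m : ℕ} (hK : Fintype.card K = 3 ^ (2 * m + 1))
include hK

theorem exp_card (c : Kˣ) : c ^ (3 ^ (2 * m + 1)) = c :=
  Units.ext (by rw [Units.val_pow_eq_pow_val, ← hK, FiniteField.pow_card])

/-- the multiplier of the first layer generates -/
theorem weight_t (c : Kˣ) :
    (c ^ 2 * ((c ^ 3 ^ m) ^ 3)⁻¹) ^ (3 * 3 ^ m + 2) = c := by
  obtain ⟨s, hs⟩ : ∃ s, s = 3 * 3 ^ m := ⟨_, rfl⟩
  have hss : s * s = 3 * 3 ^ (2 * m + 1) := by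
    rw [hs, mul_mul_mul_comm, ← pow_add, pow_succ, two_mul]; ring
  rw [← pow_mul, mul_comm (3 ^ m), ← hs, mul_pow, inv_pow, ← pow_mul, ← pow_mul, mul_inv_eq_iff_eq_mul,
    show s * (s + 2) = 3 * 3 ^ (2 * m + 1) + 2 * s by rw [← hss]; ring, pow_add c, mul_comm 3 (3 ^ (2 * m + 1)),
    pow_mul c (3 ^ (2 * m + 1)) 3, exp_card hK, ← mul_assoc, ← pow_succ', ← pow_add]
  congr 1; ring

/-- the multiplier of the second layer gives all squares -/
theorem weight_u (c : Kˣ) :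
    ((c ^ 3 ^ m) ^ 3 * c⁻¹) ^ (3 * 3 ^ m + 1) = c ^ 2 := by
  obtain ⟨s, hs⟩ : ∃ s, s = 3 * 3 ^ m := ⟨_, rfl⟩
  have hss : s * s = 3 * 3 ^ (2 * m + 1) := by
    rw [hs, mul_mul_mul_comm, ← pow_add, pow_succ, two_mul]; ring
  rw [← pow_mul, mul_comm (3 ^ m), ← hs, mul_pow, inv_pow, ← pow_mul, mul_inv_eq_iff_eq_mul,
    show s * (s + 1) = 3 * 3 ^ (2 * m + 1) + s by rw [← hss]; ring, pow_add c, mul_comm 3 (3 ^ (2 * m + 1)),
    pow_mul c (3 ^ (2 * m + 1)) 3, exp_card hK, ← pow_add, ← pow_add]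
  congr 1; ring

theorem two_generated (hm : 1 ≤ m) : ∃ a b : RG K m, Subgroup.closure ({a, b} : Set (RG K m)) = ⊤ := by
  obtain ⟨c, hc⟩ := IsCyclic.exists_generator (α := Kˣ)
  obtain ⟨g, hg⟩ : ∃ g, g = uEl m (1 : K) 0 0 * nEl hK := ⟨_, rfl⟩
  refine ⟨hEl hK c, g, ?_⟩
  obtain ⟨H, hH⟩ : ∃ H, H = Subgroup.closure ({hEl hK c, g} : Set (RG K m)) := ⟨_, rfl⟩
  rw [← hH]
  have hh : hEl hK c ∈ H := hH ▸ Subgroup.subset_closure (Set.mem_insert _ _)
  have hgH : g ∈ H := hH ▸ Subgroup.subset_closure (Set.mem_insert_of_mem _ rfl)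
  have hpowc : ∀ y : K, y ≠ 0 → ∃ i : ℕ, y = (c : K) ^ i := fun y hy => by
    obtain ⟨i, hi⟩ := mem_powers_iff_mem_zpowers.2 (hc (Units.mk0 y hy))
    exact ⟨i, by rw [← Units.val_pow_eq_pow_val]; exact (congrArg Units.val hi).symm⟩
  have hexp : ∀ {t u v : K}, uEl m t u v ∈ H →
      uEl m ((c : K) ^ 2 * (((c : K) ^ 3 ^ m) ^ 3)⁻¹ * t) (((c : K) ^ 3 ^ m) ^ 3 * (c : K)⁻¹ * u) ((c : K) * v) ∈ H :=
    fun {t u v} h => hEl_conj_uEl hK c t u v ▸ mul_mem (mul_mem hh h) (inv_mem hh)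
  have h3 : (3 : K) = 0 := three_eq_zero_G2 hK
  -- a seed in the first layer
  obtain ⟨a0, b0, d0, ha0, hseed⟩ : ∃ a b d : K, a ≠ 0 ∧ uEl m a b d ∈ H := by
    obtain ⟨a, b, d, hinv⟩ := (mem_UR_iff hK _).1 (inv_mem (uEl_mem hK (1 : K) 0 0))
    have hm' : g * hEl hK c * g⁻¹ * hEl hK c ∈ H := mul_mem (mul_mem (mul_mem hgH hh) (inv_mem hgH)) hh
    have he : g * hEl hK c * g⁻¹ * hEl hK c =
        uEl m 1 0 0 * (hEl hK c⁻¹ * uEl m a b d * (hEl hK c⁻¹)⁻¹) := by
      rw [← hinv, map_inv, inv_inv, hg, mul_inv_rev]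
      calc uEl m 1 0 0 * nEl hK * hEl hK c * ((nEl hK)⁻¹ * (uEl m 1 0 0)⁻¹) * hEl hK c
          = uEl m 1 0 0 * (nEl hK * hEl hK c * (nEl hK)⁻¹) * (uEl m 1 0 0)⁻¹ * hEl hK c := by group
        _ = _ := by rw [exists_inverter hK hm c, map_inv]; group
    have ha : a = -1 := by
      have e := mul_inv_cancel (uEl m (1 : K) 0 0)
      rw [hinv, uEl_mul hK, uEl_eq_one_iff hK] at e
      exact eq_neg_of_add_eq_zero_right e.1
    rw [he, hEl_conj_uEl hK, uEl_mul hK] at hm'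
    refine ⟨_, _, _, ?_, hm'⟩
    rw [ha]
    intro e
    have e' : ((c⁻¹ ^ 2 * ((c⁻¹ ^ 3 ^ m) ^ 3)⁻¹ : Kˣ) : K) = 1 := by
      push_cast at e ⊢
      linear_combination -e
    have e'' := weight_t hK c⁻¹
    rw [Units.val_eq_one.1 e', one_pow] at e''
    have hc1 : c = 1 := inv_eq_one.1 e''.symm
    obtain ⟨z, hz⟩ := exists_sq_ne_one hK hm
    have hz' := hc z
    rw [hc1, Subgroup.zpowers_one_eq_bot, Subgroup.mem_bot] at hz'
    exact hz (by simp [hz'])
  -- the first layer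
  have hlayerT : ∀ t : K, ∃ u v, uEl m t u v ∈ H := by
    let S : AddSubgroup K :=
      { carrier := {t | ∃ u v, uEl m t u v ∈ H}
        add_mem' := by rintro a b ⟨u, v, h⟩ ⟨u', v', h'⟩; exact ⟨_, _, uEl_mul hK a u v b u' v' ▸ mul_mem h h'⟩
        zero_mem' := ⟨0, 0, (uEl_zero hK).symm ▸ one_mem H⟩
        neg_mem' := by
          rintro a ⟨u, v, h⟩
          rw [show -a = a + a by linear_combination -a * h3]
          exact ⟨_, _, uEl_mul hK a u v a u v ▸ mul_mem h h⟩ }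
    refine addSubgroup_full S ((c : K) ^ 2 * (((c : K) ^ 3 ^ m) ^ 3)⁻¹) (fun x ⟨u, v, h⟩ => ⟨_, _, hexp h⟩)
      (fun y hy => ?_) (show a0 ∈ S from ⟨b0, d0, hseed⟩) ha0
    obtain ⟨i, hi⟩ := hpowc y hy
    have e := congrArg Units.val (weight_t hK c)
    push_cast at e
    exact ⟨(3 * 3 ^ m + 2) * i, Or.inl (by rw [pow_mul, e, hi])⟩
  -- the third layer
  have hlayerV : ∀ v : K, uEl m 0 0 v ∈ H := by
    obtain ⟨u, v, h⟩ := hlayerT 1
    have h' := pow_mem h 3
    rw [uEl_cube hK] at h'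
    simp only [one_pow, mul_one] at h'
    let S : AddSubgroup K :=
      { carrier := {v | uEl m 0 0 v ∈ H}
        add_mem' := by
          intro a b ha hb
          have := mul_mem (show uEl m (0 : K) 0 a ∈ H from ha) (show uEl m (0 : K) 0 b ∈ H from hb)
          rw [uEl_mul hK] at this
          simpa using this
        zero_mem' := by show uEl m (0 : K) 0 0 ∈ H; rw [uEl_zero hK]; exact one_mem H
        neg_mem' := by
          intro a ha
          have := mul_mem (show uEl m (0 : K) 0 a ∈ H from ha) (show uEl m (0 : K) 0 a ∈ H from ha)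
          rw [uEl_mul hK] at this
          show uEl m (0 : K) 0 (-a) ∈ H
          rw [show -a = a + a by linear_combination -a * h3]
          simpa using this }
    refine addSubgroup_full S (c : K) (fun x hx => ?_) (fun y hy => (hpowc y hy).imp fun i hi => Or.inl hi)
      (show (-1 : K) ∈ S from h') (neg_ne_zero.2 one_ne_zero)
    have := hexp (show uEl m (0 : K) 0 x ∈ H from hx)
    show uEl m (0 : K) 0 ((c : K) * x) ∈ H
    simpa using this
  -- the second layer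
  have hlayerU : ∀ u : K, uEl m 0 u 0 ∈ H := by
    have strip : ∀ {u v : K}, uEl m 0 u v ∈ H → uEl m 0 u 0 ∈ H := fun {u v} h => by
      have := mul_mem h (hlayerV (-v))
      rw [uEl_mul hK] at this
      simpa using this
    have seed : ∃ u : K, u ≠ 0 ∧ uEl m 0 u 0 ∈ H := by
      obtain ⟨u, v, hx⟩ := hlayerT 1
      obtain ⟨u', v', hy⟩ := hlayerT (c : K)
      have hw := mul_mem (mul_mem hx hy) (inv_mem (mul_mem hy hx))
      obtain ⟨δ, hδ⟩ : ∃ δ : K, δ = (c : K) - (((c : K) ^ 3 ^ m) ^ 3) := ⟨_, rfl⟩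
      have he : ∃ ε, uEl m 1 u v * uEl m (c : K) u' v' =
          uEl m 0 δ ε * (uEl m (c : K) u' v' * uEl m 1 u v) := by
        refine ⟨(v + v' - (c : K) * u - ((c : K) ^ 3 ^ m) ^ 3 * 1 ^ 2 + ((c : K) ^ 3 ^ m) ^ 3 * 1 * (c : K)) -
          (v' + v - 1 * u' - ((1 : K) ^ 3 ^ m) ^ 3 * (c : K) ^ 2 + ((1 : K) ^ 3 ^ m) ^ 3 * (c : K) * 1) +
          ((c : K) + 1) * δ, ?_⟩
        rw [uEl_mul hK, uEl_mul hK, uEl_mul hK, hδ]
        simp only [one_pow]
        congr 1 <;> ring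
      obtain ⟨ε, he⟩ := he
      rw [he, mul_inv_cancel_right] at hw
      refine ⟨δ, fun e => ?_, strip hw⟩
      have h1 : ((c ^ 3 ^ m) ^ 3 * c⁻¹ : Kˣ) = 1 := mul_inv_eq_one.2 (Units.ext (by
        push_cast; linear_combination -(hδ.symm.trans e)))
      have h2 := weight_u hK c
      rw [h1, one_pow] at h2
      obtain ⟨z, hz⟩ := exists_sq_ne_one hK hm
      obtain ⟨i, hi⟩ := mem_powers_iff_mem_zpowers.2 (hc z)
      apply hz
      rw [← Units.val_pow_eq_pow_val, ← hi, ← pow_mul, mul_comm, pow_mul, ← h2, one_pow, Units.val_one]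
    obtain ⟨s, hs0, hs⟩ := seed
    let S : AddSubgroup K :=
      { carrier := {u | uEl m 0 u 0 ∈ H}
        add_mem' := by
          intro a b ha hb
          have := mul_mem (show uEl m (0 : K) a 0 ∈ H from ha) (show uEl m (0 : K) b 0 ∈ H from hb)
          rw [uEl_mul hK] at this
          simpa using this
        zero_mem' := by show uEl m (0 : K) 0 0 ∈ H; rw [uEl_zero hK]; exact one_mem H
        neg_mem' := by
          intro a ha
          have := mul_mem (show uEl m (0 : K) a 0 ∈ H from ha) (show uEl m (0 : K) a 0 ∈ H from ha)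
          rw [uEl_mul hK] at this
          show uEl m (0 : K) (-a) 0 ∈ H
          rw [show -a = a + a by linear_combination -a * h3]
          simpa using this }
    refine addSubgroup_full S (((c : K) ^ 3 ^ m) ^ 3 * (c : K)⁻¹) (fun x hx => ?_) (fun y hy => ?_)
      (show s ∈ S from hs) hs0
    · have := hexp (show uEl m (0 : K) x 0 ∈ H from hx)
      show uEl m (0 : K) _ 0 ∈ H
      simpa using this
    · have e := congrArg Units.val (weight_u hK c)
      push_cast at e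
      obtain ⟨i, hi⟩ := hpowc y hy
      obtain ⟨n2, hodd⟩ := nH_spec m
      have hneg : (c : K) ^ nH m = -1 := by
        have h1 : ((c : K) ^ nH m) ^ 2 = 1 := by
          rw [← pow_mul, mul_comm, n2, ← hK]; exact FiniteField.pow_card_sub_one_eq_one _ c.ne_zero
        refine (sq_eq_one_iff.1 h1).resolve_left fun h => ?_
        have hoc : orderOf c = 3 ^ (2 * m + 1) - 1 := by
          rw [orderOf_eq_card_of_forall_mem_zpowers hc, Nat.card_units, Nat.card_eq_fintype_card, hK]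
        have := Nat.le_of_dvd (by have := nH_gt m hm; omega)
          (orderOf_dvd_of_pow_eq_one (show c ^ nH m = 1 from Units.ext (by push_cast; exact h)))
        have := nH_gt m hm
        omega
      rcases Nat.even_or_odd' i with ⟨k, rfl | rfl⟩
      · exact ⟨(3 * 3 ^ m + 1) * k, Or.inl (by rw [pow_mul, e, hi, pow_mul])⟩
      · refine ⟨(3 * 3 ^ m + 1) * ((2 * k + 1 + nH m) / 2), Or.inr ?_⟩
        rw [pow_mul, e, ← pow_mul, show 2 * ((2 * k + 1 + nH m) / 2) = (2 * k + 1) + nH m by omega, pow_add, hneg, hi]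
        ring
  have hU : ∀ t u v : K, uEl m t u v ∈ H := fun t u v => by
    obtain ⟨u', v', h⟩ := hlayerT t
    have h2 := mul_mem (mul_mem h (hlayerU (u - u'))) (hlayerV (v - v'))
    rw [uEl_mul hK, uEl_mul hK] at h2
    simpa using h2
  have hB : BR K m ≤ H := fun b hb => by
    obtain ⟨t, u, v, d, rfl⟩ := BR_form hK hb
    refine mul_mem (hU t u v) ?_
    obtain ⟨i, hi⟩ := mem_powers_iff_mem_zpowers.2 (hc d)
    rw [← hi, map_pow]
    exact pow_mem hh i
  have hn : nEl hK ∈ H := by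
    rw [show nEl hK = (uEl m (1 : K) 0 0)⁻¹ * g by rw [hg]; group]
    exact mul_mem (inv_mem (hU 1 0 0)) hgH
  rw [eq_top_iff]
  intro x _
  by_cases hx : x ∈ BR K m
  · exact hB hx
  obtain ⟨u, hu, b, hb, rfl⟩ := (split hK).cover x hx
  exact mul_mem (mul_mem (hB ((split hK).U_le hu)) hn) (hB hb)

end CfsgLib.Lie.Ree
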