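/-
The Schur multiplier of a small Ree group is trivial.
-/
import Cfsg.Agent.Lib.Lie.Twisted.Ree.Generators
import Cfsg.Agent.Lib.Lie.Twisted.Ree.SixCentralizer
import Cfsg.Agent.Lib.Known.SLn.Sections
import Cfsg.Agent.Lib.Known.SL2Multiplier

set_option autoImplicit false

namespace CfsgLib.Lie.Ree

open Cfsg.Lie CfsgLib.Lie CfsgLib.Lie.Chev CfsgLib.Lie.Chev.TwGroups CfsgLib.Known.SLn
open scoped commutatorElement

section kill

variable {K : Type*} [Field K] {X : Type*} [Group X] (f : K → K → X)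
  (hl : ∀ a b u, f (a + b) u = f a u * f b u) (hr : ∀ t a b, f t (a + b) = f t a * f t b)
include hl hr

theorem pair_zero : (∀ u, f 0 u = 1) ∧ ∀ t, f t 0 = 1 :=
  ⟨fun u => by simpa using hl 0 0 u, fun t => by simpa using hr t 0 0⟩

theorem pair_three (h3 : (3 : K) = 0) (x y : K) : f x y ^ 3 = 1 := by
  rw [pow_succ, sq, ← hr, ← hr, show y + y + y = 0 by linear_combination y * h3, (pair_zero f hl hr).2]

/-- invariance under three multipliers in linear relation kills a pairing -/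
theorem pair_kill {a₁ a₂ a₃ b₁ b₂ b₃ : K} (hb1 : b₁ ≠ 0) (hb2 : b₂ ≠ 0) (hb3 : b₃ ≠ 0)
    (h1 : ∀ x y, f (a₁ * x) (b₁ * y) = f x y) (h2 : ∀ x y, f (a₂ * x) (b₂ * y) = f x y)
    (h3 : ∀ x y, f (a₃ * x) (b₃ * y) = f x y) (ha : a₁ + a₂ + a₃ = 0) (hs : b₁⁻¹ + b₂⁻¹ + b₃⁻¹ ≠ 0) (x y : K) :
    f x y = 1 := by
  have e : ∀ {a b : K}, b ≠ 0 → (∀ x y, f (a * x) (b * y) = f x y) → ∀ v, f (a * x) v = f x (b⁻¹ * v) :=
    fun {a b} hb h v => by rw [← h x (b⁻¹ * v), mul_inv_cancel_left₀ hb]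
  have key : ∀ v, f x ((b₁⁻¹ + b₂⁻¹ + b₃⁻¹) * v) = 1 := fun v => by
    rw [add_mul, add_mul, hr, hr, ← e hb1 h1, ← e hb2 h2, ← e hb3 h3, ← hl, ← hl, ← add_mul, ← add_mul, ha,
      zero_mul, (pair_zero f hl hr).1]
  simpa [mul_inv_cancel_left₀ hs] using key ((b₁⁻¹ + b₂⁻¹ + b₃⁻¹)⁻¹ * y)

/-- a pairing with a sign change in one argument only is trivial -/
theorem pair_sign (h3 : (3 : K) = 0) (hs : ∀ x y, f (-x) y = f x y) (x y : K) : f x y = 1 := by
  have h2 : f x y ^ 2 = 1 := by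
    rw [sq]
    nth_rw 1 [← hs x y]
    rw [← hl, neg_add_cancel, (pair_zero f hl hr).1]
  have := pair_three f hl hr h3 x y
  rwa [pow_succ, h2, one_mul] at this

/-- scalar invariant pairings vanish -/
theorem pair_scalar (h3 : (3 : K) = 0) (hinv : ∀ c : K, c ≠ 0 → ∀ x y, f (c * x) (c * y) = f x y)
    {w : K} (hw0 : w ≠ 0) (hw : w ^ 2 ≠ 1) (x y : K) : f x y = 1 := by
  have hw1 : 1 + w ≠ 0 := fun h => hw (by linear_combination (w - 1) * h)
  refine pair_kill f hl hr one_ne_zero hw0 (neg_ne_zero.2 hw1) (hinv 1 one_ne_zero) (hinv w hw0)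
    (hinv _ (neg_ne_zero.2 hw1)) (by ring) (fun h => ?_) x y
  field_simp at h
  exact hw (by
    have hsq : (w - 1) ^ 2 = 0 := by linear_combination h - w * h3
    rw [sub_eq_zero.1 (pow_eq_zero_iff two_ne_zero |>.1 hsq), one_pow])

end kill

variable {K : Type*} [Field K] [Fintype K] {m : ℕ} (hK : Fintype.card K = 3 ^ (2 * m + 1))
include hK

/-- the derived part of the unipotent group -/
noncomputable def WR : Subgroup (RG K m) where
  carrier := {g | ∃ u v, g = uEl m 0 u v}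
  mul_mem' := by
    rintro _ _ ⟨u, v, rfl⟩ ⟨u', v', rfl⟩
    exact ⟨u + u', v + v', by rw [uEl_mul hK]; congr 1 <;> ring⟩
  one_mem' := ⟨0, 0, (uEl_zero hK).symm⟩
  inv_mem' := by
    rintro _ ⟨u, v, rfl⟩
    refine ⟨-u, -v, inv_eq_of_mul_eq_one_right ?_⟩
    rw [uEl_mul hK, uEl_eq_one_iff hK]
    refine ⟨?_, ?_, ?_⟩ <;> ring

theorem uEl_split (t u v : K) : uEl m t u v = uEl m t 0 0 * uEl m 0 u v := by
  rw [uEl_mul hK]; congr 1 <;> simp

theorem uEl_tu (t u : K) : uEl m t 0 0 * uEl m 0 u 0 = uEl m t u 0 := (uEl_split hK t u 0).symm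

theorem uEl_addT (a b : K) : ∃ u v, uEl m a 0 0 * uEl m b 0 0 = uEl m (a + b) u v :=
  ⟨_, _, uEl_mul hK a 0 0 b 0 0⟩

theorem comm_mem_WR {g h : RG K m} (hg : g ∈ UR K m) (hh : h ∈ UR K m) : ⁅g, h⁆ ∈ WR hK := by
  obtain ⟨t, u, v, rfl⟩ := (mem_UR_iff hK _).1 hg
  obtain ⟨t', u', v', rfl⟩ := (mem_UR_iff hK _).1 hh
  obtain ⟨a, b, d, e1⟩ := (mem_UR_iff hK _).1 (mul_mem (mul_mem (mul_mem hg hh) (inv_mem hg)) (inv_mem hh))
  have e : uEl m t u v * uEl m t' u' v' = uEl m a b d * (uEl m t' u' v' * uEl m t u v) := by rw [← e1]; group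
  rw [uEl_mul hK, uEl_mul hK, uEl_mul hK] at e
  obtain ⟨h0, -, -⟩ := uEl_inj hK e
  exact ⟨b, d, by rw [commutatorElement_def, e1, show a = 0 by linear_combination -h0]⟩

theorem exists_w : ∃ c : Kˣ, ∀ z : Kˣ, z ∈ Subgroup.zpowers c := IsCyclic.exists_generator

section lifts

variable {Γ : Type*} [Group Γ] (σ : Γ →* RG K m) (hs : Function.Surjective σ) (hc : σ.ker ≤ Subgroup.center Γ)
include hs hc

theorem cml_torus {g h : RG K m} (hgh : Commute g h) (c : Kˣ) :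
    cml σ hs (hEl hK c * g * (hEl hK c)⁻¹) (hEl hK c * h * (hEl hK c)⁻¹) = cml σ hs g h :=
  cml_conj_central σ hs hc hgh _

theorem cml_comm_left {g g' h : RG K m} (hh : Commute g' h) :
    cml σ hs (g * g') h = cml σ hs g h * cml σ hs g' h := by
  have hz := Subgroup.mem_center_iff.1 (cml_central σ hs hc hh)
  rw [cml_mul_left σ hs hc, hz, mul_inv_cancel_right, hz]

theorem cml_comm_right {g h h' : RG K m} (hh : Commute g h') :
    cml σ hs g (h * h') = cml σ hs g h * cml σ hs g h' := by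
  rw [cml_mul_right σ hs hc, Subgroup.mem_center_iff.1 (cml_central σ hs hc hh), mul_inv_cancel_right]

theorem commute_W (u v u' v' : K) : Commute (uEl m (0 : K) u v : RG K m) (uEl m 0 u' v') := by
  show _ * _ = _ * _
  rw [uEl_mul hK, uEl_mul hK]; congr 1 <;> ring

theorem commute_V (t u v w : K) : Commute (uEl m t u v : RG K m) (uEl m 0 0 w) := by
  show _ * _ = _ * _
  rw [uEl_mul hK, uEl_mul hK]; congr 1 <;> simp <;> ring

theorem sign_exp : ((-1 : K) ^ 3 ^ m) ^ 3 = -1 := by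
  rw [← pow_mul, Odd.neg_one_pow (Odd.mul (Odd.pow (by decide)) (by decide))]

theorem cml_WW (hm : 1 ≤ m) (u v u' v' : K) : cml σ hs (uEl m 0 u v) (uEl m 0 u' v') = 1 := by
  have h3 : (3 : K) = 0 := three_eq_zero_G2 hK
  obtain ⟨c₀, hgen⟩ := exists_w hK
  obtain ⟨z, hz⟩ := exists_sq_ne_one hK hm
  have cc := commute_W hK σ hs hc
  have hV : ∀ a b : K, (uEl m 0 0 a : RG K m) * uEl m 0 0 b = uEl m 0 0 (a + b) := fun a b => by
    rw [uEl_mul hK]; simp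
  have hU : ∀ a b : K, (uEl m 0 a 0 : RG K m) * uEl m 0 b 0 = uEl m 0 (a + b) 0 := fun a b => by
    rw [uEl_mul hK]; simp
  have hvv : ∀ a b : K, cml σ hs (uEl m 0 0 a) (uEl m 0 0 b) = 1 := by
    refine pair_scalar (fun a b => cml σ hs (uEl m (0 : K) 0 a) (uEl m 0 0 b))
      (fun a b u => by rw [← hV, cml_comm_left hK σ hs hc (cc ..)])
      (fun t a b => by rw [← hV, cml_comm_right hK σ hs hc (cc ..)]) h3 (fun c hc0 a b => ?_) z.ne_zero hz
    have h := cml_torus hK σ hs hc (cc 0 a 0 b) (Units.mk0 c hc0)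
    rw [hEl_conj_uEl, hEl_conj_uEl, Units.val_mk0] at h
    simpa using h
  have huv : ∀ a b : K, cml σ hs (uEl m 0 0 a) (uEl m 0 b 0) = 1 := by
    refine pair_sign (fun a b => cml σ hs (uEl m (0 : K) 0 a) (uEl m 0 b 0))
      (fun a b u => by rw [← hV, cml_comm_left hK σ hs hc (cc ..)])
      (fun t a b => by rw [← hU, cml_comm_right hK σ hs hc (cc ..)]) h3 (fun a b => ?_)
    have h := cml_torus hK σ hs hc (cc 0 a b 0) (-1)
    rw [hEl_conj_uEl, hEl_conj_uEl] at h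
    simp only [Units.val_neg, Units.val_one, sign_exp hK σ hs hc] at h
    simpa using h
  have huu : ∀ a b : K, cml σ hs (uEl m 0 a 0) (uEl m 0 b 0) = 1 := by
    refine pair_scalar (fun a b => cml σ hs (uEl m (0 : K) a 0) (uEl m 0 b 0))
      (fun a b u => by rw [← hU, cml_comm_left hK σ hs hc (cc ..)])
      (fun t a b => by rw [← hU, cml_comm_right hK σ hs hc (cc ..)]) h3 (fun c hc0 a b => ?_) z.ne_zero hz
    have hsq : ∀ d : Kˣ, ∀ a b : K, cml σ hs (uEl m (0 : K) ((d : K) ^ 2 * a) 0) (uEl m 0 ((d : K) ^ 2 * b) 0) =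
        cml σ hs (uEl m (0 : K) a 0) (uEl m 0 b 0) := fun d a b => by
      have h := cml_torus hK σ hs hc (cc a 0 b 0) (d ^ (3 * 3 ^ m + 1))
      rw [hEl_conj_uEl, hEl_conj_uEl] at h
      have e : (((d ^ (3 * 3 ^ m + 1)) ^ 3 ^ m) ^ 3 * (d ^ (3 * 3 ^ m + 1))⁻¹ : Kˣ) = d ^ 2 := by
        rw [← weight_u hK d, mul_pow, inv_pow, ← pow_mul, ← pow_mul, ← pow_mul, ← pow_mul]
        congr 2; ring
      have e' := congrArg Units.val e
      push_cast at e' h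
      simp only [mul_zero, e'] at h
      simpa using h
    have hneg : ∀ x y, cml σ hs (uEl m (0 : K) (-x) 0) (uEl m 0 (-y) 0) = cml σ hs (uEl m (0 : K) x 0) (uEl m 0 y 0) := by
      intro x y
      have l1 : cml σ hs (uEl m (0 : K) (-x) 0) (uEl m 0 (-y) 0) * cml σ hs (uEl m (0 : K) x 0) (uEl m 0 (-y) 0) = 1 := by
        rw [← cml_comm_left hK σ hs hc (cc ..), hU, neg_add_cancel, uEl_zero hK, ← uEl_zero hK]
        exact (pair_zero (fun a b => cml σ hs (uEl m (0 : K) a 0) (uEl m 0 b 0))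
          (fun a b u => by rw [← hU, cml_comm_left hK σ hs hc (cc ..)])
          (fun t a b => by rw [← hU, cml_comm_right hK σ hs hc (cc ..)])).1 _
      have l2 : cml σ hs (uEl m (0 : K) x 0) (uEl m 0 y 0) * cml σ hs (uEl m (0 : K) x 0) (uEl m 0 (-y) 0) = 1 := by
        rw [← cml_comm_right hK σ hs hc (cc ..), hU, add_neg_cancel, uEl_zero hK, ← uEl_zero hK]
        exact (pair_zero (fun a b => cml σ hs (uEl m (0 : K) a 0) (uEl m 0 b 0))
          (fun a b u => by rw [← hU, cml_comm_left hK σ hs hc (cc ..)])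
          (fun t a b => by rw [← hU, cml_comm_right hK σ hs hc (cc ..)])).2 _
      exact mul_right_cancel (l1.trans l2.symm)
    obtain ⟨n2, hodd⟩ := nH_spec m
    have hpw : c ^ nH m = 1 ∨ c ^ nH m = -1 := sq_eq_one_iff.1 (by
      rw [← pow_mul, mul_comm, n2, ← hK]; exact FiniteField.pow_card_sub_one_eq_one c hc0)
    have hd : (c ^ ((nH m + 1) / 2)) ^ 2 = c ^ nH m * c := by rw [← pow_mul, ← pow_succ]; congr 1; omega
    have h := hsq (Units.mk0 _ (pow_ne_zero ((nH m + 1) / 2) hc0)) a b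
    rw [Units.val_mk0, hd] at h
    rcases hpw with hp | hp <;> rw [hp] at h
    · rwa [one_mul] at h
    · rwa [neg_one_mul, neg_mul, neg_mul, hneg] at h
  have hs1 : ∀ a b : K, (uEl m 0 a b : RG K m) = uEl m 0 0 b * uEl m 0 a 0 := fun a b => by rw [uEl_mul hK]; simp
  have huv' : cml σ hs (uEl m 0 u 0) (uEl m 0 0 v') = 1 := by rw [← cml_inv, huv, inv_one]
  rw [hs1 u v, hs1 u' v', cml_comm_left hK σ hs hc (by rw [← hs1]; exact cc ..),
    cml_comm_right hK σ hs hc (cc ..), cml_comm_right hK σ hs hc (cc ..), hvv, huv, huv', huu]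
  simp

theorem cml_UV (hm : 1 ≤ m) {g : RG K m} (hg : g ∈ UR K m) (w : K) : cml σ hs g (uEl m 0 0 w) = 1 := by
  have h3 : (3 : K) = 0 := three_eq_zero_G2 hK
  have : Fact (Nat.Prime 3) := ⟨Nat.prime_three⟩
  have : CharP K 3 := CharP.charP_iff_prime_eq_zero Nat.prime_three |>.2 h3
  have cv := commute_V hK σ hs hc
  obtain ⟨t, u, v, rfl⟩ := (mem_UR_iff hK _).1 hg
  rw [uEl_split hK, cml_comm_left hK σ hs hc (cv ..), cml_WW hK σ hs hc hm, mul_one]
  obtain ⟨c, hgen⟩ := exists_w hK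
  have hoc : orderOf c = 3 ^ (2 * m + 1) - 1 := by
    rw [orderOf_eq_card_of_forall_mem_zpowers hgen, Nat.card_units, Nat.card_eq_fintype_card, hK]
  obtain ⟨T, hT⟩ : ∃ T : K → K, ∀ x, T x = (x ^ 3 ^ m) ^ 3 := ⟨_, fun _ => rfl⟩
  have hTadd : ∀ x y, T (x + y) = T x + T y := fun x y => by
    rw [hT, hT, hT, add_pow_char_pow, add_pow_char]
  have hTneg : ∀ x, T (-x) = -T x := fun x => by
    rw [hT, hT, Odd.neg_pow (Odd.pow (by decide)), Odd.neg_pow (by decide)]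
  have hT0 : ∀ x, x ≠ 0 → T x ≠ 0 := fun x hx => by rw [hT]; exact pow_ne_zero _ (pow_ne_zero _ hx)
  have hw0 : (c : K) ≠ 0 := c.ne_zero
  have hpow : ∀ k, 0 < k → k < 3 ^ (2 * m + 1) - 1 → (c : K) ^ k ≠ 1 := fun k hk hk' h => by
    have := Nat.le_of_dvd hk (orderOf_dvd_of_pow_eq_one (show c ^ k = 1 from Units.ext (by push_cast; exact h)))
    omega
  have hq9 : 3 ^ m * 9 ≤ 3 ^ (2 * m + 1) := by
    rw [show (9 : ℕ) = 3 ^ 2 from rfl, ← pow_add]
    exact Nat.pow_le_pow_right three_pos (by omega)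
  have hm3 : 3 ≤ 3 ^ m := Nat.le_self_pow (by omega) 3
  have hw1 : (c : K) ≠ 1 := fun h => hpow 1 one_pos (by omega) (by rw [pow_one, h])
  have hw2 : 1 + (c : K) ≠ 0 := fun h => hpow 2 two_pos (by omega) (by linear_combination ((c : K) - 1) * h)
  have hTw : T (c : K) ≠ (c : K) ^ 3 := fun h => by
    rw [hT, ← pow_mul, show 3 ^ m * 3 = (3 ^ m * 3 - 3) + 3 by omega, pow_add] at h
    exact hpow (3 ^ m * 3 - 3) (by omega) (by omega) (mul_eq_right₀ (pow_ne_zero 3 hw0) |>.1 h)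
  have hV : ∀ a b : K, (uEl m 0 0 a : RG K m) * uEl m 0 0 b = uEl m 0 0 (a + b) := fun a b => by
    rw [uEl_mul hK]; simp
  have hl : ∀ a b u, cml σ hs (uEl m (a + b) 0 0) (uEl m (0 : K) 0 u) =
      cml σ hs (uEl m a 0 0) (uEl m (0 : K) 0 u) * cml σ hs (uEl m b 0 0) (uEl m (0 : K) 0 u) := fun a b u => by
    obtain ⟨u₁, v₁, e⟩ := uEl_addT hK a b
    rw [← cml_comm_left hK σ hs hc (cv ..), e, uEl_split hK (a + b) u₁ v₁, cml_comm_left hK σ hs hc (cv ..),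
      cml_WW hK σ hs hc hm, mul_one]
  have hinv : ∀ d : K, d ≠ 0 → ∀ x y : K, cml σ hs (uEl m (d ^ 2 * (T d)⁻¹ * x) 0 0) (uEl m (0 : K) 0 (d * y)) =
      cml σ hs (uEl m x 0 0) (uEl m (0 : K) 0 y) := fun d hd x y => by
    have h := cml_torus hK σ hs hc (cv x 0 0 y) (Units.mk0 d hd)
    rw [hEl_conj_uEl, hEl_conj_uEl, Units.val_mk0] at h
    rw [hT]
    simpa using h
  have hinv' : ∀ d : K, d ≠ 0 → ∀ x y : K, cml σ hs (uEl m (d ^ 2 * (T d)⁻¹ * y) 0 0) (uEl m (0 : K) 0 (d * x)) =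
      cml σ hs (uEl m y 0 0) (uEl m (0 : K) 0 x) := fun d hd x y => hinv d hd y x
  refine pair_kill (fun a b => cml σ hs (uEl m b 0 0) (uEl m (0 : K) 0 a)) (fun a b u => by
      rw [← hV, cml_comm_right hK σ hs hc (cv ..)]) (fun t a b => hl a b t)
    (a₁ := 1) (a₂ := (c : K)) (a₃ := -(1 + (c : K))) (b₁ := (1 : K) ^ 2 * (T 1)⁻¹) (b₂ := (c : K) ^ 2 * (T c)⁻¹)
    (b₃ := (-(1 + (c : K))) ^ 2 * (T (-(1 + (c : K))))⁻¹)
    (by simp [hT]) (mul_ne_zero (pow_ne_zero _ hw0) (inv_ne_zero (hT0 _ hw0)))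
    (mul_ne_zero (pow_ne_zero _ (neg_ne_zero.2 hw2)) (inv_ne_zero (hT0 _ (neg_ne_zero.2 hw2))))
    (fun x y => hinv' 1 one_ne_zero x y) (fun x y => hinv' _ hw0 x y) (fun x y => hinv' _ (neg_ne_zero.2 hw2) x y)
    (by ring) (fun h => ?_) w t
  have h1 : T 1 = 1 := by simp [hT]
  rw [hTneg, hTadd, h1] at h
  simp only [mul_inv, inv_inv, neg_sq, one_pow, inv_one, one_mul] at h
  field_simp at h
  have key : ((c : K) - 1) * ((c : K) ^ 3 - T c) = 0 := by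
    linear_combination h - ((c : K) ^ 3 + (c : K) * T c) * h3
  rcases mul_eq_zero.1 key with e | e
  · exact hw1 (sub_eq_zero.1 e)
  · exact hTw (sub_eq_zero.1 e).symm

theorem commute_lift_W {x y : Γ} (hm : 1 ≤ m) (hx : σ x ∈ WR hK) (hy : σ y ∈ WR hK) : Commute x y := by
  obtain ⟨u, v, hu⟩ := hx
  obtain ⟨u', v', hu'⟩ := hy
  rw [← commutatorElement_eq_one_iff_commute, comm_eq σ hs hc hu hu', cml_WW hK σ hs hc hm]

theorem pow_eq_one_three (hm : 1 ≤ m) {z : Γ} (hz : z ∈ σ.ker) (hU : z ∈ (UR K m).comap σ)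
    (hcom : (⟨z, hU⟩ : ↥((UR K m).comap σ)) ∈ commutator ↥((UR K m).comap σ)) :
    z ^ (3 ^ (2 * m + 1) - 1) = 1 := by
  classical
  have h3 : (3 : K) = 0 := three_eq_zero_G2 hK
  have hWU : WR hK ≤ UR K m := fun g ⟨u, v, hg⟩ => hg ▸ uEl_mem hK _ _ _
  have hcm : ∀ x y : (WR hK).comap σ, x * y = y * x := fun x y =>
    Subtype.ext (commute_lift_W hK σ hs hc hm x.2 y.2).eq
  let inst : CommGroup ((WR hK).comap σ) := { (inferInstance : Group ((WR hK).comap σ)) with mul_comm := hcm }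
  have hWconj : ∀ g : RG K m, g ∈ UR K m → ∀ w ∈ WR hK, g * w * g⁻¹ ∈ WR hK := fun g hg w hw => by
    rw [show g * w * g⁻¹ = ⁅g, w⁆ * w by rw [commutatorElement_def]; group]
    exact mul_mem (comm_mem_WR hK hg (hWU hw)) hw
  have hWtor : ∀ c : Kˣ, ∀ w ∈ WR hK, hEl hK c * w * (hEl hK c)⁻¹ ∈ WR hK := by
    rintro c _ ⟨u, v, rfl⟩
    rw [hEl_conj_uEl]
    exact ⟨_, _, by rw [mul_zero]⟩
  obtain ⟨p, hp⟩ : ∃ p : Kˣ → Γ, ∀ c, σ (p c) = hEl hK c :=
    ⟨fun c => lft σ hs (hEl hK c), fun c => σ_lft σ hs _⟩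
  let φ : Kˣ → ((WR hK).comap σ →* (WR hK).comap σ) := fun c =>
    MonoidHom.mk' (fun z => ⟨p c * z * (p c)⁻¹, by
      rw [Subgroup.mem_comap, map_mul, map_mul, map_inv, hp]; exact hWtor c _ z.2⟩)
      fun a b => Subtype.ext (by simp only [Subgroup.coe_mul]; group)
  let ρ : (WR hK).comap σ →* (WR hK).comap σ := ∏ c : Kˣ, φ c
  have hρ : ∀ (s : Kˣ) (x y : (WR hK).comap σ), (y : Γ) = p s * x * (p s)⁻¹ → ρ y = ρ x := by
    intro s x y e
    simp only [ρ, MonoidHom.finsetProd_apply]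
    refine Fintype.prod_equiv (Equiv.mulRight s) _ _ fun t => Subtype.ext ?_
    show p t * (y : Γ) * (p t)⁻¹ = p (t * s) * (x : Γ) * (p (t * s))⁻¹
    have hz' : (p (t * s))⁻¹ * (p t * p s) ∈ Subgroup.center Γ := hc (by
      rw [MonoidHom.mem_ker, map_mul, map_inv, map_mul, hp, hp, hp, map_mul, inv_mul_cancel])
    rw [e, show p t * (p s * (x : Γ) * (p s)⁻¹) * (p t)⁻¹ = p (t * s) * (((p (t * s))⁻¹ * (p t * p s)) * x *
      ((p (t * s))⁻¹ * (p t * p s))⁻¹) * (p (t * s))⁻¹ by group, ← Subgroup.mem_center_iff.1 hz' (x : Γ),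
      mul_inv_cancel_right]
  have hmemC : ∀ g h : RG K m, g ∈ UR K m → h ∈ UR K m → cml σ hs g h ∈ (WR hK).comap σ := fun g h hg hh => by
    rw [Subgroup.mem_comap, σ_cml]; exact comm_mem_WR hK hg hh
  -- lifts of the centre are central
  have hfixV : ∀ (g : RG K m), g ∈ UR K m → ∀ x : Γ, ∀ w : K, σ x = uEl m 0 0 w →
      lft σ hs g * x * (lft σ hs g)⁻¹ = x := fun g hg x w hx => by
    have : Commute (lft σ hs g) x := by
      rw [← commutatorElement_eq_one_iff_commute, comm_eq σ hs hc (σ_lft σ hs g) hx, cml_UV hK σ hs hc hm hg]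
    rw [this.eq, mul_inv_cancel_right]
  have hcommV : ∀ t u u' : K, ∀ x : RG K m, x = ⁅(uEl m t u' 0 : RG K m), uEl m 0 u 0⁆ → ∃ w, x = uEl m 0 0 w := by
    intro t u u' x hx
    obtain ⟨a, b, d, e1⟩ := (mem_UR_iff hK _).1 (mul_mem (mul_mem (mul_mem (uEl_mem hK t u' 0) (uEl_mem hK 0 u 0))
      (inv_mem (uEl_mem hK t u' 0))) (inv_mem (uEl_mem hK 0 u 0)))
    refine ⟨d, ?_⟩
    have e : uEl m t u' 0 * uEl m 0 u 0 = uEl m a b d * (uEl m 0 u 0 * uEl m t u' 0) := by rw [← e1]; group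
    rw [uEl_mul hK, uEl_mul hK, uEl_mul hK] at e
    obtain ⟨h0, h1, -⟩ := uEl_inj hK e
    simp at h0 h1
    rw [hx, commutatorElement_def, e1]
    congr 1
    subst h0
    linear_combination -h1
  -- commutators with the second layer
  have hDU : ∀ t u : K, ρ ⟨cml σ hs (uEl m t 0 0) (uEl m 0 u 0), hmemC _ _ (uEl_mem hK ..) (uEl_mem hK ..)⟩ = 1 := by
    refine pair_sign (fun t u => ρ ⟨cml σ hs (uEl m t 0 0) (uEl m 0 u 0), hmemC _ _ (uEl_mem hK ..) (uEl_mem hK ..)⟩)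
      (fun a b u => ?_) (fun t a b => ?_) h3 (fun t u => ?_)
    · rw [← map_mul]
      refine congrArg ρ (Subtype.ext ?_)
      rw [Subgroup.coe_mul]
      show cml σ hs (uEl m (a + b) 0 0) (uEl m 0 u 0) = cml σ hs (uEl m a 0 0) (uEl m 0 u 0) * cml σ hs (uEl m b 0 0) (uEl m 0 u 0)
      obtain ⟨u₁, v₁, e⟩ := uEl_addT hK a b
      obtain ⟨w, hw⟩ := hcommV b u 0 _ rfl
      obtain ⟨w', hw'⟩ := hcommV a u 0 _ rfl
      have hd : cml σ hs (uEl m a 0 0 * uEl m b 0 0) (uEl m 0 u 0) = cml σ hs (uEl m (a + b) 0 0) (uEl m 0 u 0) := by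
        rw [e, uEl_split hK (a + b), cml_mul_left σ hs hc, cml_WW hK σ hs hc hm, mul_one, mul_inv_cancel, one_mul]
      rw [← hd, cml_mul_left σ hs hc, hfixV _ (uEl_mem hK ..) _ w (by rw [σ_cml]; exact hw)]
      have : Commute (cml σ hs (uEl m b 0 0) (uEl m 0 u 0)) (cml σ hs (uEl m a 0 0) (uEl m 0 u 0)) :=
        commute_lift_W hK σ hs hc hm (hmemC _ _ (uEl_mem hK ..) (uEl_mem hK ..)) (hmemC _ _ (uEl_mem hK ..) (uEl_mem hK ..))
      exact this.eq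
    · rw [← map_mul]
      refine congrArg ρ (Subtype.ext ?_)
      rw [Subgroup.coe_mul]
      show cml σ hs (uEl m t 0 0) (uEl m 0 (a + b) 0) = cml σ hs (uEl m t 0 0) (uEl m 0 a 0) * cml σ hs (uEl m t 0 0) (uEl m 0 b 0)
      obtain ⟨w, hw⟩ := hcommV t b 0 _ rfl
      rw [show (uEl m (0 : K) (a + b) 0 : RG K m) = uEl m 0 a 0 * uEl m 0 b 0 by rw [uEl_mul hK]; simp,
        cml_mul_right σ hs hc, hfixV _ (uEl_mem hK ..) _ w (by rw [σ_cml]; exact hw)]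
    · refine hρ (-1) _ _ ?_
      show cml σ hs (uEl m (-t) 0 0) (uEl m 0 u 0) = p (-1) * cml σ hs (uEl m t 0 0) (uEl m 0 u 0) * (p (-1))⁻¹
      have hz' : (lft σ hs (hEl hK (-1)))⁻¹ * p (-1) ∈ Subgroup.center Γ := hc (by
        rw [MonoidHom.mem_ker, map_mul, map_inv, hp, σ_lft, inv_mul_cancel])
      rw [show p (-1) * cml σ hs (uEl m t 0 0) (uEl m 0 u 0) * (p (-1))⁻¹ = lft σ hs (hEl hK (-1)) *
          (((lft σ hs (hEl hK (-1)))⁻¹ * p (-1)) * cml σ hs (uEl m t 0 0) (uEl m 0 u 0) *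
          ((lft σ hs (hEl hK (-1)))⁻¹ * p (-1))⁻¹) * (lft σ hs (hEl hK (-1)))⁻¹ by group,
        ← Subgroup.mem_center_iff.1 hz', mul_inv_cancel_right, cml_conj σ hs hc, hEl_conj_uEl, hEl_conj_uEl]
      simp only [Units.val_neg, Units.val_one, sign_exp hK σ hs hc]
      congr 2 <;> simp
  -- conjugation by the unipotent group is invisible
  have hfix : ∀ g : RG K m, g ∈ UR K m → ∀ x y : (WR hK).comap σ,
      (y : Γ) = lft σ hs g * x * (lft σ hs g)⁻¹ → ρ y = ρ x := by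
    intro g hg x y e
    obtain ⟨u, v, hx⟩ := x.2
    obtain ⟨t, a, b, rfl⟩ := (mem_UR_iff hK _).1 hg
    have hc1 : ⁅lft σ hs (uEl m t a b), (x : Γ)⁆ = cml σ hs (uEl m t 0 0) (uEl m 0 u 0) := by
      obtain ⟨w, hw⟩ := hcommV t u 0 _ rfl
      rw [comm_eq σ hs hc (σ_lft σ hs _) hx, uEl_split hK t a b, cml_mul_left σ hs hc, cml_WW hK σ hs hc hm, mul_one,
        mul_inv_cancel, one_mul, show (uEl m (0 : K) u v : RG K m) = uEl m 0 u 0 * uEl m 0 0 v by rw [uEl_mul hK]; simp,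
        cml_mul_right σ hs hc, cml_UV hK σ hs hc hm (uEl_mem hK ..), mul_one, mul_inv_cancel, mul_one]
    have hy : y = ⟨_, hmemC _ _ (uEl_mem hK t 0 0) (uEl_mem hK 0 u 0)⟩ * x := Subtype.ext (by
      show (y : Γ) = cml σ hs (uEl m t 0 0) (uEl m 0 u 0) * (x : Γ)
      rw [← hc1, e, commutatorElement_def]; group)
    rw [hy, map_mul, hDU, one_mul]
  -- the first layer
  have hE : ∀ g h : RG K m, ∀ hg : g ∈ UR K m, ∀ hh : h ∈ UR K m, ρ ⟨cml σ hs g h, hmemC g h hg hh⟩ = 1 := by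
    obtain ⟨E, hEd⟩ : ∃ E : K → K → (WR hK).comap σ, E = fun a b =>
        ρ ⟨cml σ hs (uEl m a 0 0) (uEl m b 0 0), hmemC _ _ (uEl_mem hK ..) (uEl_mem hK ..)⟩ := ⟨_, rfl⟩
    have hleft : ∀ g g' h : RG K m, ∀ hg : g ∈ UR K m, ∀ hg' : g' ∈ UR K m, ∀ hh : h ∈ UR K m,
        ρ ⟨cml σ hs (g * g') h, hmemC _ _ (mul_mem hg hg') hh⟩ =
          ρ ⟨cml σ hs g h, hmemC _ _ hg hh⟩ * ρ ⟨cml σ hs g' h, hmemC _ _ hg' hh⟩ := by
      intro g g' h hg hg' hh
      have hmem : lft σ hs g * cml σ hs g' h * (lft σ hs g)⁻¹ ∈ (WR hK).comap σ := by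
        rw [Subgroup.mem_comap, map_mul, map_mul, map_inv, σ_lft]; exact hWconj g hg _ (hmemC _ _ hg' hh)
      rw [mul_comm, ← hfix g hg ⟨_, hmemC _ _ hg' hh⟩ ⟨_, hmem⟩ rfl, ← map_mul]
      exact congrArg ρ (Subtype.ext (cml_mul_left σ hs hc g g' h))
    have hright : ∀ g h h' : RG K m, ∀ hg : g ∈ UR K m, ∀ hh : h ∈ UR K m, ∀ hh' : h' ∈ UR K m,
        ρ ⟨cml σ hs g (h * h'), hmemC _ _ hg (mul_mem hh hh')⟩ =
          ρ ⟨cml σ hs g h, hmemC _ _ hg hh⟩ * ρ ⟨cml σ hs g h', hmemC _ _ hg hh'⟩ := by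
      intro g h h' hg hh hh'
      have hmem : lft σ hs h * cml σ hs g h' * (lft σ hs h)⁻¹ ∈ (WR hK).comap σ := by
        rw [Subgroup.mem_comap, map_mul, map_mul, map_inv, σ_lft]; exact hWconj h hh _ (hmemC _ _ hg hh')
      rw [← hfix h hh ⟨_, hmemC _ _ hg hh'⟩ ⟨_, hmem⟩ rfl, ← map_mul]
      exact congrArg ρ (Subtype.ext (cml_mul_right σ hs hc g h h'))
    have hlW : ∀ u v : K, ∀ h : RG K m, ∀ hh : h ∈ UR K m,
        ρ ⟨cml σ hs (uEl m 0 u v) h, hmemC _ _ (uEl_mem hK ..) hh⟩ = 1 := by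
      intro u v h hh
      obtain ⟨t, a, b, rfl⟩ := (mem_UR_iff hK _).1 hh
      have e : (⟨cml σ hs (uEl m 0 u v) (uEl m t a b), hmemC _ _ (uEl_mem hK ..) hh⟩ : (WR hK).comap σ) =
          (⟨cml σ hs (uEl m t 0 0) (uEl m 0 u 0), hmemC _ _ (uEl_mem hK ..) (uEl_mem hK ..)⟩)⁻¹ := by
        refine Subtype.ext ?_
        rw [Subgroup.coe_inv]
        show cml σ hs (uEl m 0 u v) (uEl m t a b) = (cml σ hs (uEl m t 0 0) (uEl m 0 u 0))⁻¹
        rw [← cml_inv σ hs (uEl m t a b), uEl_split hK t a b, cml_mul_left σ hs hc, cml_WW hK σ hs hc hm, mul_one,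
          mul_inv_cancel, one_mul, show (uEl m (0 : K) u v : RG K m) = uEl m 0 u 0 * uEl m 0 0 v by rw [uEl_mul hK]; simp,
          cml_mul_right σ hs hc, cml_UV hK σ hs hc hm (uEl_mem hK ..), mul_one, mul_inv_cancel, mul_one]
      rw [e, map_inv, hDU, inv_one]
    have hrW : ∀ u v : K, ∀ h : RG K m, ∀ hh : h ∈ UR K m,
        ρ ⟨cml σ hs h (uEl m 0 u v), hmemC _ _ hh (uEl_mem hK ..)⟩ = 1 := by
      intro u v h hh
      have e : (⟨cml σ hs h (uEl m 0 u v), hmemC _ _ hh (uEl_mem hK ..)⟩ : (WR hK).comap σ) =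
          (⟨cml σ hs (uEl m 0 u v) h, hmemC _ _ (uEl_mem hK ..) hh⟩)⁻¹ :=
        Subtype.ext (by rw [Subgroup.coe_inv]; exact (cml_inv σ hs _ _).symm)
      rw [e, map_inv, hlW u v h hh, inv_one]
    have hEeq : ∀ t u v t' u' v' : K, ρ ⟨cml σ hs (uEl m t u v) (uEl m t' u' v'),
        hmemC _ _ (uEl_mem hK ..) (uEl_mem hK ..)⟩ = E t t' := by
      intro t u v t' u' v'
      have el := hleft (uEl m t 0 0) (uEl m 0 u v) (uEl m t' u' v') (uEl_mem hK ..) (uEl_mem hK ..) (uEl_mem hK ..)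
      simp only [← uEl_split hK t u v] at el
      have er := hright (uEl m t 0 0) (uEl m t' 0 0) (uEl m 0 u' v') (uEl_mem hK ..) (uEl_mem hK ..) (uEl_mem hK ..)
      simp only [← uEl_split hK t' u' v'] at er
      rw [el, hlW u v _ (uEl_mem hK ..), mul_one, er, hrW u' v' _ (uEl_mem hK ..), mul_one, hEd]
    have hadd : ∀ a b u, E (a + b) u = E a u * E b u := fun a b u => by
      obtain ⟨u₁, v₁, e⟩ := uEl_addT hK a b
      have el := hleft (uEl m a 0 0) (uEl m b 0 0) (uEl m u 0 0) (uEl_mem hK ..) (uEl_mem hK ..) (uEl_mem hK ..)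
      simp only [e] at el
      rw [← hEeq (a + b) u₁ v₁ u 0 0, el, hEd]
    have hadd' : ∀ u a b, E u (a + b) = E u a * E u b := fun u a b => by
      obtain ⟨u₁, v₁, e⟩ := uEl_addT hK a b
      have el := hright (uEl m u 0 0) (uEl m a 0 0) (uEl m b 0 0) (uEl_mem hK ..) (uEl_mem hK ..) (uEl_mem hK ..)
      simp only [e] at el
      rw [← hEeq u 0 0 (a + b) u₁ v₁, el, hEd]
    obtain ⟨z₀, hz₀⟩ := exists_sq_ne_one hK hm
    have hEzero := pair_scalar E hadd hadd' h3 (fun c hc0 a b => ?_) z₀.ne_zero hz₀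
    · intro g h hg hh
      obtain ⟨t, u, v, rfl⟩ := (mem_UR_iff hK _).1 hg
      obtain ⟨t', u', v', rfl⟩ := (mem_UR_iff hK _).1 hh
      rw [hEeq, hEzero]
    obtain ⟨d, hd⟩ : ∃ d : Kˣ, d = (Units.mk0 c hc0) ^ (3 * 3 ^ m + 2) := ⟨_, rfl⟩
    have hdw : ((d : K) ^ 2 * (((d : K) ^ 3 ^ m) ^ 3)⁻¹) = c := by
      have := congrArg Units.val (weight_t hK (Units.mk0 c hc0))
      rw [show ((Units.mk0 c hc0) ^ 2 * ((((Units.mk0 c hc0)) ^ 3 ^ m) ^ 3)⁻¹) ^ (3 * 3 ^ m + 2) =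
        d ^ 2 * ((d ^ 3 ^ m) ^ 3)⁻¹ by
          rw [hd, mul_pow, inv_pow, ← pow_mul, ← pow_mul, ← pow_mul, ← pow_mul, ← pow_mul, ← pow_mul]
          congr 2 <;> ring] at this
      push_cast at this
      exact this
    rw [hEd]
    refine hρ d _ _ ?_
    show cml σ hs (uEl m (c * a) 0 0) (uEl m (c * b) 0 0) = p d * cml σ hs (uEl m a 0 0) (uEl m b 0 0) * (p d)⁻¹
    have hz' : (lft σ hs (hEl hK d))⁻¹ * p d ∈ Subgroup.center Γ := hc (by
      rw [MonoidHom.mem_ker, map_mul, map_inv, hp, σ_lft, inv_mul_cancel])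
    rw [show p d * cml σ hs (uEl m a 0 0) (uEl m b 0 0) * (p d)⁻¹ = lft σ hs (hEl hK d) *
        (((lft σ hs (hEl hK d))⁻¹ * p d) * cml σ hs (uEl m a 0 0) (uEl m b 0 0) *
        ((lft σ hs (hEl hK d))⁻¹ * p d)⁻¹) * (lft σ hs (hEl hK d))⁻¹ by group,
      ← Subgroup.mem_center_iff.1 hz', mul_inv_cancel_right, cml_conj σ hs hc, hEl_conj_uEl, hEl_conj_uEl, hdw]
    simp
  have hker : (commutator ↥((UR K m).comap σ)).map ((UR K m).comap σ).subtype ≤
      ρ.ker.map ((WR hK).comap σ).subtype := by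
    rw [commutator_def, Subgroup.map_commutator, Subgroup.commutator_le]
    rintro _ ⟨x, -, rfl⟩ _ ⟨y, -, rfl⟩
    refine ⟨⟨_, hmemC (σ x) (σ y) x.2 y.2⟩, hE _ _ x.2 y.2, ?_⟩
    exact (comm_eq σ hs hc rfl rfl).symm
  obtain ⟨w, hw, e⟩ := hker ⟨⟨z, hU⟩, hcom, rfl⟩
  replace e : (w : Γ) = z := e
  have hw' : ρ w = w ^ (3 ^ (2 * m + 1) - 1) := by
    simp only [ρ, MonoidHom.finsetProd_apply]
    rw [Finset.prod_congr rfl fun t _ => show φ t w = w from Subtype.ext (by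
      show p t * (w : Γ) * (p t)⁻¹ = w
      rw [e, Subgroup.mem_center_iff.1 (hc hz) (p t), mul_inv_cancel_right]),
      Finset.prod_const, Finset.card_univ, Fintype.card_units, hK]
  rw [show ρ w = 1 from hw] at hw'
  rw [← e, ← Subgroup.coe_pow, ← hw', Subgroup.coe_one]

theorem lifts_two_commute (hm : 1 ≤ m) (S : Sylow 2 (RG K m)) {a b : RG K m} (ha : a ∈ (S : Subgroup (RG K m)))
    (hb : b ∈ (S : Subgroup (RG K m))) : cml σ hs a b = 1 := by
  have helem := fun S : Sylow 2 (RG K m) => (sylow_two_elem hK S).2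
  have hcomm : ∀ (S : Sylow 2 (RG K m)), ∀ a ∈ (S : Subgroup (RG K m)), ∀ b ∈ (S : Subgroup (RG K m)), Commute a b := by
    intro S a ha b hb
    have h1 := helem S _ (mul_mem ha hb)
    have inv : ∀ x ∈ (S : Subgroup (RG K m)), x⁻¹ = x := fun x hx => inv_eq_of_mul_eq_one_right (helem S x hx)
    have := inv _ (mul_mem ha hb)
    rw [mul_inv_rev, inv a ha, inv b hb] at this
    exact this.symm
  obtain ⟨S₀, -, hj, -, x, y, hx, hy, ⟨gx, hgx, hgx1⟩, ⟨gy, hgy, a', b', hab, hgy1⟩, hx1, hy1, -, hform⟩ :=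
    exists_sylow_two hK
  have fconj : ∀ (S : Sylow 2 (RG K m)) (g a b : RG K m), a ∈ (S : Subgroup (RG K m)) → b ∈ (S : Subgroup (RG K m)) →
      cml σ hs (g * a * g⁻¹) (g * b * g⁻¹) = cml σ hs a b :=
    fun S g a b ha hb => cml_conj_central σ hs hc (hcomm S a ha b hb) g
  -- the involution against its Sylow group
  have hjS : ∀ d ∈ (S₀ : Subgroup (RG K m)), cml σ hs (jEl hK) d = 1 := by
    have hmul : ∀ d d', d ∈ (S₀ : Subgroup (RG K m)) → d' ∈ (S₀ : Subgroup (RG K m)) →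
        cml σ hs (jEl hK) (d * d') = cml σ hs (jEl hK) d * cml σ hs (jEl hK) d' :=
      fun d d' _ hd' => cml_comm_right hK σ hs hc (hcomm S₀ _ hj _ hd')
    have hone : cml σ hs (jEl hK) 1 = 1 := by
      have := hmul 1 1 (one_mem _) (one_mem _)
      rw [mul_one] at this
      exact left_eq_mul.1 this
    have hsq : ∀ d ∈ (S₀ : Subgroup (RG K m)), cml σ hs (jEl hK) d * cml σ hs (jEl hK) d = 1 := fun d hd => by
      rw [← hmul d d hd hd, helem S₀ d hd, hone]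
    obtain ⟨g, hg1, hg2⟩ := exists_cycle hK hab hgx1 hgy1
    have hgj : phi hK g * jEl hK * (phi hK g)⁻¹ = jEl hK := by rw [← phi_commute_jEl hK g, mul_inv_cancel_right]
    have e1 : cml σ hs (jEl hK) x = cml σ hs (jEl hK) y := by
      rw [← fconj S₀ (phi hK g) _ _ hj hy, hgj, hgy, hg1, mul_inv_cancel_right, hgx]
    have e2 : cml σ hs (jEl hK) (x * y) = cml σ hs (jEl hK) x := by
      rw [← fconj S₀ (phi hK g) _ _ hj hx, hgj, hgx, hg2, mul_inv_cancel_right, map_mul, hgy]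
    rw [hmul x y hx hy, e1, mul_eq_left] at e2
    rw [e2] at e1
    have hjj : cml σ hs (jEl hK) (jEl hK) = 1 := commutatorElement_self _
    intro d hd
    obtain ⟨u, v, w, hu, hv, hw, rfl⟩ := hform d hd
    have hvS : v ∈ (S₀ : Subgroup (RG K m)) := by rcases hv with rfl | rfl <;> [exact one_mem _; exact hx]
    have hwS : w ∈ (S₀ : Subgroup (RG K m)) := by rcases hw with rfl | rfl <;> [exact one_mem _; exact hy]
    have huS : u ∈ (S₀ : Subgroup (RG K m)) := by rcases hu with rfl | rfl <;> [exact one_mem _; exact hj]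
    rw [hmul u (v * w) huS (mul_mem hvS hwS), hmul v w hvS hwS]
    rcases hu with rfl | rfl <;> rcases hv with rfl | rfl <;> rcases hw with rfl | rfl <;> simp [hone, hjj, e1, e2]
  -- move to the involution
  obtain ⟨h, hh⟩ := MulAction.exists_smul_eq (RG K m) S S₀
  have hmem : ∀ d ∈ (S : Subgroup (RG K m)), h * d * h⁻¹ ∈ (S₀ : Subgroup (RG K m)) := fun d hd => by
    rw [← hh, Sylow.coe_subgroup_smul]
    exact ⟨d, hd, rfl⟩
  rcases eq_or_ne a 1 with rfl | ha1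
  · have := cml_comm_left hK σ hs hc (g := 1) (g' := 1) (h := b) (Commute.one_left b)
    rw [mul_one] at this
    exact left_eq_mul.1 this
  obtain ⟨T, -, htr, -⟩ := sylow_two_structure hK hm
  obtain ⟨k, hk⟩ := MulAction.exists_smul_eq (RG K m) T S₀
  have hkT : ∀ d ∈ (S₀ : Subgroup (RG K m)), k⁻¹ * d * k ∈ (T : Subgroup (RG K m)) := fun d hd => by
    rw [← hk, Sylow.coe_subgroup_smul] at hd
    obtain ⟨e, he, rfl⟩ := hd
    show k⁻¹ * (MulAut.conj k e) * k ∈ _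
    rw [MulAut.conj_apply, show k⁻¹ * (k * e * k⁻¹) * k = e by group]; exact he
  obtain ⟨n₁, hn₁, e₁⟩ := htr _ (hkT _ (hmem a ha)) (fun e => ha1 (by
    calc a = h⁻¹ * k * (k⁻¹ * (h * a * h⁻¹) * k) * (k⁻¹ * h) := by group
      _ = 1 := by rw [e]; group))
  obtain ⟨n₂, hn₂, e₂⟩ := htr _ (hkT _ hj) (fun e => jEl_ne_one hK (by
    calc jEl hK = k * (k⁻¹ * jEl hK * k) * k⁻¹ := by group
      _ = 1 := by rw [e]; group))
  obtain ⟨g, hg⟩ : ∃ g, g = k * (n₂ * n₁⁻¹) * k⁻¹ := ⟨_, rfl⟩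
  have hgS : ∀ d ∈ (S₀ : Subgroup (RG K m)), g * d * g⁻¹ ∈ (S₀ : Subgroup (RG K m)) := fun d hd => by
    have h1 := (Subgroup.mem_normalizer_iff.1 (mul_mem hn₂ (inv_mem hn₁)) _).1 (hkT d hd)
    have h2 : k * (n₂ * n₁⁻¹ * (k⁻¹ * d * k) * (n₂ * n₁⁻¹)⁻¹) * k⁻¹ ∈ (S₀ : Subgroup (RG K m)) := by
      rw [← hk, Sylow.coe_subgroup_smul]
      exact ⟨_, h1, rfl⟩
    convert h2 using 1
    rw [hg]; group
  have hga : g * (h * a * h⁻¹) * g⁻¹ = jEl hK := by
    calc g * (h * a * h⁻¹) * g⁻¹ = k * (n₂ * (n₁⁻¹ * (k⁻¹ * (h * a * h⁻¹) * k) * n₁) * n₂⁻¹) * k⁻¹ := by rw [hg]; group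
      _ = k * (n₂ * jEl hK * n₂⁻¹) * k⁻¹ := by rw [← e₁]; group
      _ = jEl hK := by rw [e₂]; group
  rw [← fconj S h _ _ ha hb, ← fconj S₀ g _ _ (hmem a ha) (hmem b hb), hga]
  exact hjS _ (hgS _ (hmem b hb))

end lifts

theorem schur_trivial (hm : 1 ≤ m) : Cfsg.HasCyclicSchurMultiplier (RG K m) 1 := by
  classical
  refine CfsgLib.Schur.hasCyclicSchurMultiplier_one_of_forall fun Γ _ _ σ hσ =>
    (Subgroup.eq_bot_iff_forall _).2 fun z hz => ?_
  rw [← orderOf_eq_one_iff]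
  by_contra hne
  obtain ⟨r, hr, hrz⟩ := Nat.exists_prime_and_dvd hne
  have := Fact.mk hr
  obtain ⟨hs, hc, hd⟩ := hσ
  rcases eq_or_ne r 2 with rfl | h2
  · obtain ⟨S⟩ := (Sylow.nonempty : Nonempty (Sylow 2 (RG K m)))
    refine S.not_dvd_index (hrz.trans (orderOf_dvd_of_pow_eq_one
      (CfsgLib.Known.SL2Mult.pow_index_eq_one σ ⟨hs, hc, hd⟩ (S : Subgroup (RG K m))
        (fun w hw hk hw' => ?_) hz)))
    have hbot : commutator ↥((S : Subgroup (RG K m)).comap σ) = ⊥ := by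
      rw [commutator_def, eq_bot_iff, Subgroup.commutator_le]
      intro x _ y _
      rw [Subgroup.mem_bot]
      refine Subtype.ext ?_
      show ⁅(x : Γ), (y : Γ)⁆ = 1
      rw [comm_eq σ hs hc rfl rfl, lifts_two_commute hK σ hs hc hm S x.2 y.2]
    rw [hbot, Subgroup.mem_bot] at hw'
    exact congrArg Subtype.val hw'
  rcases eq_or_ne r 3 with rfl | h3
  · obtain ⟨P, hP⟩ := exists_sylow_three hK hm
    have hUi : ¬ 3 ∣ (UR K m).index := by rw [UR, ← hP]; exact P.not_dvd_index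
    obtain ⟨h, hmem⟩ := CfsgLib.Schur.pow_index_mem_commutator ((UR K m).comap σ) (hc hz) (hd hz)
    have hk := pow_eq_one_three hK σ hs hc hm (pow_mem hz _) h hmem
    rw [← pow_mul, Subgroup.index_comap_of_surjective _ hs] at hk
    rcases Nat.prime_three.dvd_mul.1 (hrz.trans (orderOf_dvd_of_pow_eq_one hk)) with h' | h'
    · exact hUi h'
    · exact three_not_dvd m h'
  have key : ∃ U : Subgroup (RG K m), ¬ r ∣ U.index ∧ IsCyclic ↥U := by
    by_cases hH : r ∣ nH m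
    · exact ⟨HR K m, not_dvd_index_HR hK hr (half_prime hr hH).1 (half_prime hr hH).2.2, HR_cyclic hK⟩
    by_cases hQ : r ∣ nQ m
    · exact ⟨A1 hK, not_dvd_index_A1 hK hr hQ, A1_cyclic hK⟩
    by_cases hN : r ∣ nSix m
    · obtain ⟨x, hx⟩ := exists_orderOf_nSix hK hr hN
      refine ⟨_, six_index hK hm hr hN hx hr ?_, (centralizer_six hK hm hr hN hx).1⟩
      rw [← hx, ← Subgroup.orderOf_mk x (Subgroup.mem_centralizer_singleton_iff.2 rfl)]
      exact orderOf_dvd_natCard _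
    refine ⟨⊥, fun h => ?_, inferInstance⟩
    rw [Subgroup.index_bot, card_RG' hK, ← (nQ_spec m).1, ← (nH_spec m).1] at h
    rcases hr.dvd_mul.1 h with h | h
    · rcases hr.dvd_mul.1 h with h | h
      · exact h3 ((Nat.prime_dvd_prime_iff_eq hr Nat.prime_three).1 (hr.dvd_of_dvd_pow (hr.dvd_of_dvd_pow h)))
      · exact hH ((hr.dvd_mul.1 h).resolve_left fun e => h2 ((Nat.prime_dvd_prime_iff_eq hr Nat.prime_two).1 e))
    · rcases hr.dvd_mul.1 h with h | h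
      · exact hQ ((hr.dvd_mul.1 h).resolve_left fun e =>
          h2 ((Nat.prime_dvd_prime_iff_eq hr Nat.prime_two).1 (hr.dvd_of_dvd_pow (show r ∣ 2 ^ 2 from e))))
      · exact hN h
  obtain ⟨U, hU1, hU2⟩ := key
  exact hU1 (hrz.trans (orderOf_dvd_of_pow_eq_one (CfsgLib.Known.SL2Mult.pow_index_eq_one σ ⟨hs, hc, hd⟩ U
    (fun w h hk hc' => CfsgLib.Known.SL2Mult.trivial_of_mult σ ⟨hs, hc, hd⟩ U
      (CfsgLib.Schur.hasCyclicSchurMultiplier_one_of_isCyclic _) w h hk hc') hz)))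

end CfsgLib.Lie.Ree
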