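/-
The two classes of tori of orders q ± r + 1 in a small Ree group.
-/
import Cfsg.Agent.Lib.Lie.Twisted.Ree.Census

set_option autoImplicit false

namespace CfsgLib.Lie.Ree

open Cfsg.Lie CfsgLib.Lie CfsgLib.Lie.Chev CfsgLib.Lie.Chev.TwGroups

theorem nSix_prime_ge {m p : ℕ} (hp : p.Prime) (hd : p ∣ nSix m) : 7 ≤ p := by
  obtain ⟨h2, h3, h6, hord, hq, -, -⟩ := six_prime hp hd
  by_contra hlt
  have := hp.two_le
  interval_cases p
  · exact h2 rfl
  · exact h3 rfl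
  · norm_num at hp
  · refine hord 4 (by norm_num) (by norm_num) ?_
    rw [Nat.pow_mod]
    obtain ⟨v, hv⟩ : ∃ v, v = 3 ^ (2 * m + 1) % 5 := ⟨_, rfl⟩
    have hlt5 : v < 5 := hv ▸ Nat.mod_lt _ (by norm_num)
    have hv0 : v ≠ 0 := fun e => hq (Nat.dvd_of_mod_eq_zero (hv ▸ e))
    rw [← hv]
    interval_cases v <;> simp at hv0 ⊢
  · norm_num at hp

theorem census_low {G n : ℤ} {i d : ℕ} (hG : 0 < G) (hi1 : 1 ≤ i) (hi : i ≤ 6) (hd : 7 ≤ d)
    (h : n * ((i : ℤ) * d) = G * ((d : ℤ) - 1)) : G ≤ 7 * n := by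
  have hi1' : (1 : ℤ) ≤ i := by exact_mod_cast hi1
  have hi' : (i : ℤ) ≤ 6 := by exact_mod_cast hi
  have hd' : (7 : ℤ) ≤ d := by exact_mod_cast hd
  have hn : 0 ≤ n := by
    by_contra hn
    have h1 : n * ((i : ℤ) * d) < 0 := mul_neg_of_neg_of_pos (by linarith) (mul_pos (by linarith) (by linarith))
    have h2 : 0 ≤ G * ((d : ℤ) - 1) := mul_nonneg hG.le (by linarith)
    linarith
  have h1 : n * ((i : ℤ) * d) ≤ n * (6 * d) :=
    mul_le_mul_of_nonneg_left (mul_le_mul_of_nonneg_right hi' (by linarith)) hn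
  have h2 : G * (6 * d) ≤ G * (7 * ((d : ℤ) - 1)) := mul_le_mul_of_nonneg_left (by linarith) hG.le
  refine le_of_mul_le_mul_right ?_ (show (0 : ℤ) < 6 * d by linarith)
  linarith

theorem census_two {e f : ℕ} {a b q : ℤ} (h1 : 1 ≤ e) (h2 : e ≤ 3) (h3 : 1 ≤ f) (h4 : f ≤ 6) (h5 : 7 ≤ a)
    (h6 : 7 ≤ b) (hq : 0 < q + 1)
    (h : (e : ℤ) * f * (a * b - q - 1) = 3 * (a - 1) * f * b + 3 * (b - 1) * e * a) : False := by
  have h1' : (1 : ℤ) ≤ e := by exact_mod_cast h1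
  have h2' : (e : ℤ) ≤ 3 := by exact_mod_cast h2
  have h3' : (1 : ℤ) ≤ f := by exact_mod_cast h3
  have h4' : (f : ℤ) ≤ 6 := by exact_mod_cast h4
  have u1 : (e : ℤ) * f * (a * b) ≤ 3 * f * (a * b) :=
    mul_le_mul_of_nonneg_right (mul_le_mul_of_nonneg_right h2' (by linarith)) (mul_nonneg (by linarith) (by linarith))
  have u2 : 1 * ((b - 1) * a) ≤ (e : ℤ) * ((b - 1) * a) :=
    mul_le_mul_of_nonneg_right h1' (mul_nonneg (by linarith) (by linarith))
  have u3 : (f : ℤ) * b ≤ 6 * b := mul_le_mul_of_nonneg_right h4' (by linarith)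
  have u4 : (b - 1) * 7 ≤ (b - 1) * a := mul_le_mul_of_nonneg_left h5 (by linarith)
  have u5 : 0 < (e : ℤ) * f * (q + 1) := mul_pos (mul_pos (by linarith) (by linarith)) hq
  linarith

variable {K : Type*} [Field K] [Fintype K] {m : ℕ} (hK : Fintype.card K = 3 ^ (2 * m + 1))
include hK

omit hK in
/-- a cyclic trivial-intersection torus with automizer of order six -/
structure SixTorus (A : Subgroup (RG K m)) : Prop where
  cyclic : IsCyclic ↥A
  dvd : Nat.card ↥A ∣ nSix m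
  card_norm : Nat.card ↥(Subgroup.normalizer (A : Set (RG K m))) = 6 * Nat.card ↥A
  cent : ∀ a ∈ A, a ≠ 1 → Subgroup.centralizer {a} = A
  norm_sub : ∀ A0 ≤ A, A0 ≠ ⊥ → Subgroup.normalizer (A0 : Set (RG K m)) = Subgroup.normalizer (A : Set (RG K m))
  cover : ∀ y : RG K m, Shares (Nat.card ↥A) (orderOf y) → ∃ g : RG K m, g⁻¹ * y * g ∈ A
  uniq : ∀ g : RG K m, ∀ a ∈ A, a ≠ 1 → g * a * g⁻¹ ∈ A → g ∈ Subgroup.normalizer (A : Set (RG K m))

theorem six_cover_count (hm : 1 ≤ m) {p : ℕ} (hp : p.Prime) (hd : p ∣ nSix m) {x : RG K m} (hx : orderOf x = p) :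
    ∃ e : ℕ, e ∣ 6 ∧ Nat.card ↥(Subgroup.normalizer (Subgroup.centralizer {x} : Set (RG K m))) =
        e * Nat.card ↥(Subgroup.centralizer {x}) ∧
      (Nat.card {g : RG K m // Shares (Nat.card ↥(Subgroup.centralizer {x})) (orderOf g)} : ℤ) *
        (e * Nat.card ↥(Subgroup.centralizer {x})) =
      (Nat.card (RG K m) : ℤ) * ((Nat.card ↥(Subgroup.centralizer {x}) : ℤ) - 1) := by
  obtain ⟨e, he, hN⟩ := six_normalizer_card hK hm hp hd hx
  refine ⟨e, he, hN, ?_⟩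
  obtain ⟨A, hA⟩ : ∃ A, A = Subgroup.centralizer {x} := ⟨_, rfl⟩
  have h := Count.card_of_cover A (Subgroup.normalizer (A : Set (RG K m))) (Shares (Nat.card ↥A))
    (fun g hg => by
      obtain ⟨r, hr, hrn, hro⟩ := hg
      subst hA
      exact conj_into_six hK hm hp hd hx hr hrn hro)
    (fun g t ht hP h => by
      subst hA
      refine six_normalizer_le hK hm hp hd hx ht (fun e => ?_) h
      obtain ⟨r, hr, -, hro⟩ := hP
      rw [e, orderOf_one] at hro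
      exact hr.one_lt.ne' (Nat.dvd_one.1 hro))
    (fun n hn t ht _ => (Subgroup.mem_normalizer_iff.1 hn t).1 ht)
  have e1 : ({t : RG K m | t ∈ A ∧ Shares (Nat.card ↥A) (orderOf t)} : Set (RG K m)) = (A : Set (RG K m)) \ {1} := by
    ext t
    constructor
    · rintro ⟨ht, r, hr, -, hro⟩
      refine ⟨ht, fun e => ?_⟩
      rw [Set.mem_singleton_iff.1 e, orderOf_one] at hro
      exact hr.one_lt.ne' (Nat.dvd_one.1 hro)
    · rintro ⟨ht, h1⟩
      exact ⟨ht, Shares.of_dvd (by rw [← Subgroup.orderOf_mk t ht]; exact orderOf_dvd_natCard _)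
        (fun e => h1 (orderOf_eq_one_iff.1 e))⟩
  rw [e1, Nat.card_coe_set_eq, Set.ncard_sdiff (Set.singleton_subset_iff.2 (one_mem A)) (Set.toFinite _),
    Set.ncard_singleton, ← Nat.card_coe_set_eq] at h
  subst hA
  rw [hN] at h
  have hpos : 1 ≤ Nat.card ↥(Subgroup.centralizer {x}) := Nat.card_pos
  rw [← Nat.cast_mul, ← Nat.cast_one, ← Nat.cast_sub hpos, ← Nat.cast_mul]
  exact congrArg Nat.cast h

theorem six_torus_mk (hm : 1 ≤ m) {p : ℕ} (hp : p.Prime) (hd : p ∣ nSix m) {x : RG K m} (hx : orderOf x = p)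
    (he : Nat.card ↥(Subgroup.normalizer (Subgroup.centralizer {x} : Set (RG K m))) =
      6 * Nat.card ↥(Subgroup.centralizer {x})) : SixTorus (Subgroup.centralizer {x}) where
  cyclic := (centralizer_six hK hm hp hd hx).1
  dvd := card_six_dvd hK hm hp hd hx
  card_norm := he
  cent _ ha h1 := six_centralizer hK hm hp hd hx ha h1
  norm_sub _ hA h := six_normalizer_sub hK hm hp hd hx hA h
  cover _ := fun ⟨_, hr, hrn, hro⟩ => conj_into_six hK hm hp hd hx hr hrn hro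
  uniq _ _ ha h1 h := six_normalizer_le hK hm hp hd hx ha h1 h

theorem six_disjoint (hm : 1 ≤ m) {p p' : ℕ} (hp : p.Prime) (hd : p ∣ nSix m) {x : RG K m} (hx : orderOf x = p)
    (hp' : p'.Prime) (hd' : p' ∣ nSix m) {x' : RG K m} (hx' : orderOf x' = p')
    (hnot : ¬ p' ∣ Nat.card ↥(Subgroup.centralizer {x})) :
    Nat.Coprime (Nat.card ↥(Subgroup.centralizer {x})) (Nat.card ↥(Subgroup.centralizer {x'})) := by
  refine Nat.coprime_of_dvd fun r hr hrA hrB => hnot ?_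
  have : Fact r.Prime := ⟨hr⟩
  obtain ⟨w, hw⟩ := exists_prime_orderOf_dvd_card' r hrB
  have hwo : orderOf (w : RG K m) = r := (Subgroup.orderOf_coe w).trans hw
  have hw1 : (w : RG K m) ≠ 1 := fun e => by rw [e, orderOf_one] at hwo; exact hr.one_lt.ne hwo
  obtain ⟨g, hg⟩ := conj_into_six hK hm hp hd hx hr hrA (y := (w : RG K m)) (hwo ▸ dvd_rfl)
  have hg1 : g⁻¹ * (w : RG K m) * g ≠ 1 := fun e => hw1 (by
    calc (w : RG K m) = g * (g⁻¹ * (w : RG K m) * g) * g⁻¹ := by group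
      _ = 1 := by rw [e]; group)
  have h1 := card_centralizer_conj g⁻¹ (w : RG K m)
  rw [inv_inv, six_centralizer hK hm hp hd hx hg hg1, six_centralizer hK hm hp' hd' hx' w.2 hw1] at h1
  rw [h1, ← hx', ← Subgroup.orderOf_mk x' (Subgroup.mem_centralizer_singleton_iff.2 rfl)]
  exact orderOf_dvd_natCard _

theorem six_pair (hm : 1 ≤ m) : ∃ A B : Subgroup (RG K m), SixTorus A ∧ SixTorus B ∧
    Nat.card ↥A * Nat.card ↥B = nSix m ∧ Nat.card ↥A + Nat.card ↥B = 2 * (3 ^ (2 * m + 1) + 1) := by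
  classical
  have : Fintype (RG K m) := Fintype.ofFinite _
  obtain ⟨N, hN⟩ : ∃ N, N = nSix m := ⟨_, rfl⟩
  have hN703 : 703 ≤ N := hN ▸ nSix_gt m hm
  obtain ⟨q, hq⟩ : ∃ q : ℤ, q = 3 ^ (2 * m + 1) := ⟨_, rfl⟩
  have hq27 : (27 : ℤ) ≤ q := by rw [hq]; exact le_trans (by norm_num) (pow_le_pow_right₀ (by norm_num : (1 : ℤ) ≤ 3) (by omega : 3 ≤ 2 * m + 1))
  have hNz : (N : ℤ) = q ^ 2 - q + 1 := by
    rw [hN, hq, nSix, Nat.cast_add, Nat.cast_mul, Nat.cast_sub (Nat.one_le_pow _ _ three_pos)]; push_cast; ring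
  obtain ⟨G, hG⟩ : ∃ G : ℤ, G = (Nat.card (RG K m) : ℤ) := ⟨_, rfl⟩
  have hGpos : 0 < G := hG ▸ by exact_mod_cast Nat.card_pos
  have hS := card_six hK hm
  rw [← hG, ← hq, ← hN] at hS
  obtain ⟨S, hSd⟩ : ∃ S : ℤ, S = (Nat.card {g : RG K m // Shares N (orderOf g)} : ℤ) := ⟨_, rfl⟩
  rw [← hSd] at hS
  -- a torus, with its count
  have torus : ∀ p : ℕ, p.Prime → p ∣ N → ∃ (x : RG K m) (e a : ℕ) (n : ℤ), orderOf x = p ∧
      a = Nat.card ↥(Subgroup.centralizer {x}) ∧ p ∣ a ∧ a ∣ N ∧ 7 ≤ a ∧ e ∣ 6 ∧ 1 ≤ e ∧ e ≤ 6 ∧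
      Nat.card ↥(Subgroup.normalizer (Subgroup.centralizer {x} : Set (RG K m))) = e * a ∧
      n = (Nat.card {g : RG K m // Shares a (orderOf g)} : ℤ) ∧ n * ((e : ℤ) * a) = G * ((a : ℤ) - 1) := by
    intro p hp hd
    rw [hN] at hd
    obtain ⟨x, hx⟩ := exists_orderOf_nSix hK hp hd
    obtain ⟨e, he, hcard, hcount⟩ := six_cover_count hK hm hp hd hx
    have hpa : p ∣ Nat.card ↥(Subgroup.centralizer {x}) := by
      rw [← hx, ← Subgroup.orderOf_mk x (Subgroup.mem_centralizer_singleton_iff.2 rfl)]; exact orderOf_dvd_natCard _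
    exact ⟨x, e, _, _, hx, rfl, hpa, hN ▸ card_six_dvd hK hm hp hd hx,
      (nSix_prime_ge hp hd).trans (Nat.le_of_dvd Nat.card_pos hpa), he, Nat.pos_of_dvd_of_pos he (by norm_num),
      Nat.le_of_dvd (by norm_num) he, hcard, rfl, hG ▸ hcount⟩
  obtain ⟨p, hp, hpN⟩ := Nat.exists_prime_and_dvd (show N ≠ 1 by omega)
  obtain ⟨x, e, a, nA, hx, ha, hpa, haN, ha7, he6, he1, hele, hNA, hnA, hcA⟩ := torus p hp hpN
  have other : ∀ c : ℕ, c ∣ N → c ≠ N → (∀ r : ℕ, r.Prime → r ∣ c → ¬ r ∣ N / c) →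
      ∃ r : ℕ, r.Prime ∧ r ∣ N ∧ ¬ r ∣ c := by
    intro c hc hne hcop
    have hdiv : N / c ≠ 1 := fun h => hne (by
      have := Nat.div_mul_cancel hc
      rw [h, one_mul] at this
      exact this)
    obtain ⟨r, hr, hrd⟩ := Nat.exists_prime_and_dvd hdiv
    exact ⟨r, hr, hrd.trans (Nat.div_dvd_of_dvd hc), fun h => hcop r hr h hrd⟩
  have hall : ∀ r : ℕ, r.Prime → ∀ (y : RG K m) (p' : ℕ), p'.Prime → p' ∣ N → orderOf y = p' →
      r ∣ Nat.card ↥(Subgroup.centralizer {y}) → ¬ r ∣ N / Nat.card ↥(Subgroup.centralizer {y}) := by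
    intro r hr y p' hp' hd' hy hrA hrd
    rw [hN] at hd' hrd
    have hc := card_six_dvd hK hm hp' hd' hy
    refine six_index hK hm hp' hd' hy hr hrA (hrd.trans ?_)
    have h1 := (Subgroup.centralizer {y}).card_mul_index
    refine (Nat.mul_dvd_mul_iff_left (Nat.card_pos (α := ↥(Subgroup.centralizer {y})))).1 ?_
    rw [h1, Nat.mul_div_cancel' hc, card_RG' hK]
    exact Dvd.dvd.mul_left (Dvd.dvd.mul_left dvd_rfl _) _
  by_cases haeq : a = N
  · exfalso
    rw [haeq, ← hSd] at hnA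
    rw [haeq, hnA] at hcA
    have key : (e : ℤ) * (q ^ 2 - 2 * q) = 3 * ((N : ℤ) - 1) := by
      refine mul_left_cancel₀ hGpos.ne' ?_
      linear_combination (-(e : ℤ)) * hS + 3 * hcA
    rw [hNz] at key
    have : (e : ℤ) * (q - 2) = 3 * (q - 1) := mul_left_cancel₀ (by omega : q ≠ 0) (by linear_combination key)
    interval_cases e <;> first | omega | (norm_num at he6)
  obtain ⟨p', hp', hp'N, hp'a⟩ := other a haN haeq (fun r hr h => ha ▸ hall r hr x p hp hpN hx (ha ▸ h))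
  obtain ⟨y, f, b, nB, hy, hb, hpb, hbN, hb7, hf6, hf1, hfle, hNB, hnB, hcB⟩ := torus p' hp' hp'N
  have hcop : Nat.Coprime a b := ha ▸ hb ▸ six_disjoint hK hm hp (hN ▸ hpN) hx hp' (hN ▸ hp'N) hy (ha ▸ hp'a)
  have hab : a * b ∣ N := hcop.mul_dvd_of_dvd_of_dvd haN hbN
  have excl : ∀ {c d : ℕ} {g : RG K m}, ∀ (z : RG K m) (pz : ℕ), pz.Prime → pz ∣ N → orderOf z = pz →
      c = Nat.card ↥(Subgroup.centralizer {z}) → Nat.Coprime c d →
      Shares c (orderOf g) → ¬ Shares d (orderOf g) := by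
    rintro c d g z pz hpz hzN hz hc hcd ⟨r, hr, hrc, hro⟩ ⟨s, hs, hsd, hso⟩
    obtain ⟨h, hh⟩ := conj_into_six hK hm hpz (hN ▸ hzN) hz hr (hc ▸ hrc) hro
    have ho : orderOf (h⁻¹ * g * h) = orderOf g := by simpa using (MulEquiv.orderOf_eq (MulAut.conj h⁻¹) g)
    have : s ∣ c := hso.trans (ho ▸ hc ▸ Subgroup.orderOf_mk _ hh ▸ orderOf_dvd_natCard _)
    exact hs.one_lt.ne' (Nat.eq_one_of_dvd_coprimes hcd this hsd)
  have hcount : ∀ P : RG K m → Prop, (Nat.card {g : RG K m // P g} : ℤ) = ∑ g : RG K m, if P g then 1 else 0 := by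
    intro P
    rw [Nat.card_eq_fintype_card, Fintype.card_subtype, Finset.sum_boole]
  by_cases habN : a * b = N
  swap
  · exfalso
    obtain ⟨p'', hp'', hp''N, hp''ab⟩ := other (a * b) hab habN (fun r hr h hd => by
      rcases hr.dvd_mul.1 h with h | h
      · exact (ha ▸ hall r hr x p hp hpN hx (ha ▸ h)) (hd.trans (Nat.div_dvd_div_left hab (dvd_mul_right a b)))
      · exact (hb ▸ hall r hr y p' hp' hp'N hy (hb ▸ h)) (hd.trans (Nat.div_dvd_div_left hab (dvd_mul_left b a))))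
    obtain ⟨z, g', c, nC, hz, hc, hpc, hcN, hc7, -, hg1, hgle, -, hnC, hcC⟩ := torus p'' hp'' hp''N
    have hac : Nat.Coprime a c := ha ▸ hc ▸
      six_disjoint hK hm hp (hN ▸ hpN) hx hp'' (hN ▸ hp''N) hz (ha ▸ fun h => hp''ab (h.mul_right b))
    have hbc : Nat.Coprime b c := hb ▸ hc ▸
      six_disjoint hK hm hp' (hN ▸ hp'N) hy hp'' (hN ▸ hp''N) hz (hb ▸ fun h => hp''ab (h.mul_left a))
    have hle : nA + nB + nC ≤ S := by
      rw [hnA, hnB, hnC, hSd, hcount, hcount, hcount, hcount, ← Finset.sum_add_distrib, ← Finset.sum_add_distrib]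
      refine Finset.sum_le_sum fun g _ => ?_
      have up : ∀ {d}, d ∣ N → Shares d (orderOf g) → Shares N (orderOf g) :=
        fun hd ⟨r, hr, hrd, hro⟩ => ⟨r, hr, hrd.trans hd, hro⟩
      by_cases hA : Shares a (orderOf g)
      · simp [hA, excl x p hp hpN hx ha hcop hA, excl x p hp hpN hx ha hac hA, up haN hA]
      by_cases hB : Shares b (orderOf g)
      · simp [hA, hB, excl y p' hp' hp'N hy hb hbc hB, up hbN hB]
      by_cases hC : Shares c (orderOf g)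
      · simp [hA, hB, hC, up hcN hC]
      · simp only [hA, hB, hC, if_false]
        split <;> simp
    have h1 := census_low hGpos he1 hele ha7 hcA
    have h2 := census_low hGpos hf1 hfle hb7 hcB
    have h3 := census_low hGpos hg1 hgle hc7 hcC
    have hlt : (N : ℤ) * (3 * S) < (N : ℤ) * G := by
      rw [show (N : ℤ) * (3 * S) = 3 * N * S by ring, hS, mul_comm (N : ℤ)]
      exact mul_lt_mul_of_pos_left (by rw [hNz]; linarith) hGpos
    have := lt_of_mul_lt_mul_left hlt (Int.natCast_nonneg N)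
    linarith
  have hsum : nA + nB = S := by
    rw [hnA, hnB, hSd, hcount, hcount, hcount, ← Finset.sum_add_distrib]
    refine Finset.sum_congr rfl fun g _ => ?_
    by_cases hA : Shares a (orderOf g)
    · obtain ⟨r, hr, hra, hro⟩ := hA
      have hA' : Shares a (orderOf g) := ⟨r, hr, hra, hro⟩
      simp [hA', excl x p hp hpN hx ha hcop hA', show Shares N (orderOf g) from ⟨r, hr, hra.trans haN, hro⟩]
    by_cases hB : Shares b (orderOf g)
    · obtain ⟨r, hr, hrb, hro⟩ := hB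
      simp [hA, show Shares b (orderOf g) from ⟨r, hr, hrb, hro⟩,
        show Shares N (orderOf g) from ⟨r, hr, hrb.trans hbN, hro⟩]
    · have : ¬ Shares N (orderOf g) := by
        rintro ⟨r, hr, hrN, hro⟩
        rcases hr.dvd_mul.1 (habN ▸ hrN) with h | h
        · exact hA ⟨r, hr, h, hro⟩
        · exact hB ⟨r, hr, h, hro⟩
      simp [hA, hB, this]
  have habz : (a : ℤ) * b = N := by exact_mod_cast habN
  have key : (e : ℤ) * f * (q ^ 2 - 2 * q) = 3 * ((a : ℤ) - 1) * f * b + 3 * ((b : ℤ) - 1) * e * a := by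
    refine mul_left_cancel₀ hGpos.ne' ?_
    linear_combination (-(e : ℤ) * f) * hS + (3 * (f : ℤ) * b) * hcA + (3 * (e : ℤ) * a) * hcB +
      (-3 * (e : ℤ) * f * N) * hsum + (-3 * (e : ℤ) * f * (nA + nB)) * habz
  have ha7' : (7 : ℤ) ≤ a := by exact_mod_cast ha7
  have hb7' : (7 : ℤ) ≤ b := by exact_mod_cast hb7
  have h66 : e = 6 ∧ f = 6 := by
    have hd6 : ∀ i : ℕ, i ∣ 6 → i ≤ 3 ∨ i = 6 := fun i h => by
      have := Nat.le_of_dvd (by norm_num) h
      interval_cases i <;> revert h <;> decide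
    have hqq : (q ^ 2 - 2 * q) = (a : ℤ) * b - q - 1 := by rw [habz, hNz]; ring
    rw [hqq] at key
    refine ⟨(hd6 e he6).resolve_left fun h => census_two he1 h hf1 hfle ha7' hb7' (by linarith : (0 : ℤ) < q + 1) key,
      (hd6 f hf6).resolve_left fun h => census_two (a := (b : ℤ)) (b := (a : ℤ)) hf1 h he1 hele hb7' ha7'
        (by linarith : (0 : ℤ) < q + 1) (by linear_combination key)⟩
  obtain ⟨rfl, rfl⟩ := h66
  refine ⟨_, _, six_torus_mk hK hm hp (hN ▸ hpN) hx (ha ▸ hNA), six_torus_mk hK hm hp' (hN ▸ hp'N) hy (hb ▸ hNB),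
    by rw [← ha, ← hb, habN, hN], ?_⟩
  rw [← ha, ← hb]
  have h : (18 : ℤ) * ((a : ℤ) + b) = 18 * (2 * (q + 1)) := by
    push_cast at key
    linear_combination key + 36 * hNz + 36 * habz
  have h' : (a : ℤ) + b = 2 * (q + 1) := by linarith
  rw [hq] at h'
  exact_mod_cast h'

/-- the tori of orders `q - r + 1` and `q + r + 1` -/
theorem six_tori (hm : 1 ≤ m) : ∃ A B : Subgroup (RG K m), SixTorus A ∧ SixTorus B ∧
    Nat.card ↥A = 3 ^ (2 * m + 1) - 3 ^ (m + 1) + 1 ∧ Nat.card ↥B = 3 ^ (2 * m + 1) + 3 ^ (m + 1) + 1 ∧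
    Nat.card ↥A * Nat.card ↥B = nSix m := by
  obtain ⟨A, B, hA, hB, hmul, hadd⟩ := six_pair hK hm
  obtain ⟨q, hq⟩ : ∃ q, q = 3 ^ (2 * m + 1) := ⟨_, rfl⟩
  obtain ⟨r, hr⟩ : ∃ r, r = 3 ^ (m + 1) := ⟨_, rfl⟩
  have hrq : r * r = 3 * q := by rw [hr, hq, ← pow_add, ← pow_succ']; congr 1; omega
  have hle : r ≤ q := hr ▸ hq ▸ Nat.pow_le_pow_right three_pos (by omega)
  rw [nSix, ← hq] at hmul
  rw [← hq] at hadd
  rw [← hq, ← hr]
  have hq1 : 1 ≤ q := hq ▸ Nat.one_le_pow _ _ three_pos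
  have key : Nat.card ↥A = q - r + 1 ∨ Nat.card ↥A = q + r + 1 := by
    have hsq : ((Nat.card ↥A : ℤ) - (q + 1)) ^ 2 = (r : ℤ) ^ 2 := by
      have h1 : (Nat.card ↥A : ℤ) * Nat.card ↥B = q * (q - 1) + 1 := by
        rw [← Nat.cast_one, ← Nat.cast_sub hq1]; exact_mod_cast hmul
      have h2 : (Nat.card ↥A : ℤ) + Nat.card ↥B = 2 * (q + 1) := by exact_mod_cast hadd
      have h3 : (r : ℤ) * r = 3 * q := by exact_mod_cast hrq
      linear_combination (Nat.card ↥A : ℤ) * h2 - h1 - h3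
    rcases sq_eq_sq_iff_eq_or_eq_neg.1 hsq with h | h
    · right; omega
    · left; omega
  rcases key with h | h
  · exact ⟨A, B, hA, hB, h, by omega, by rw [hmul, nSix, ← hq]⟩
  · exact ⟨B, A, hB, hA, by omega, h, by rw [mul_comm, hmul, nSix, ← hq]⟩

end CfsgLib.Lie.Ree
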