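/-
Orders, centralisers and conjugacy of the tori of a small Ree group.
-/
import Cfsg.Agent.Lib.Lie.Twisted.Ree.SixTori

set_option autoImplicit false

namespace CfsgLib.Lie.Ree

open Cfsg.Lie CfsgLib.Lie CfsgLib.Lie.Chev CfsgLib.Lie.Chev.TwGroups

variable {K : Type*} [Field K] [Fintype K] {m : ℕ} (hK : Fintype.card K = 3 ^ (2 * m + 1))
include hK

theorem SixTorus.mem {A : Subgroup (RG K m)} (hA : SixTorus A) {a : RG K m} (ha : a ∈ A) (h1 : a ≠ 1)
    {g : RG K m} (hg : g * a = a * g) : g ∈ A :=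
  hA.cent a ha h1 ▸ Subgroup.mem_centralizer_singleton_iff.2 hg

theorem SixTorus.count {A : Subgroup (RG K m)} (hA : SixTorus A) {i : ℕ} (hi : 1 < i) (hd : i ∣ Nat.card ↥A) :
    6 * Nat.card {g : RG K m // orderOf g = i} * Nat.card ↥A = Nat.card (RG K m) * Nat.totient i := by
  have h := Count.card_of_cover A (Subgroup.normalizer (A : Set (RG K m))) (· = i)
    (fun g hg => hA.cover g (Shares.of_dvd (by rw [hg]; exact hd) (by omega)))
    (fun g t ht hti h => hA.uniq g t ht (fun e => by rw [e, orderOf_one] at hti; omega) h)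
    (fun n hn t ht _ => (Subgroup.mem_normalizer_iff.1 hn t).1 ht)
  rw [hA.card_norm, Count.card_orderOf_eq hA.cyclic hd] at h
  rw [← h]; ring

theorem count_half (hm : 1 ≤ m) {i : ℕ} (hi : 2 < i) (hd : i ∣ 3 ^ (2 * m + 1) - 1) :
    2 * Nat.card {g : RG K m // orderOf g = i} =
      Nat.totient i * (3 ^ (2 * m + 1)) ^ 3 * ((3 ^ (2 * m + 1)) ^ 3 + 1) := by
  have hns : Shares (nH m) i := by
    by_contra hns
    rw [← (nH_spec m).1] at hd
    have := Nat.le_of_dvd two_pos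
      ((Nat.Coprime.dvd_mul_right (Nat.coprime_of_dvd fun r hr h h' => hns ⟨r, hr, h', h⟩)).1 hd)
    omega
  have h := card_cover_HR hK hm (· = i) (fun o _ ho h2 => by have := Nat.le_of_dvd two_pos h2; omega)
    (fun o ho => ho ▸ hns)
  rw [Count.card_orderOf_eq (HR_cyclic hK) (by rwa [card_HR hK]), card_RG hK] at h
  have hpos : 0 < 3 ^ (2 * m + 1) - 1 := by rw [← card_HR hK]; exact Nat.card_pos
  exact Nat.eq_of_mul_eq_mul_right hpos (by linarith)

theorem TD_orderOf_eq {i : ℕ} (hd : i ∣ nQ m) :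
    ({t : RG K m | t ∈ TD hK ∧ orderOf t = i} : Set (RG K m)) = {t | t ∈ A1 hK ∧ orderOf t = i} := by
  ext t
  refine ⟨fun h => ⟨mem_A1_of_odd hK h.1 ?_, h.2⟩, fun h => ⟨h.1.1, h.2⟩⟩
  rw [h.2]
  exact Odd.of_dvd_nat (Nat.odd_iff.2 (nQ_spec m).2) hd

theorem count_quarter (hm : 1 ≤ m) {i : ℕ} (hi : 1 < i) (hd : i ∣ nQ m) :
    6 * Nat.card {g : RG K m // orderOf g = i} =
      Nat.totient i * (3 ^ (2 * m + 1)) ^ 3 * (3 ^ (2 * m + 1) - 1) * nSix m := by
  have h := card_cover_TD hK hm (· = i) (fun o ho => ho ▸ Shares.of_dvd hd (by omega))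
  rw [TD_orderOf_eq hK hd, Count.card_orderOf_eq (A1_cyclic hK) (by rwa [card_A1 hK]), card_RG' hK] at h
  refine Nat.eq_of_mul_eq_mul_right (show 0 < 3 ^ (2 * m + 1) + 1 by omega) ?_
  linarith

theorem TE_mul_A1_order {z a : RG K m} (hz : z ∈ TE hK) (h1 : z ≠ 1) (ha : a ∈ A1 hK) :
    orderOf (z * a) = 2 * orderOf a := by
  have : Fact (Nat.Prime 2) := ⟨Nat.prime_two⟩
  have ho : orderOf z = 2 := orderOf_eq_prime (by rw [sq]; exact hz.2) h1
  rw [Commute.orderOf_mul_eq_mul_orderOf_of_coprime (TD_comm hK hz.1 ha.1), ho]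
  rw [ho]
  refine Nat.Coprime.coprime_dvd_right (orderOf_dvd_of_pow_eq_one ha.2) ?_
  exact Nat.coprime_two_left.2 (Nat.odd_iff.2 (nQ_spec m).2)

theorem card_TD_double {i : ℕ} (hd : i ∣ nQ m) :
    Nat.card ({t : RG K m | t ∈ TD hK ∧ orderOf t = 2 * i} : Set (RG K m)) = 3 * Nat.totient i := by
  have hj : Nat.card ↥((TE hK : Set (RG K m)) \ {1}) = 3 := by
    rw [Nat.card_coe_set_eq, Set.ncard_sdiff (Set.singleton_subset_iff.2 (one_mem _)) (Set.toFinite _),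
      Set.ncard_singleton, ← Nat.card_coe_set_eq]
    show Nat.card ↥(TE hK) - 1 = 3
    rw [card_TE hK]
  refine Eq.trans ?_ (congrArg (· * Nat.totient i) hj)
  rw [← Count.card_orderOf_eq (A1_cyclic hK) (by rwa [card_A1 hK] : i ∣ Nat.card ↥(A1 hK)), ← Nat.card_prod]
  symm
  refine Nat.card_eq_of_bijective (fun p => ⟨(p.1 : RG K m) * (p.2 : RG K m), mul_mem p.1.2.1.1 p.2.2.1.1, ?_⟩)
    ⟨?_, ?_⟩
  · rw [TE_mul_A1_order hK p.1.2.1 p.1.2.2 p.2.2.1, p.2.2.2]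
  · rintro ⟨z, a⟩ ⟨z', a'⟩ e
    simp only [Subtype.mk.injEq] at e
    have hw : (z' : RG K m)⁻¹ * z = a' * (a : RG K m)⁻¹ := by
      rw [eq_mul_inv_iff_mul_eq, mul_assoc, e, inv_mul_cancel_left]
    have h1 : (z' : RG K m)⁻¹ * z = 1 :=
      sq_eq_one_A1 hK (hw ▸ mul_mem a'.2.1 (inv_mem a.2.1)) (mul_mem (inv_mem z'.2.1) z.2.1).2
    have hzz : z = z' := Subtype.ext (inv_mul_eq_one.1 h1).symm
    subst hzz
    exact Prod.ext rfl (Subtype.ext (mul_left_cancel e))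
  · rintro ⟨t, ht, ho⟩
    obtain ⟨z, hz, a, ha, h2, e⟩ := TD_decomp hK ht
    have hz1 : z ≠ 1 := by
      rintro rfl
      rw [one_mul] at e
      subst e
      have h' := orderOf_dvd_of_pow_eq_one ha.2
      rw [ho] at h'
      have := (Nat.dvd_mul_right 2 i).trans h'
      have := (nQ_spec m).2
      omega
    have hoa : orderOf a = i := by
      have := TE_mul_A1_order hK (z := z) ⟨hz, h2⟩ hz1 ha
      rw [← e, ho] at this
      omega
    exact ⟨(⟨z, ⟨hz, h2⟩, hz1⟩, ⟨a, ha, hoa⟩), Subtype.ext e.symm⟩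

theorem count_double (hm : 1 ≤ m) {i : ℕ} (hi : 1 < i) (hd : i ∣ nQ m) :
    2 * Nat.card {g : RG K m // orderOf g = 2 * i} =
      Nat.totient i * (3 ^ (2 * m + 1)) ^ 3 * (3 ^ (2 * m + 1) - 1) * nSix m := by
  have h := card_cover_TD hK hm (· = 2 * i) (fun o ho => by
    obtain ⟨r, hr, hrn, hri⟩ := Shares.of_dvd hd (show i ≠ 1 by omega)
    exact ho ▸ ⟨r, hr, hrn, hri.mul_left 2⟩)
  rw [card_TD_double hK hd, card_RG' hK] at h
  refine Nat.eq_of_mul_eq_mul_right (show 0 < 3 * (3 ^ (2 * m + 1) + 1) by omega) ?_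
  linarith

/-- a finite group contains elements of every order dividing an occurring order -/
theorem exists_orderOf_of_dvd {g : RG K m} {d : ℕ} (hd : d ∣ orderOf g) : ∃ x : RG K m, orderOf x = d :=
  let ⟨c, hc⟩ := exists_pow_prime_order g hd
  ⟨g ^ c, hc⟩

theorem exists_orderOf_six : ∃ g : RG K m, orderOf g = 6 := by
  rcases orderOf_uEl_jEl hK (0 : K) 1 0 with ⟨-, h⟩ | ⟨h, -⟩
  · simp at h
  · exact ⟨_, h⟩

theorem exists_orderOf_nine : ∃ g : RG K m, orderOf g = 9 := by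
  rcases orderOf_uEl hK (1 : K) 0 0 with ⟨-, h, -⟩ | ⟨-, h, -⟩ | ⟨h, -⟩
  · simp at h
  · simp at h
  · exact ⟨_, h⟩

/-- cyclic subgroups of one order inside a cover are conjugate -/
theorem conj_of_cover {T A : Subgroup (RG K m)} {B : Subgroup (RG K m)} (hT : IsCyclic ↥T)
    (hA : IsCyclic ↥A) (hB : IsCyclic ↥B) (h : Nat.card ↥A = Nat.card ↥B)
    (hcover : ∀ y : RG K m, orderOf y = Nat.card ↥A → ∃ g : RG K m, g⁻¹ * y * g ∈ T) :
    ∃ g : RG K m, B = A.map (MulAut.conj g).toMonoidHom := by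
  have main : ∀ C : Subgroup (RG K m), IsCyclic ↥C → Nat.card ↥C = Nat.card ↥A →
      ∃ g : RG K m, C.map (MulAut.conj g⁻¹).toMonoidHom ≤ T := by
    intro C hC hc
    obtain ⟨z, hz⟩ := isCyclic_iff_exists_zpowers_eq_top.1 hC
    have ho : orderOf (z : RG K m) = Nat.card ↥A := by
      rw [Subgroup.orderOf_coe, orderOf_eq_card_of_forall_mem_zpowers (by rw [hz]; exact Subgroup.mem_top), hc]
    obtain ⟨g, hg⟩ := hcover _ ho
    refine ⟨g, ?_⟩
    rintro _ ⟨x, hx, rfl⟩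
    obtain ⟨k, hk⟩ := Subgroup.mem_zpowers_iff.1 (show (⟨x, hx⟩ : ↥C) ∈ Subgroup.zpowers z by
      rw [hz]; exact Subgroup.mem_top _)
    have hxk : x = (z : RG K m) ^ k := by rw [← SubgroupClass.coe_zpow, hk]
    rw [hxk, MulEquiv.coe_toMonoidHom, map_zpow, MulAut.conj_apply, inv_inv]
    exact zpow_mem hg k
  obtain ⟨g, hg⟩ := main A hA rfl
  obtain ⟨g', hg'⟩ := main B hB h.symm
  refine ⟨g' * g⁻¹, ?_⟩
  have e := Count.eq_of_card_eq hT hg hg' (by
    rw [← Nat.card_congr (A.equivMapOfInjective _ (MulAut.conj g⁻¹).injective).toEquiv,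
      ← Nat.card_congr (B.equivMapOfInjective _ (MulAut.conj g'⁻¹).injective).toEquiv, h])
  have e' := congrArg (Subgroup.map (MulAut.conj g').toMonoidHom) e
  rw [Subgroup.map_map, Subgroup.map_map] at e'
  have c1 : (MulAut.conj g').toMonoidHom.comp (MulAut.conj g'⁻¹).toMonoidHom = MonoidHom.id (RG K m) := by
    ext x; simp [mul_assoc]
  have c2 : (MulAut.conj g').toMonoidHom.comp (MulAut.conj g⁻¹).toMonoidHom = (MulAut.conj (g' * g⁻¹)).toMonoidHom := by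
    ext x; simp [mul_assoc]
  rw [c1, c2, Subgroup.map_id] at e'
  exact e'.symm

theorem cover_half (hm : 1 ≤ m) {d : ℕ} (hd : d ∣ nH m) {y : RG K m} (hy : orderOf y = d) :
    ∃ g : RG K m, g⁻¹ * y * g ∈ AH hK := by
  by_cases h1 : d = 1
  · exact ⟨1, by rw [orderOf_eq_one_iff.1 (hy.trans h1)]; simp⟩
  obtain ⟨r, hr, hrd⟩ := Nat.exists_prime_and_dvd h1
  obtain ⟨g, hg⟩ := exists_conj_HR hK hm hr (hrd.trans hd) (y := y) (hy ▸ hrd)
  refine ⟨g, hg, orderOf_dvd_iff_pow_eq_one.1 ?_⟩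
  have ho : orderOf (g⁻¹ * y * g) = orderOf y := by simpa using (MulEquiv.orderOf_eq (MulAut.conj g⁻¹) y)
  rw [ho, hy]; exact hd

theorem cover_quarter (hm : 1 ≤ m) {d : ℕ} (hd : d ∣ nQ m) {y : RG K m} (hy : orderOf y = d) :
    ∃ g : RG K m, g⁻¹ * y * g ∈ A1 hK := by
  by_cases h1 : d = 1
  · exact ⟨1, by rw [orderOf_eq_one_iff.1 (hy.trans h1)]; simp⟩
  obtain ⟨r, hr, hrd⟩ := Nat.exists_prime_and_dvd h1
  obtain ⟨g, hg⟩ := exists_conj_TD hK hm hr (hrd.trans hd) (y := y) (hy ▸ hrd)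
  refine ⟨g, mem_A1_of_odd hK hg ?_⟩
  have ho : orderOf (g⁻¹ * y * g) = orderOf y := by simpa using (MulEquiv.orderOf_eq (MulAut.conj g⁻¹) y)
  rw [ho, hy]
  exact Odd.of_dvd_nat (Nat.odd_iff.2 (nQ_spec m).2) hd

omit hK in
theorem SixTorus.cover_order {A : Subgroup (RG K m)} (hA : SixTorus A) {d : ℕ} (hd : d ∣ Nat.card ↥A) {y : RG K m}
    (hy : orderOf y = d) : ∃ g : RG K m, g⁻¹ * y * g ∈ A := by
  by_cases h1 : d = 1
  · exact ⟨1, by rw [orderOf_eq_one_iff.1 (hy.trans h1)]; simp⟩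
  exact hA.cover y (hy ▸ Shares.of_dvd hd h1)

theorem centralizer_map_conj (A : Subgroup (RG K m)) (g : RG K m) :
    Subgroup.centralizer ((A.map (MulAut.conj g).toMonoidHom : Subgroup (RG K m)) : Set (RG K m)) =
      (Subgroup.centralizer (A : Set (RG K m))).map (MulAut.conj g).toMonoidHom := by
  ext x
  rw [Subgroup.mem_centralizer_iff, Subgroup.mem_map_equiv, Subgroup.mem_centralizer_iff, MulAut.conj_symm_apply]
  constructor
  · intro h a ha
    have e := h _ (Subgroup.mem_map_of_mem _ ha)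
    simp only [MulEquiv.coe_toMonoidHom, MulAut.conj_apply] at e
    calc a * (g⁻¹ * x * g) = g⁻¹ * (g * a * g⁻¹ * x) * g := by group
      _ = g⁻¹ * (x * (g * a * g⁻¹)) * g := by rw [e]
      _ = _ := by group
  · rintro h _ ⟨a, ha, rfl⟩
    simp only [MulEquiv.coe_toMonoidHom, MulAut.conj_apply]
    calc g * a * g⁻¹ * x = g * (a * (g⁻¹ * x * g)) * g⁻¹ := by group
      _ = g * (g⁻¹ * x * g * a) * g⁻¹ := by rw [h a ha]
      _ = _ := by group

end CfsgLib.Lie.Ree
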