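/-
Solvable subgroups of a small Ree group.
-/
import Cfsg.Agent.Lib.Lie.Twisted.Ree.Tori

set_option autoImplicit false

namespace CfsgLib.Lie.Ree

open Cfsg.Lie CfsgLib.Lie CfsgLib.Lie.Chev CfsgLib.Lie.Chev.TwGroups
open scoped MatrixGroups

/-- an invariant elementary abelian subgroup inside an invariant solvable subgroup -/
theorem exists_elem_invariant {G : Type*} [Group G] [Finite G] {S T : Subgroup G}
    (hn : S ≤ Subgroup.normalizer (T : Set G)) (hT : T ≠ ⊥) (hs : Group.IsSolvable ↥T) :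
    ∃ (l : ℕ) (E : Subgroup G), l.Prime ∧ E ≤ T ∧ E ≠ ⊥ ∧ (∀ a ∈ E, ∀ b ∈ E, a * b = b * a) ∧
      (∀ a ∈ E, a ^ l = 1) ∧ S ≤ Subgroup.normalizer (E : Set G) := by
  obtain ⟨E0, ⟨h0, hT0, hN0⟩, hmin⟩ := WellFounded.has_min (wellFounded_lt (α := Subgroup G))
    {E | E ≠ ⊥ ∧ E ≤ T ∧ S ≤ Subgroup.normalizer (E : Set G)} ⟨T, hT, le_rfl, hn⟩
  have hsol : Group.IsSolvable ↥E0 :=
    have := hs
    Group.isSolvable_of_isSolvable_injective (Subgroup.inclusion_injective hT0)
  have hlt : (⁅E0, E0⁆ : Subgroup G) < E0 := by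
    refine lt_of_le_of_ne (Subgroup.commutator_le.2 fun a ha b hb =>
      mul_mem (mul_mem (mul_mem ha hb) (inv_mem ha)) (inv_mem hb)) fun e => h0 ?_
    have hd : ∀ n, (derivedSeries ↥E0 n).map E0.subtype = E0 := fun n => by
      induction n with
      | zero => rw [derivedSeries_zero, ← MonoidHom.range_eq_map, Subgroup.range_subtype]
      | succ n ih => rw [derivedSeries_succ, Subgroup.map_commutator, ih, e]
    obtain ⟨n, hn⟩ := hsol.solvable
    rw [← hd n, hn, Subgroup.map_bot]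
  have hNC : S ≤ Subgroup.normalizer ((⁅E0, E0⁆ : Subgroup G) : Set G) := fun s hs' => by
    have hmap : ∀ g ∈ Subgroup.normalizer (E0 : Set G), E0.map (MulAut.conj g).toMonoidHom = E0 := fun g hg => by
      ext x
      rw [Subgroup.mem_map_equiv, MulAut.conj_symm_apply]
      constructor <;> intro h
      · simpa [mul_assoc] using (Subgroup.mem_normalizer_iff.1 hg _).1 h
      · exact (Subgroup.mem_normalizer_iff.1 hg _).2 (by simpa [mul_assoc] using h)
    have hC : (⁅E0, E0⁆).map (MulAut.conj s).toMonoidHom = ⁅E0, E0⁆ := by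
      rw [Subgroup.map_commutator, hmap s (hN0 hs')]
    rw [Subgroup.mem_normalizer_iff]
    intro x
    conv_rhs => rw [← hC, Subgroup.mem_map_equiv, MulAut.conj_symm_apply, show s⁻¹ * (s * x * s⁻¹) * s = x by group]
  have hC0 : ⁅E0, E0⁆ = ⊥ := by
    by_contra h
    exact hmin _ ⟨h, hlt.le.trans hT0, hNC⟩ hlt
  have hcomm : ∀ a ∈ E0, ∀ b ∈ E0, a * b = b * a := fun a ha b hb =>
    (commutatorElement_eq_one_iff_mul_comm).1 (Subgroup.mem_bot.1 (hC0 ▸ Subgroup.commutator_mem_commutator ha hb))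
  obtain ⟨l, hl, hld⟩ := Nat.exists_prime_and_dvd
    (show Nat.card ↥E0 ≠ 1 from fun e => h0 (Subgroup.eq_bot_of_card_eq E0 e))
  have : Fact l.Prime := ⟨hl⟩
  obtain ⟨E, hE⟩ : ∃ E : Subgroup G, ∀ x, x ∈ E ↔ x ∈ E0 ∧ x ^ l = 1 :=
    ⟨{ carrier := {x | x ∈ E0 ∧ x ^ l = 1}
       mul_mem' := fun {a b} ha hb => ⟨mul_mem ha.1 hb.1, by
        rw [(show Commute a b from hcomm a ha.1 b hb.1).mul_pow, ha.2, hb.2, one_mul]⟩
       one_mem' := ⟨one_mem _, one_pow _⟩
       inv_mem' := fun {a} ha => ⟨inv_mem ha.1, by rw [inv_pow, ha.2, inv_one]⟩ }, fun x => Iff.rfl⟩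
  refine ⟨l, E, hl, fun x hx => hT0 ((hE x).1 hx).1, fun e => ?_,
    fun a ha b hb => hcomm a ((hE a).1 ha).1 b ((hE b).1 hb).1, fun a ha => ((hE a).1 ha).2, fun s hs' => ?_⟩
  · obtain ⟨x, hx⟩ := exists_prime_orderOf_dvd_card' l hld
    have hxo := (Subgroup.orderOf_coe x).trans hx
    have hxE : (x : G) ∈ E := (hE _).2 ⟨x.2, hxo ▸ pow_orderOf_eq_one _⟩
    rw [e, Subgroup.mem_bot] at hxE
    rw [hxE, orderOf_one] at hxo
    exact hl.one_lt.ne hxo
  · rw [Subgroup.mem_normalizer_iff]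
    intro x
    rw [hE, hE, conj_pow, conj_eq_one_iff, ← (Subgroup.mem_normalizer_iff.1 (hN0 hs') x)]

variable {K : Type*} [Field K] [Fintype K] {m : ℕ} (hK : Fintype.card K = 3 ^ (2 * m + 1))

omit [Fintype K] in
/-- the possible local subgroups -/
def IsLocalRep (m : ℕ) (A : Subgroup (RG K m)) : Prop :=
  (∃ P : Sylow 2 (RG K m), A = P) ∨ (∃ P : Sylow 3 (RG K m), A = P) ∨
    (IsCyclic ↥A ∧ (Nat.card ↥A = nH m ∨ Nat.card ↥A = nQ m ∨
      Nat.card ↥A = 3 ^ (2 * m + 1) - 3 ^ (m + 1) + 1 ∨ Nat.card ↥A = 3 ^ (2 * m + 1) + 3 ^ (m + 1) + 1))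

include hK

theorem IsLocalRep.map {A : Subgroup (RG K m)} (hA : IsLocalRep m A) (g : RG K m) :
    IsLocalRep m (A.map (MulAut.conj g).toMonoidHom) := by
  have hc := (Nat.card_congr (A.equivMapOfInjective (MulAut.conj g).toMonoidHom (MulAut.conj g).injective).toEquiv).symm
  have hsyl : ∀ {p : ℕ}, (∃ P : Sylow p (RG K m), A = P) →
      ∃ P : Sylow p (RG K m), A.map (MulAut.conj g).toMonoidHom = P := fun {p} ⟨P, hP⟩ => by
    refine ⟨g • P, ?_⟩
    rw [Sylow.coe_subgroup_smul, hP]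
    rfl
  rcases hA with h | h | ⟨h, h'⟩
  · exact Or.inl (hsyl h)
  · exact Or.inr (Or.inl (hsyl h))
  · refine Or.inr (Or.inr ⟨?_, by rw [hc]; exact h'⟩)
    exact isCyclic_of_surjective (A.equivMapOfInjective (MulAut.conj g).toMonoidHom (MulAut.conj g).injective).toMonoidHom
      (A.equivMapOfInjective (MulAut.conj g).toMonoidHom (MulAut.conj g).injective).surjective

/-- transport along conjugation -/
theorem local_of_conj {S E : Subgroup (RG K m)} (hS : S ≤ Subgroup.normalizer (E : Set (RG K m))) {g : RG K m}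
    {T : Subgroup (RG K m)} (hT : IsLocalRep m T)
    (h : ∀ n : RG K m, (∀ e, e ∈ E.comap (MulAut.conj g).toMonoidHom ↔
      n * e * n⁻¹ ∈ E.comap (MulAut.conj g).toMonoidHom) → n ∈ Subgroup.normalizer (T : Set (RG K m))) :
    ∃ A : Subgroup (RG K m), S ≤ Subgroup.normalizer (A : Set (RG K m)) ∧ IsLocalRep m A := by
  refine ⟨_, fun s hs => ?_, hT.map hK g⟩
  have hn := h (g⁻¹ * s * g) fun e => by
    rw [Subgroup.mem_comap, Subgroup.mem_comap, MulEquiv.coe_toMonoidHom, MulAut.conj_apply, MulAut.conj_apply,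
      Subgroup.mem_normalizer_iff.1 (hS hs) (g * e * g⁻¹)]
    constructor <;> intro h' <;> · convert h' using 1; group
  rw [Subgroup.mem_normalizer_iff]
  intro y
  simp only [Subgroup.mem_map_equiv, MulAut.conj_symm_apply]
  rw [Subgroup.mem_normalizer_iff.1 hn (g⁻¹ * y * g)]
  constructor <;> intro h' <;> · convert h' using 1; group

theorem klein_standard {h : SL(2, K)} (h1 : phi hK h ≠ 1) (h2 : phi hK h * phi hK h = 1) :
    ∃ s : SL(2, K), phi hK s * iEl hK * (phi hK s)⁻¹ = phi hK h := by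
  obtain ⟨w, hw⟩ : ∃ w : SL(2, K), w = ⟨!![0, 1; -1, 0], by simp [Matrix.det_fin_two]⟩ := ⟨_, rfl⟩
  have hi : iEl hK = phi hK w := by rw [hw]; rfl
  have hw1 : w.1 = !![0, 1; -1, 0] := congrArg Subtype.val hw
  have hdet := h.2
  rw [Matrix.det_fin_two] at hdet
  rw [← map_mul] at h2
  obtain ⟨r, hr, e⟩ := phi_ker hK h2
  obtain ⟨a, ha⟩ : ∃ a, a = h.1 0 0 := ⟨_, rfl⟩
  obtain ⟨b, hb⟩ : ∃ b, b = h.1 0 1 := ⟨_, rfl⟩
  obtain ⟨c, hc⟩ : ∃ c, c = h.1 1 0 := ⟨_, rfl⟩
  obtain ⟨d, hd⟩ : ∃ d, d = h.1 1 1 := ⟨_, rfl⟩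
  rw [← ha, ← hb, ← hc, ← hd] at hdet
  have e00 := congrFun (congrFun e 0) 0
  have e01 := congrFun (congrFun e 0) 1
  have e10 := congrFun (congrFun e 1) 0
  have e11 := congrFun (congrFun e 1) 1
  simp [Matrix.SpecialLinearGroup.coe_mul, Matrix.mul_apply, Fin.sum_univ_two, ← ha, ← hb, ← hc, ← hd] at e00 e01 e10 e11
  have htr : a + d = 0 := by
    by_contra ht
    have hb0 : b = 0 := (mul_eq_zero.1 (show b * (a + d) = 0 by linear_combination e01)).resolve_right ht
    have hc0 : c = 0 := (mul_eq_zero.1 (show c * (a + d) = 0 by linear_combination e10)).resolve_right ht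
    have had : a = d := sub_eq_zero.1
      ((mul_eq_zero.1 (show (a - d) * (a + d) = 0 by linear_combination e00 - e11)).resolve_right ht)
    refine h1 (phi_center hK (Subgroup.mem_center_iff.2 fun g => Subtype.ext ?_))
    show g.1 * h.1 = h.1 * g.1
    have hs : h.1 = Matrix.scalar (Fin 2) a := by
      ext i j; fin_cases i <;> fin_cases j <;> simp [← ha, ← hb, ← hc, ← hd, hb0, hc0, had]
    rw [hs]
    exact (Matrix.scalar_commute a (fun _ => Commute.all _ _) _).symm.eq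
  have hd' : d = -a := eq_neg_of_add_eq_zero_right htr
  have hc0 : c ≠ 0 := fun h0 => by
    rw [hd', h0] at hdet
    by_cases ha0 : a = 0
    · rw [ha0] at hdet; simp at hdet
    · exact neg_one_not_sq hK (Units.mk0 a ha0) (by rw [Units.val_mk0]; linear_combination -hdet)
  obtain ⟨k, ε, hε, hk, hk0⟩ : ∃ k ε : K, (ε = 1 ∨ ε = -1) ∧ k ^ 2 = -ε * c ∧ k ≠ 0 := by
    obtain ⟨n2, hodd⟩ := nH_spec m
    have hpw : c ^ nH m = 1 ∨ c ^ nH m = -1 := sq_eq_one_iff.1 (by
      rw [← pow_mul, mul_comm, n2, ← hK]; exact FiniteField.pow_card_sub_one_eq_one c hc0)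
    have hk2 : (c ^ ((nH m + 1) / 2)) ^ 2 = c ^ nH m * c := by
      rw [← pow_mul, ← pow_succ]; congr 1; omega
    refine ⟨c ^ ((nH m + 1) / 2), -(c ^ nH m), ?_, by rw [hk2, neg_neg], pow_ne_zero _ hc0⟩
    rcases hpw with hp | hp <;> rw [hp]
    · exact Or.inr rfl
    · exact Or.inl (neg_neg 1)
  have hεε : ε ^ 2 = 1 := sq_eq_one_iff.2 hε
  obtain ⟨s, hs⟩ : ∃ s : SL(2, K), s.1 = !![1 / k, -(ε * a) / k; 0, -(ε * c) / k] :=
    ⟨⟨!![1 / k, -(ε * a) / k; 0, -(ε * c) / k], by rw [Matrix.det_fin_two_of]; field_simp; linear_combination -hk⟩, rfl⟩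
  refine ⟨s, ?_⟩
  have e3 : (h * s).1 = ε • (s * w).1 := by
    rw [Matrix.SpecialLinearGroup.coe_mul, Matrix.SpecialLinearGroup.coe_mul, hs, hw1]
    rw [hd'] at hdet
    have u00 : a * (1 / k) = ε * (ε * a / k) := by field_simp; linear_combination -a * hεε
    have u01 : a * (-(ε * a) / k) + b * (-(ε * c) / k) = ε * (1 / k) := by field_simp; linear_combination ε * hdet
    have u10 : c * (1 / k) = ε * (ε * c / k) := by field_simp; linear_combination -hεε
    have u11 : c * (-(ε * a) / k) + -a * (-(ε * c) / k) = 0 := by field_simp; ring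
    have hh : h.1 = !![a, b; c, -a] := by
      ext i j; fin_cases i <;> fin_cases j <;> simp [← ha, ← hb, ← hc, ← hd, hd']
    rw [hh]
    ext i j
    fin_cases i <;> fin_cases j <;> simp [Matrix.mul_apply, Fin.sum_univ_two, Matrix.smul_apply, neg_div] <;>
      first | linear_combination u00 | linear_combination u01 | linear_combination u10 | linear_combination u11
  have e4 : phi hK (h * s) = phi hK (s * w) := phi_neg hK (s * w) ε hεε e3
  rw [map_mul, map_mul, ← hi] at e4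
  rw [← e4, mul_inv_cancel_right]

theorem TE_normalizer_le (hm : 1 ≤ m) {n : RG K m} (hn : ∀ e, e ∈ TE hK ↔ n * e * n⁻¹ ∈ TE hK) :
    n ∈ Subgroup.normalizer (A1 hK : Set (RG K m)) := by
  obtain ⟨hj, hi, -⟩ := jEl_iEl_mem hK
  have key : ∀ y ∈ A1 hK, n * y * n⁻¹ ∈ A1 hK := by
    intro y hy
    have hcomm : ∀ e ∈ TE hK, n * y * n⁻¹ * e = e * (n * y * n⁻¹) := fun e he => by
      have he' : n⁻¹ * e * n ∈ TE hK := (hn _).2 (by simpa [mul_assoc] using he)
      calc n * y * n⁻¹ * e = n * (y * (n⁻¹ * e * n)) * n⁻¹ := by group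
        _ = n * ((n⁻¹ * e * n) * y) * n⁻¹ := by rw [TD_comm hK hy.1 he'.1]
        _ = _ := by group
    have hpow : (n * y * n⁻¹) ^ nQ m = 1 := by rw [conj_pow, hy.2]; group
    refine ⟨?_, hpow⟩
    obtain ⟨w, hw⟩ : ∃ w : SL(2, K), w = ⟨!![0, 1; -1, 0], by simp [Matrix.det_fin_two]⟩ := ⟨_, rfl⟩
    have hiw : iEl hK = phi hK w := by rw [hw]; rfl
    have hwT : w ∈ slT K := by rw [hw]; exact ⟨rfl, rfl⟩
    have hwb : w.1 0 1 ≠ 0 := by rw [hw]; exact one_ne_zero
    rcases centralizer_jEl_torus hK hwT hwT hwb (Subgroup.mem_centralizer_singleton_iff.2 (hcomm _ hj))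
      (by rw [← hiw, hcomm _ hi, mul_inv_cancel_right]) with h | ⟨s, hs, h⟩
    · exact h
    · have hsq : (n * y * n⁻¹) ^ 2 = 1 := by
        have hss : phi hK s * phi hK s = 1 := by
          rw [← map_mul]
          refine phi_center hK (Subgroup.mem_center_iff.2 fun g => Subtype.ext ?_)
          show g.1 * (s * s).1 = (s * s).1 * g.1
          rw [slS_sq hs]
          exact (Matrix.scalar_commute (-1 : K) (fun _ => Commute.all _ _) _).symm.eq
        rw [sq]
        rcases h with e | e <;> rw [e]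
        · exact hss
        · rw [(show Commute (jEl hK) (phi hK s) from phi_commute_jEl hK s).symm.mul_mul_mul_comm, jEl_mul_self hK,
            hss, one_mul]
      rw [← Nat.div_add_mod (nQ m) 2, (nQ_spec m).2, pow_succ, pow_mul, hsq, one_pow, one_mul] at hpow
      rw [hpow]
      exact one_mem _
  obtain ⟨l, x, hx, hl, -, ho⟩ := exists_prime_A1 hK hm
  exact normalizes_TD_of_conj hK hm hx (fun e => by rw [e, orderOf_one] at ho; exact hl.one_lt.ne ho) (key x hx) rfl

theorem card_comap_conj (E : Subgroup (RG K m)) (g : RG K m) :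
    Nat.card ↥(E.comap (MulAut.conj g).toMonoidHom) = Nat.card ↥E :=
  Nat.card_congr ((MulAut.conj g).toEquiv.subtypeEquiv fun _ => Subgroup.mem_comap)

theorem local_of_elem (hm : 1 ≤ m) {S E : Subgroup (RG K m)} (hS : S ≤ Subgroup.normalizer (E : Set (RG K m)))
    {l : ℕ} (hl : l.Prime) (hne : E ≠ ⊥) (hcomm : ∀ a ∈ E, ∀ b ∈ E, a * b = b * a) (hexp : ∀ a ∈ E, a ^ l = 1)
    (h4 : l = 2 → 4 ≤ Nat.card ↥E) :
    ∃ A : Subgroup (RG K m), S ≤ Subgroup.normalizer (A : Set (RG K m)) ∧ IsLocalRep m A := by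
  have : Fact l.Prime := ⟨hl⟩
  obtain ⟨x, hx, hx1⟩ := E.bot_or_exists_ne_one.resolve_left hne
  have hxo : orderOf x = l := orderOf_eq_prime (hexp x hx) hx1
  -- the conjugate of the subgroup
  have conjE : ∀ g : RG K m, g⁻¹ * x * g ≠ 1 ∧ g⁻¹ * x * g ∈ E.comap (MulAut.conj g).toMonoidHom ∧
      (∀ e ∈ E.comap (MulAut.conj g).toMonoidHom, e * (g⁻¹ * x * g) = g⁻¹ * x * g * e ∧ e ^ l = 1) := by
    intro g
    refine ⟨fun e => hx1 ?_, ?_, fun e he => ?_⟩
    · calc x = g * (g⁻¹ * x * g) * g⁻¹ := by group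
        _ = 1 := by rw [e]; group
    · simpa [Subgroup.mem_comap, mul_assoc] using hx
    · rw [Subgroup.mem_comap, MulEquiv.coe_toMonoidHom, MulAut.conj_apply] at he
      refine ⟨?_, ?_⟩
      · calc e * (g⁻¹ * x * g) = g⁻¹ * (g * e * g⁻¹ * x) * g := by group
          _ = g⁻¹ * (x * (g * e * g⁻¹)) * g := by rw [hcomm _ he _ hx]
          _ = _ := by group
      · have := hexp _ he
        rwa [conj_pow, conj_eq_one_iff] at this
  -- inside a cyclic torus
  have torus : ∀ (T : Subgroup (RG K m)) (g : RG K m), IsLocalRep m T →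
      E.comap (MulAut.conj g).toMonoidHom ≤ T →
      (∀ T0 ≤ T, T0 ≠ ⊥ → Subgroup.normalizer (T0 : Set (RG K m)) = Subgroup.normalizer (T : Set (RG K m))) →
      ∃ A : Subgroup (RG K m), S ≤ Subgroup.normalizer (A : Set (RG K m)) ∧ IsLocalRep m A := by
    intro T g hT hle hsub
    refine local_of_conj hK hS (g := g) hT fun n hn => ?_
    rw [← hsub _ hle (fun e => (conjE g).1 (Subgroup.mem_bot.1 (e ▸ (conjE g).2.1))), Subgroup.mem_normalizer_iff]
    exact hn
  have hG := (hxo ▸ orderOf_dvd_natCard x : l ∣ Nat.card (RG K m))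
  rw [card_RG' hK, ← (nQ_spec m).1, ← (nH_spec m).1] at hG
  have hcases : l = 2 ∨ l = 3 ∨ l ∣ nH m ∨ l ∣ nQ m ∨ l ∣ nSix m := by
    rcases hl.dvd_mul.1 hG with h | h
    · rcases hl.dvd_mul.1 h with h | h
      · exact Or.inr (Or.inl ((Nat.prime_dvd_prime_iff_eq hl Nat.prime_three).1 (hl.dvd_of_dvd_pow (hl.dvd_of_dvd_pow h))))
      · exact (hl.dvd_mul.1 h).elim (fun e => Or.inl ((Nat.prime_dvd_prime_iff_eq hl Nat.prime_two).1 e))
          (fun e => Or.inr (Or.inr (Or.inl e)))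
    · rcases hl.dvd_mul.1 h with h | h
      · exact (hl.dvd_mul.1 h).elim
          (fun e => Or.inl ((Nat.prime_dvd_prime_iff_eq hl Nat.prime_two).1 (hl.dvd_of_dvd_pow (show l ∣ 2 ^ 2 from e))))
          (fun e => Or.inr (Or.inr (Or.inr (Or.inl e))))
      · exact Or.inr (Or.inr (Or.inr (Or.inr h)))
  rcases hcases with rfl | rfl | h | h | h
  · obtain ⟨P, hP⟩ := (show IsPGroup 2 ↥E from fun a => ⟨1, Subtype.ext (by simpa using hexp a a.2)⟩).exists_le_sylow
    by_cases h8 : Nat.card ↥E = 8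
    · refine ⟨(P : Subgroup (RG K m)), ?_, Or.inl ⟨P, rfl⟩⟩
      rwa [← Subgroup.eq_of_le_of_card_ge hP (by rw [(sylow_two_elem hK P).1, h8])]
    have hd : Nat.card ↥E ∣ 2 ^ 3 := by
      have := Subgroup.card_dvd_of_le hP
      rw [(sylow_two_elem hK P).1] at this
      exact this
    obtain ⟨k, hk, hk'⟩ := (Nat.dvd_prime_pow Nat.prime_two).1 hd
    have hE4 : Nat.card ↥E = 4 := by
      have := h4 rfl
      interval_cases k <;> omega
    obtain ⟨g, hg⟩ := involution_conj hK hm (z := x) (by rw [← sq]; exact hexp x hx) hx1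
    have hjx : g⁻¹ * x * g = jEl hK := by rw [← hg]; group
    obtain ⟨F, hF⟩ : ∃ F, F = E.comap (MulAut.conj g).toMonoidHom := ⟨_, rfl⟩
    have hFc : Nat.card ↥F = 4 := by
      rw [hF, ← hE4]
      exact card_comap_conj hK E g
    obtain ⟨-, hjF, hF2⟩ := conjE g
    rw [hjx, ← hF] at hjF hF2
    obtain ⟨w, hw, hwj, hw1⟩ : ∃ w ∈ F, w ≠ jEl hK ∧ w ≠ 1 := by
      by_contra hcon
      push_neg at hcon
      have hle : F ≤ Subgroup.zpowers (jEl hK) := fun w hw => by
        by_cases hwj : w = jEl hK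
        · exact hwj ▸ Subgroup.mem_zpowers _
        · rw [hcon w hw hwj]; exact one_mem _
      have := Subgroup.card_le_of_le hle
      rw [hFc, card_zpowers_jEl hK] at this
      omega
    obtain ⟨h, hh⟩ := centralizer_dichotomy hK (g := w)
      (Subgroup.mem_centralizer_singleton_iff.2 (hF2 w hw).1)
    have hhF : phi hK h ∈ F := by
      rcases hh with e | e
      · exact e ▸ hw
      · have hm' := mul_mem hjF hw
        rwa [e, ← mul_assoc, jEl_mul_self hK, one_mul] at hm'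
    have hh1 : phi hK h ≠ 1 := fun e => by
      rcases hh with e' | e' <;> rw [e] at e'
      · exact hw1 e'
      · exact hwj (e'.trans (mul_one _))
    obtain ⟨s, hs⟩ := klein_standard hK hh1 (by rw [← sq]; exact (hF2 _ hhF).2)
    refine local_of_conj hK hS (g := g * phi hK s) (T := A1 hK)
      (Or.inr (Or.inr ⟨A1_cyclic hK, Or.inr (Or.inl (card_A1 hK))⟩)) fun n hn => TE_normalizer_le hK hm ?_
    have hEq : TE hK = E.comap (MulAut.conj (g * phi hK s)).toMonoidHom := by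
      refine Subgroup.eq_of_le_of_card_ge (fun e he => ?_) (by
        rw [card_TE hK, ← hE4]; exact (card_comap_conj hK E _).le)
      have hje : phi hK s * jEl hK * (phi hK s)⁻¹ = jEl hK := by
        rw [← phi_commute_jEl hK s, mul_inv_cancel_right]
      have hmem : phi hK s * e * (phi hK s)⁻¹ ∈ F := by
        rcases TE_cases hK he with e' | e' | e' | e' <;> rw [e']
        · rw [mul_one, mul_inv_cancel]; exact one_mem _
        · rw [hje]; exact hjF
        · rw [hs]; exact hhF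
        · rw [show phi hK s * (jEl hK * iEl hK) * (phi hK s)⁻¹ =
            phi hK s * jEl hK * (phi hK s)⁻¹ * (phi hK s * iEl hK * (phi hK s)⁻¹) by group, hje, hs]
          exact mul_mem hjF hhF
      rw [hF, Subgroup.mem_comap] at hmem
      rw [Subgroup.mem_comap]
      convert hmem using 1
      simp [mul_assoc]
    rw [hEq]
    exact hn
  · obtain ⟨P, hP⟩ := exists_sylow_three hK hm
    obtain ⟨g, hg⟩ := exists_conj_mem_of_not_dvd_index (A := UR K m) (k := 1) Nat.prime_three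
      (by rw [UR, ← hP]; exact P.not_dvd_index) (x := x) (by rw [pow_one]; exact hexp x hx)
    obtain ⟨hx', hxF, hF⟩ := conjE g
    have hFB : ∀ e ∈ E.comap (MulAut.conj g).toMonoidHom, e ∈ BR K m := fun e he =>
      centralizer_UR_le hK hg hx' (Subgroup.mem_centralizer_singleton_iff.2 (hF e he).1)
    refine local_of_conj hK hS (g := g) (T := UR K m) (Or.inr (Or.inl ⟨P, by rw [UR, ← hP]⟩)) fun n hn => ?_
    have h3 : 3 ∣ orderOf (g⁻¹ * x * g) := by
      rw [orderOf_eq_prime (hF _ hxF).2 hx']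
    obtain ⟨u, hu, h', hh', rfl⟩ := (split hK).factor n (mem_BR_of_conj hK (hFB _ hxF) h3 (hFB _ ((hn _).1 hxF)))
    refine mul_mem (Subgroup.le_normalizer hu) ?_
    rw [Subgroup.mem_normalizer_iff]
    intro y
    refine ⟨(split hK).conj_U _ hh' y, fun hy => ?_⟩
    simpa [mul_assoc] using (split hK).conj_U _ (inv_mem hh') _ hy
  · obtain ⟨g, hg⟩ := exists_conj_AH hK hl h (hexp x hx)
    refine torus (AH hK) g (Or.inr (Or.inr ⟨AH_cyclic hK, Or.inl (card_AH hK)⟩)) (fun e he => ?_)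
      (fun T0 h0 h0' => by
        rw [normalizer_of_le_AH hK hm h0 h0', normalizer_of_le_AH hK hm le_rfl fun e => h0' (le_bot_iff.1 (e ▸ h0))])
    obtain ⟨hx', -, hF⟩ := conjE g
    obtain ⟨c, hc⟩ := (mem_HR_iff hK _).1 (AH_le hK hg)
    refine ⟨?_, ?_⟩
    · rw [← centralizer_hEl hK hm (sq_ne_of_AH hK (hc ▸ hg) (hc ▸ hx')), ← hc]
      exact Subgroup.mem_centralizer_singleton_iff.2 (hF e he).1
    · obtain ⟨k, hk⟩ := h
      rw [hk, pow_mul, (hF e he).2, one_pow]
  · obtain ⟨g, hg⟩ := exists_conj_A1 hK hl h (hexp x hx)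
    refine torus (A1 hK) g (Or.inr (Or.inr ⟨A1_cyclic hK, Or.inr (Or.inl (card_A1 hK))⟩)) (fun e he => ?_)
      (fun T0 h0 h0' => normalizer_of_le_A1 hK hm h0 h0')
    obtain ⟨hx', -, hF⟩ := conjE g
    refine ⟨?_, ?_⟩
    · rw [← centralizer_quarter hK hm hg hx']
      exact Subgroup.mem_centralizer_singleton_iff.2 (hF e he).1
    · obtain ⟨k, hk⟩ := h
      rw [hk, pow_mul, (hF e he).2, one_pow]
  · obtain ⟨A6, B6, hA6, hB6, hca, hcb, hmul⟩ := six_tori hK hm
    have main : ∀ A : Subgroup (RG K m), SixTorus A → IsLocalRep m A → l ∣ Nat.card ↥A →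
        ∃ A : Subgroup (RG K m), S ≤ Subgroup.normalizer (A : Set (RG K m)) ∧ IsLocalRep m A := by
      intro A hA hrep hd
      obtain ⟨g, hg⟩ := hA.cover x ⟨l, hl, hd, hxo ▸ dvd_rfl⟩
      exact torus A g hrep (fun e he => hA.mem hK hg (conjE g).1 ((conjE g).2.2 e he).1) hA.norm_sub
    rcases hl.dvd_mul.1 (hmul.symm ▸ h) with h' | h'
    · exact main A6 hA6 (Or.inr (Or.inr ⟨hA6.cyclic, Or.inr (Or.inr (Or.inl hca))⟩)) h'
    · exact main B6 hB6 (Or.inr (Or.inr ⟨hB6.cyclic, Or.inr (Or.inr (Or.inr hcb))⟩)) h'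

theorem solvable_local (hm : 1 ≤ m) (S : Subgroup (RG K m)) (hS : Group.IsSolvable ↥S) :
    ∃ A : Subgroup (RG K m), S ≤ Subgroup.normalizer (A : Set (RG K m)) ∧ IsLocalRep m A := by
  have : Fact (Nat.Prime 2) := ⟨Nat.prime_two⟩
  by_cases hS1 : S = ⊥
  · obtain ⟨P⟩ := (Sylow.nonempty : Nonempty (Sylow 2 (RG K m)))
    exact ⟨P, hS1 ▸ bot_le, Or.inl ⟨P, rfl⟩⟩
  obtain ⟨l, E, hl, hES, hne, hcomm, hexp, hNE⟩ := exists_elem_invariant Subgroup.le_normalizer hS1 hS
  by_cases h4 : l = 2 → 4 ≤ Nat.card ↥E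
  · exact local_of_elem hK hm hNE hl hne hcomm hexp h4
  rw [Classical.not_imp] at h4
  obtain ⟨rfl, h4⟩ := h4
  -- a normal subgroup of order two
  obtain ⟨z, hz, hz1⟩ := E.bot_or_exists_ne_one.resolve_left hne
  have hc2 : Nat.card ↥E = 2 := by
    obtain ⟨k, hk⟩ := IsPGroup.iff_card.1 (show IsPGroup 2 ↥E from fun a => ⟨1, Subtype.ext (by simpa using hexp a a.2)⟩)
    rcases k with _ | _ | k
    · exact absurd (Subgroup.eq_bot_of_card_eq E hk) hne
    · exact hk
    · rw [pow_succ, pow_succ] at hk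
      have := Nat.one_le_pow k 2 two_pos
      omega
  have hEz : ∀ e ∈ E, e = 1 ∨ e = z := by
    intro e he
    have hzE : Subgroup.zpowers z = E := Subgroup.eq_of_le_of_card_ge (Subgroup.zpowers_le.2 hz) (by
      rw [hc2, Nat.card_zpowers, orderOf_eq_prime (hexp z hz) hz1])
    exact zpowers_two hK (by rw [← sq]; exact hexp z hz) (hzE.symm ▸ he)
  obtain ⟨g, hg⟩ := involution_conj hK hm (z := z) (by rw [← sq]; exact hexp z hz) hz1
  obtain ⟨S', hS'⟩ : ∃ S', S' = S.comap (MulAut.conj g).toMonoidHom := ⟨_, rfl⟩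
  have hSC : S' ≤ Subgroup.centralizer {jEl hK} := by
    intro s hs
    rw [hS', Subgroup.mem_comap, MulEquiv.coe_toMonoidHom, MulAut.conj_apply] at hs
    have hfix : g * s * g⁻¹ * z * (g * s * g⁻¹)⁻¹ = z :=
      (hEz _ ((Subgroup.mem_normalizer_iff.1 (hNE hs) z).1 hz)).resolve_left fun e => hz1 (conj_eq_one_iff.1 e)
    rw [Subgroup.mem_centralizer_singleton_iff]
    have e1 : g * s * g⁻¹ * z = z * (g * s * g⁻¹) := mul_inv_eq_iff_eq_mul.1 hfix
    rw [← hg] at e1
    calc s * jEl hK = g⁻¹ * (g * s * g⁻¹ * (g * jEl hK * g⁻¹)) * g := by group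
      _ = g⁻¹ * ((g * jEl hK * g⁻¹) * (g * s * g⁻¹)) * g := by rw [e1]
      _ = _ := by group
  obtain ⟨T, hT⟩ : ∃ T, T = S' ⊓ (phi hK).range := ⟨_, rfl⟩
  suffices h : ∃ A : Subgroup (RG K m), S' ≤ Subgroup.normalizer (A : Set (RG K m)) ∧ IsLocalRep m A by
    obtain ⟨A, hA, hrep⟩ := h
    refine ⟨_, fun s hs => ?_, hrep.map hK g⟩
    have hs' := hA (show g⁻¹ * s * g ∈ S' by rw [hS', Subgroup.mem_comap]; simpa [mul_assoc] using hs)
    rw [Subgroup.mem_normalizer_iff]
    intro y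
    simp only [Subgroup.mem_map_equiv, MulAut.conj_symm_apply]
    rw [Subgroup.mem_normalizer_iff.1 hs' (g⁻¹ * y * g)]
    constructor <;> intro h' <;> · convert h' using 1; group
  have hsplit : ∀ s ∈ S', s ∈ (phi hK).range ∨ jEl hK * s ∈ (phi hK).range := fun s hs => by
    obtain ⟨h, rfl | rfl⟩ := centralizer_dichotomy hK (hSC hs)
    · exact Or.inl ⟨h, rfl⟩
    · exact Or.inr ⟨h, by rw [← mul_assoc, jEl_mul_self hK, one_mul]⟩
  by_cases hT0 : T = ⊥
  · have hle : S' ≤ Subgroup.zpowers (jEl hK) := by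
      intro s hs
      have hjS : jEl hK ∈ S' := by
        rw [hS', Subgroup.mem_comap, MulEquiv.coe_toMonoidHom, MulAut.conj_apply, hg]; exact hES hz
      rcases hsplit s hs with h | h
      · rw [Subgroup.mem_bot.1 (hT0 ▸ hT ▸ (⟨hs, h⟩ : s ∈ S' ⊓ (phi hK).range) : s ∈ (⊥ : Subgroup (RG K m)))]
        exact one_mem _
      · have := Subgroup.mem_bot.1 (hT0 ▸ hT ▸ (⟨mul_mem hjS hs, h⟩ : jEl hK * s ∈ S' ⊓ (phi hK).range) :
          jEl hK * s ∈ (⊥ : Subgroup (RG K m)))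
        rw [eq_inv_of_mul_eq_one_right this]
        exact inv_mem (Subgroup.mem_zpowers _)
    obtain ⟨P, hP⟩ := (IsPGroup.of_card (n := 1) (by rw [card_zpowers_jEl hK, pow_one]) :
      IsPGroup 2 ↥(Subgroup.zpowers (jEl hK))).exists_le_sylow
    exact ⟨P, (hle.trans hP).trans Subgroup.le_normalizer, Or.inl ⟨P, rfl⟩⟩
  have hTN : S' ≤ Subgroup.normalizer (T : Set (RG K m)) := by
    intro s hs
    have hL : ∀ y, y ∈ (phi hK).range ↔ s * y * s⁻¹ ∈ (phi hK).range := by
      obtain ⟨h, rfl | rfl⟩ := centralizer_dichotomy hK (hSC hs)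
      · exact fun y => (Subgroup.mem_normalizer_iff.1 (Subgroup.le_normalizer (H := (phi hK).range) ⟨h, rfl⟩) y)
      · intro y
        have hcj : ∀ y ∈ (phi hK).range, jEl hK * y * (jEl hK)⁻¹ = y := by
          rintro _ ⟨k, rfl⟩; exact jEl_conj_phi hK k
        have hh := (Subgroup.mem_normalizer_iff.1 (Subgroup.le_normalizer (H := (phi hK).range) ⟨h, rfl⟩) y)
        constructor
        · intro hy
          have h1 := hh.1 hy
          have e := hcj _ h1
          convert h1 using 1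
          rw [← e]; group
        · intro hy
          refine hh.2 ?_
          have e := hcj _ hy
          convert hy using 1
          rw [← e]
          have hjj : (jEl hK)⁻¹ = jEl hK := inv_eq_of_mul_eq_one_right (jEl_mul_self hK)
          calc phi hK h * y * (phi hK h)⁻¹ =
              jEl hK * jEl hK * (phi hK h * y * (phi hK h)⁻¹) * ((jEl hK)⁻¹ * (jEl hK)⁻¹) := by
                rw [hjj, jEl_mul_self hK, one_mul, mul_one]
            _ = _ := by group
    rw [Subgroup.mem_normalizer_iff]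
    intro y
    rw [hT, Subgroup.mem_inf, Subgroup.mem_inf, ← hL, ← (Subgroup.mem_normalizer_iff.1 (Subgroup.le_normalizer hs) y)]
  have hTsol : Group.IsSolvable ↥T := by
    have := hS
    have : Group.IsSolvable ↥S' := Group.isSolvable_of_isSolvable_injective (f := ((MulAut.conj g).toMonoidHom.domRestrict S').codRestrict S
      (fun s => by have := hS'.le s.2; exact this)) (fun a b e => Subtype.ext ((MulAut.conj g).injective (congrArg Subtype.val e)))
    exact Group.isSolvable_of_isSolvable_injective (Subgroup.inclusion_injective (hT.le.trans inf_le_left))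
  obtain ⟨l, E2, hl2, hE2T, hne2, hcomm2, hexp2, hNE2⟩ := exists_elem_invariant hTN hT0 hTsol
  by_cases h2 : l = 2
  swap
  · exact local_of_elem hK hm hNE2 hl2 hne2 hcomm2 hexp2 (fun h => absurd h h2)
  subst h2
  have hrange : ∀ e ∈ E2, e ∈ (phi hK).range := fun e he => (hT ▸ hE2T he : e ∈ S' ⊓ (phi hK).range).2
  have hjc : ∀ e ∈ E2, jEl hK * e = e * jEl hK := fun e he => by
    obtain ⟨k, rfl⟩ := hrange e he; exact phi_commute_jEl hK k
  have hjj := jEl_mul_self hK
  obtain ⟨E3, hE3⟩ : ∃ E3 : Subgroup (RG K m), ∀ x, x ∈ E3 ↔ ∃ e ∈ E2, x = e ∨ x = jEl hK * e :=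
    ⟨{ carrier := {x | ∃ e ∈ E2, x = e ∨ x = jEl hK * e}
       mul_mem' := by
         rintro _ _ ⟨e, he, hae⟩ ⟨f, hf, hbf⟩
         refine ⟨e * f, mul_mem he hf, ?_⟩
         rcases hae with rfl | rfl <;> rcases hbf with rfl | rfl
         · exact Or.inl rfl
         · exact Or.inr (by rw [← mul_assoc, ← hjc _ he, mul_assoc])
         · exact Or.inr (mul_assoc _ _ _)
         · exact Or.inl (by rw [mul_assoc, ← mul_assoc e, ← hjc e he, ← mul_assoc, ← mul_assoc, hjj, one_mul])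
       one_mem' := ⟨1, one_mem _, Or.inl rfl⟩
       inv_mem' := by
         rintro _ ⟨e, he, rfl | rfl⟩
         · exact ⟨_, inv_mem he, Or.inl rfl⟩
         · refine ⟨e⁻¹, inv_mem he, Or.inr ?_⟩
           rw [mul_inv_rev, inv_eq_of_mul_eq_one_right hjj, ← hjc _ (inv_mem he)] }, fun x => Iff.rfl⟩
  have hjE3 : jEl hK ∈ E3 := (hE3 _).2 ⟨1, one_mem _, Or.inr (mul_one _).symm⟩
  have hcomm3 : ∀ a ∈ E3, ∀ b ∈ E3, a * b = b * a := by
    intro a ha b hb
    obtain ⟨e, he, hae⟩ := (hE3 a).1 ha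
    obtain ⟨f, hf, hbf⟩ := (hE3 b).1 hb
    have h1 : Commute e f := hcomm2 e he f hf
    have h2 : Commute e (jEl hK) := (hjc e he).symm
    have h3 : Commute (jEl hK) f := hjc f hf
    rcases hae with rfl | rfl <;> rcases hbf with rfl | rfl
    · exact h1.eq
    · exact (h2.mul_right h1).eq
    · exact (h3.mul_left h1).eq
    · exact (((Commute.refl _).mul_right h3).mul_left (h2.mul_right h1)).eq
  refine local_of_elem hK hm (E := E3) (l := 2) ?_ Nat.prime_two
    (fun e => jEl_ne_one hK (Subgroup.mem_bot.1 (e ▸ hjE3))) hcomm3 ?_ (fun _ => ?_)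
  · intro s hs
    have hsj : s * jEl hK * s⁻¹ = jEl hK := by
      rw [Subgroup.mem_centralizer_singleton_iff.1 (hSC hs), mul_inv_cancel_right]
    have hsj' : s⁻¹ * jEl hK * s = jEl hK := by
      conv_lhs => rw [← hsj]
      group
    have hfwd : ∀ t : RG K m, t ∈ S' → t * jEl hK * t⁻¹ = jEl hK → ∀ y ∈ E3, t * y * t⁻¹ ∈ E3 := by
      intro t ht htj y hy
      obtain ⟨e, he, rfl | rfl⟩ := (hE3 y).1 hy
      · exact (hE3 _).2 ⟨_, (Subgroup.mem_normalizer_iff.1 (hNE2 ht) _).1 he, Or.inl rfl⟩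
      · refine (hE3 _).2 ⟨_, (Subgroup.mem_normalizer_iff.1 (hNE2 ht) _).1 he, Or.inr ?_⟩
        calc t * (jEl hK * e) * t⁻¹ = t * jEl hK * t⁻¹ * (t * e * t⁻¹) := by group
          _ = _ := by rw [htj]
    rw [Subgroup.mem_normalizer_iff]
    intro y
    refine ⟨hfwd s hs hsj y, fun hy => ?_⟩
    simpa [mul_assoc] using hfwd s⁻¹ (inv_mem hs) (by rw [inv_inv]; exact hsj') _ hy
  · intro a ha
    obtain ⟨e, he, rfl | rfl⟩ := (hE3 a).1 ha
    · exact hexp2 _ he
    · rw [(show Commute (jEl hK) e from hjc e he).mul_pow, hexp2 e he, sq, jEl_mul_self hK, one_mul]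
  · obtain ⟨u, hu, hu1⟩ := E2.bot_or_exists_ne_one.resolve_left hne2
    have huj : u ≠ jEl hK := fun e => by
      obtain ⟨k, hk⟩ := hrange u hu
      exact jEl_not_range hK k (hk.trans e)
    have hsub : ({1, jEl hK, u, jEl hK * u} : Set (RG K m)) ⊆ (E3 : Set (RG K m)) := by
      rintro y (rfl | rfl | rfl | rfl)
      · exact one_mem _
      · exact hjE3
      · exact (hE3 _).2 ⟨_, hu, Or.inl rfl⟩
      · exact (hE3 _).2 ⟨_, hu, Or.inr rfl⟩
    have hcard : ({1, jEl hK, u, jEl hK * u} : Set (RG K m)).ncard = 4 := by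
      have a1 : jEl hK * u ≠ 1 := fun e => huj (by
        rw [eq_inv_of_mul_eq_one_right e, inv_eq_of_mul_eq_one_right (jEl_mul_self hK)])
      have a2 : jEl hK * u ≠ jEl hK := fun e => hu1 (mul_eq_left.1 e)
      have a3 : u ≠ jEl hK * u := fun e => jEl_ne_one hK (mul_eq_right.1 e.symm)
      rw [Set.ncard_insert_of_notMem (by simp [(jEl_ne_one hK).symm, hu1.symm, a1.symm]) (Set.toFinite _),
        Set.ncard_insert_of_notMem (by simp [huj.symm, a2.symm]) (Set.toFinite _), Set.ncard_pair a3]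
    have := Set.ncard_le_ncard hsub (Set.toFinite _)
    rw [hcard, ← Nat.card_coe_set_eq] at this
    exact this

end CfsgLib.Lie.Ree
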