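/-
Owner: helper7. The small Ree group over three elements: a transfer to a group of order three, and
the simplicity of its kernel (order 504).
-/
import Cfsg.Agent.Lib.Lie.Twisted.Ree.Borel
import Cfsg.Agent.Lib.Core.Cores

set_option autoImplicit false

namespace CfsgLib.Lie.Ree.Three

open Cfsg.Lie CfsgLib.Lie CfsgLib.Lie.Chev CfsgLib.Lie.Chev.TwGroups Subgroup

section Counting

variable {G : Type*} [Group G] [Finite G] {p : ℕ} [Fact p.Prime]

/-- The order of a Sylow subgroup for a prime dividing the order exactly once. -/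
theorem card_sylow_prime {n : ℕ} (hG : Nat.card G = n) (hp : p ∣ n ∧ ¬ p * p ∣ n) (P : Sylow p G) :
    Nat.card P = p := by
  have hn : n ≠ 0 := hG ▸ Nat.card_pos.ne'
  have h1 := (Fact.out : p.Prime).dvd_iff_one_le_factorization hn
  rw [P.card_eq_multiplicity, hG]
  have h2 : n.factorization p < 2 := by
    by_contra h
    refine hp.2 ?_
    rw [← sq]
    exact ((Fact.out : p.Prime).pow_dvd_iff_le_factorization hn).2 (by omega)
  have h3 := h1.1 hp.1
  rw [show n.factorization p = 1 by omega, pow_one]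

/-- A normal subgroup of order divisible by `p` contains all Sylow subgroups of order `p`. -/
theorem le_of_normal_of_dvd (hc : ∀ P : Sylow p G, Nat.card P = p) {M : Subgroup G} [M.Normal]
    (h : p ∣ Nat.card M) (P : Sylow p G) : (P : Subgroup G) ≤ M := by
  obtain ⟨y, hy⟩ := exists_prime_orderOf_dvd_card' p h
  obtain ⟨Q, hQ⟩ := (IsPGroup.of_card (G := zpowers (y : G)) (n := 1)
    (by rw [Nat.card_zpowers, orderOf_coe, hy, pow_one])).exists_le_sylow
  have hQe : zpowers (y : G) = Q := eq_of_le_of_card_ge hQ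
    (by rw [hc Q, Nat.card_zpowers, orderOf_coe, hy])
  obtain ⟨g, rfl⟩ := MulAction.exists_smul_eq G Q P
  intro w hw
  rw [Sylow.coe_subgroup_smul, mem_pointwise_smul_iff_inv_smul_mem, ← hQe] at hw
  have h1 : g⁻¹ * w * g⁻¹⁻¹ ∈ M := zpowers_le.2 y.2
    (by simpa [MulAut.smul_def, MulAut.conj_inv_apply] using hw)
  have h2 := (inferInstance : M.Normal).conj_mem _ h1 g
  rwa [show g * (g⁻¹ * w * g⁻¹⁻¹) * g⁻¹ = w by group] at h2

omit [Finite G] in
theorem card_sylow_of_le [Finite G] (M : Subgroup G) (h : ∀ P : Sylow p G, (P : Subgroup G) ≤ M) :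
    Nat.card (Sylow p M) = Nat.card (Sylow p G) := by
  refine (Nat.card_congr (Equiv.ofBijective (fun P : Sylow p G => P.subtype (h P))
    ⟨fun A B e => Sylow.subtype_injective e, ?_⟩)).symm
  intro T
  obtain ⟨P, hP⟩ := T.exists_comap_subtype_eq
  refine ⟨P, Sylow.ext ?_⟩
  rw [Sylow.coe_subtype]
  exact hP

end Counting

theorem pPrimeCore_ne_bot {H : Type*} [Group H] [Finite H] (hc : Nat.card H = 252)
    [Fact (Nat.Prime 7)] (hn : Nat.card (Sylow 7 H) = 36) : Cfsg.pPrimeCore 7 H ≠ ⊥ := by
  obtain ⟨Q⟩ := (inferInstance : Nonempty (Sylow 7 H))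
  have hQc : Nat.card Q = 7 := card_sylow_prime hc (by norm_num) Q
  have hNQ : normalizer ((Q : Subgroup H) : Set H) = Q := by
    refine (eq_of_le_of_card_ge le_normalizer ?_).symm
    have h1 := (normalizer ((Q : Subgroup H) : Set H)).index_mul_card
    have h2 := Q.card_eq_index_normalizer
    rw [hn] at h2
    change 36 = (normalizer ((Q : Subgroup H) : Set H)).index at h2
    rw [← h2, hc] at h1
    omega
  haveI : IsCyclic Q := isCyclic_of_prime_card hQc
  have hle : normalizer ((Q : Subgroup H) : Set H) ≤ centralizer ((Q : Subgroup H) : Set H) := by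
    rw [hNQ]
    letI := IsCyclic.commGroup (α := Q)
    exact fun a ha => mem_centralizer_iff.2 fun b hb =>
      congrArg Subtype.val (mul_comm (⟨b, hb⟩ : Q) ⟨a, ha⟩)
  have hcompl := MonoidHom.ker_transferSylow_isComplement' Q hle
  have hW : Nat.card (MonoidHom.transferSylow Q hle).ker = 36 := by
    have h1 := hcompl.card_mul
    rw [hQc, hc] at h1
    omega
  intro hbot
  have hWle := CfsgLib.Core.le_pPrimeCore (p := 7) (N := (MonoidHom.transferSylow Q hle).ker)
    (by rw [hW]; decide)
  rw [hbot, le_bot_iff] at hWle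
  rw [hWle, card_bot] at hW
  omega

variable {K : Type*} [Field K] [Fintype K] (hK : Fintype.card K = 3 ^ (2 * 0 + 1))

/-- the additive character of the Borel subgroup on unipotent coordinates -/
def phi (t u : K) : Multiplicative K := Multiplicative.ofAdd (u - t ^ 2)

include hK

theorem card_K : Fintype.card K = 3 := by rw [hK]; norm_num

theorem pow_three_eq (x : K) : x ^ 3 = x := by
  conv_lhs => rw [← card_K hK]
  exact FiniteField.pow_card x

theorem card_R3 : Nat.card (RG K 0) = 1512 := by rw [card_RG hK]; norm_num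

theorem card_B3 : Nat.card (BR K 0) = 54 := by rw [card_BR hK]; norm_num

theorem phi_mul (a u b u' : K) :
    phi (a + b) (u + u' - (b ^ 3 ^ 0) ^ (3 : ℕ) * a) = phi a u * phi b u' := by
  have h3 : (3 : K) = 0 := three_eq_zero_G2 hK
  rw [phi, phi, phi, ← ofAdd_add, pow_zero, pow_one, pow_three_eq hK]
  congr 1
  linear_combination (-(a * b)) * h3

theorem phi_conj (c : Kˣ) (t u : K) :
    phi ((c : K) ^ (2 : ℕ) * (((c : K) ^ 3 ^ 0) ^ (3 : ℕ))⁻¹ * t)
      (((c : K) ^ 3 ^ 0) ^ (3 : ℕ) * (c : K)⁻¹ * u) = phi t u := by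
  have hc : (c : K) ≠ 0 := c.ne_zero
  have h2 : (c : K) ^ 2 = 1 := by
    have h := pow_three_eq hK (c : K)
    rw [pow_succ] at h
    exact (mul_eq_right₀ hc).1 h
  rw [phi, phi, pow_zero, pow_one, pow_three_eq hK, mul_inv_cancel₀ hc, one_mul, h2, one_mul,
    mul_pow, inv_pow, h2, inv_one, one_mul]

theorem exists_chi : ∃ χ : BR K 0 →* Multiplicative K,
    ∀ t u v, ∀ h : uEl 0 t u v ∈ BR K 0, χ ⟨uEl 0 t u v, h⟩ = phi t u := by
  classical
  choose ct cu cv cc hcc using fun b : BR K 0 => BR_form hK b.2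
  have hf : ∀ (b : BR K 0) t u v c, (b : RG K 0) = uEl 0 t u v * hEl hK c →
      phi (ct b) (cu b) = phi t u := by
    intro b t u v c e
    obtain ⟨h1, -⟩ := BR_unique hK (uEl_mem hK _ _ _) (uEl_mem hK _ _ _) (hEl_mem hK _)
      (hEl_mem hK _) ((hcc b).symm.trans e)
    obtain ⟨h2, h3, -⟩ := uEl_inj hK h1
    rw [h2, h3]
  refine ⟨MonoidHom.mk' (fun b => phi (ct b) (cu b)) fun a b => ?_, fun t u v h => ?_⟩
  · have e : ((a * b : BR K 0) : RG K 0) =
        uEl 0 (ct a) (cu a) (cv a) * (hEl hK (cc a) * uEl 0 (ct b) (cu b) (cv b) * (hEl hK (cc a))⁻¹) *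
          hEl hK (cc a * cc b) := by
      rw [Subgroup.coe_mul, map_mul]
      nth_rewrite 1 [hcc a, hcc b]
      group
    rw [hEl_conj_uEl hK, uEl_mul hK] at e
    show phi _ _ = phi _ _ * phi _ _
    rw [hf _ _ _ _ _ e, phi_mul hK, phi_conj hK]
  · exact hf _ t u v 1 (by rw [map_one, mul_one])

theorem exists_kernel : ∃ N : Subgroup (RG K 0), N.Normal ∧ Nat.card N = 504 ∧ commutator (RG K 0) ≤ N := by
  classical
  obtain ⟨χ, hχ⟩ := exists_chi hK
  haveI : Finite (RG K 0) := inferInstance
  haveI : (BR K 0).FiniteIndex := inferInstance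
  let T : RG K 0 →* Multiplicative K := MonoidHom.transfer χ
  set x : RG K 0 := uEl 0 0 1 0 with hx
  have hxU : x ∈ UR K 0 := uEl_mem hK _ _ _
  have hxB : x ∈ BR K 0 := (split hK).U_le hxU
  have hx3 : x ^ 3 = 1 := by
    rw [hx, uEl_cube hK, uEl_eq_one_iff hK]
    simp
  have hTx : T x ≠ 1 := by
    haveI := Fintype.ofFinite (Quotient (MulAction.orbitRel (zpowers x) (RG K 0 ⧸ BR K 0)))
    rw [show T x = _ from MonoidHom.transfer_eq_prod_quotient_orbitRel_zpowers_quot χ x,
      Fintype.prod_eq_single (Quotient.mk'' ((1 : RG K 0) : RG K 0 ⧸ BR K 0))]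
    · set q := (Quotient.mk'' ((1 : RG K 0) : RG K 0 ⧸ BR K 0) :
        Quotient (MulAction.orbitRel (zpowers x) (RG K 0 ⧸ BR K 0)))
      have hq : q.out = ((1 : RG K 0) : RG K 0 ⧸ BR K 0) := by
        obtain ⟨⟨g, hg⟩, hge⟩ := MulAction.orbitRel_apply.1 (Quotient.exact' (Quotient.out_eq' q))
        rw [← hge]
        show ((g * 1 : RG K 0) : RG K 0 ⧸ BR K 0) = _
        exact QuotientGroup.eq.2 (by simpa using zpowers_le.2 hxB hg)
      have hg : q.out.out ∈ BR K 0 := by
        have h := QuotientGroup.eq.1 ((QuotientGroup.out_eq' q.out).trans hq)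
        rw [mul_one] at h
        exact inv_mem_iff.1 h
      have hper : Function.minimalPeriod (x • ·) q.out = 1 := by
        rw [Function.minimalPeriod_eq_one_iff_isFixedPt, hq]
        show ((x * 1 : RG K 0) : RG K 0 ⧸ BR K 0) = _
        exact QuotientGroup.eq.2 (by simpa using hxB)
      have e : χ ⟨q.out.out⁻¹ * x ^ Function.minimalPeriod (x • ·) q.out * q.out.out,
          QuotientGroup.out_conj_pow_minimalPeriod_mem _ x q.out⟩ =
          (χ ⟨_, hg⟩)⁻¹ * χ ⟨x, hxB⟩ * χ ⟨_, hg⟩ := by
        rw [← map_inv, ← map_mul, ← map_mul]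
        congr 1
        refine Subtype.ext ?_
        simp [hper]
      rw [e, mul_comm _ (χ ⟨x, hxB⟩), inv_mul_cancel_right, hχ 0 1 0 hxB, phi]
      simp
    · intro q hq
      have hk : Function.minimalPeriod (x • ·) q.out = 3 := by
        have hdvd : Function.minimalPeriod (x • ·) q.out ∣ 3 :=
          (MulAction.pow_smul_eq_iff_minimalPeriod_dvd (a := x) (b := q.out)).1
            (by rw [hx3, one_smul])
        refine ((Nat.dvd_prime Nat.prime_three).1 hdvd).resolve_left fun h1 => hq ?_
        rw [Function.minimalPeriod_eq_one_iff_isFixedPt] at h1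
        rcases (split hK).coset_cases q.out with e | ⟨u, hu, e⟩
        · rw [← e, Quotient.out_eq']
        · exfalso
          have h2 : ((x * (u * nEl hK) : RG K 0) : RG K 0 ⧸ BR K 0) =
              ((u * nEl hK : RG K 0) : RG K 0 ⧸ BR K 0) := by
            have h3 : x • q.out = q.out := h1
            rw [e] at h3
            exact h3
          have h4 : x * u = u :=
            (split hK).coset_inj (mul_mem hxU hu) hu (by rw [mul_assoc]; exact h2)
          rw [mul_eq_right, hx, uEl_eq_one_iff hK] at h4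
          exact one_ne_zero h4.2.1
      have e : (⟨q.out.out⁻¹ * x ^ Function.minimalPeriod (x • ·) q.out * q.out.out,
          QuotientGroup.out_conj_pow_minimalPeriod_mem _ x q.out⟩ : BR K 0) = 1 :=
        Subtype.ext (by simp [hk, hx3])
      rw [e, map_one]
  refine ⟨T.ker, inferInstance, ?_, Abelianization.commutator_subset_ker T⟩
  have h := T.ker.index_mul_card
  rw [index_ker, card_R3 hK] at h
  have hr : Nat.card T.range = 3 := by
    have hd : Nat.card T.range ∣ 3 := by
      have := card_subgroup_dvd_card T.range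
      rwa [Nat.card_eq_fintype_card (α := Multiplicative K), Fintype.card_multiplicative,
        card_K hK] at this
    refine ((Nat.dvd_prime Nat.prime_three).1 hd).resolve_left fun h1 => hTx ?_
    exact mem_bot.1 ((card_eq_one.1 h1).le ⟨x, rfl⟩)
  rw [hr] at h
  omega

theorem transitive_of_normal {M : Subgroup (RG K 0)} [M.Normal] (hM : ¬ M ≤ BR K 0) :
    28 ∣ Nat.card M := by
  obtain ⟨g, hgM, hgB⟩ := SetLike.not_le_iff_exists.1 hM
  obtain ⟨u, hu, b, hb, rfl⟩ := (split hK).cover g hgB
  set L := M ⊔ BR K 0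
  have hBL : BR K 0 ≤ L := le_sup_right
  have hn : nEl hK ∈ L := by
    have h1 : u * nEl hK * b ∈ L := le_sup_left (a := M) hgM
    have h2 := mul_mem (mul_mem (inv_mem (hBL ((split hK).U_le hu))) h1) (inv_mem (hBL hb))
    rwa [show u⁻¹ * (u * nEl hK * b) * b⁻¹ = nEl hK by group] at h2
  have htop : L = ⊤ := eq_top_iff.2 fun g _ => by
    by_cases hg : g ∈ BR K 0
    · exact hBL hg
    · obtain ⟨v, hv, b', hb', rfl⟩ := (split hK).cover g hg
      exact mul_mem (mul_mem (hBL ((split hK).U_le hv)) hn) (hBL hb')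
  have h1 : M.relIndex L = M.relIndex (BR K 0) := relIndex_sup_left _ M
  rw [htop, relIndex_top_right] at h1
  have h2 := M.index_mul_card
  rw [card_R3 hK, h1] at h2
  have h3 : M.relIndex (BR K 0) ∣ 54 := by
    rw [← card_B3 hK]; exact relIndex_dvd_card M _
  obtain ⟨k, hk⟩ := h3
  refine ⟨k, Nat.eq_of_mul_eq_mul_left (n := M.relIndex (BR K 0)) ?_ ?_⟩
  · rcases Nat.eq_zero_or_pos (M.relIndex (BR K 0)) with e | e
    · rw [e, zero_mul] at hk; omega
    · exact e
  · rw [h2, mul_left_comm, ← hk]; norm_num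

variable (hcore : (BR K 0).normalCore = ⊥)
include hcore

theorem dvd_of_normal {M : Subgroup (RG K 0)} [M.Normal] (hM : M ≠ ⊥) : 28 ∣ Nat.card M :=
  transitive_of_normal hK fun h => hM (le_bot_iff.1 (hcore ▸ normal_le_normalCore.2 h))

theorem card_sylow_eq (P : Sylow 7 (RG K 0)) : Nat.card P = 7 := by
  haveI : Fact (Nat.Prime 7) := ⟨by norm_num⟩
  exact card_sylow_prime (card_R3 hK) (by norm_num) P

theorem seven_le_of_normal {M : Subgroup (RG K 0)} [M.Normal] (hM : M ≠ ⊥) (P : Sylow 7 (RG K 0)) :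
    (P : Subgroup (RG K 0)) ≤ M := by
  haveI : Fact (Nat.Prime 7) := ⟨by norm_num⟩
  exact le_of_normal_of_dvd (card_sylow_eq hK hcore)
    ((by norm_num : (7 : ℕ) ∣ 28).trans (dvd_of_normal hK hcore hM)) P

theorem card_sylow_seven : Nat.card (Sylow 7 (RG K 0)) = 36 := by
  haveI : Fact (Nat.Prime 7) := ⟨by norm_num⟩
  obtain ⟨P⟩ := (inferInstance : Nonempty (Sylow 7 (RG K 0)))
  have hP7 := card_sylow_eq hK hcore P
  have hidx : (P : Subgroup (RG K 0)).index = 216 := by
    have := (P : Subgroup (RG K 0)).index_mul_card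
    rw [hP7, card_R3 hK] at this
    omega
  have hd : Nat.card (Sylow 7 (RG K 0)) ∈ Nat.divisors 216 :=
    Nat.mem_divisors.2 ⟨hidx ▸ P.card_dvd_index, by norm_num⟩
  have hmod := card_sylow_modEq_one 7 (RG K 0)
  have key : ∀ d ∈ Nat.divisors 216, d % 7 = 1 → d = 1 ∨ d = 8 ∨ d = 36 := by decide +kernel
  rcases key _ hd hmod with h | h | h
  · exfalso
    haveI : Subsingleton (Sylow 7 (RG K 0)) := (Nat.card_eq_one_iff_unique.1 h).1
    haveI := P.normal_of_subsingleton
    have h28 := dvd_of_normal hK hcore (M := (P : Subgroup (RG K 0)))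
      (fun e => by rw [e, card_bot] at hP7; omega)
    rw [hP7] at h28
    omega
  · exfalso
    let act : RG K 0 →* Equiv.Perm (Sylow 7 (RG K 0)) :=
      MulAction.toPermHom (RG K 0) (Sylow 7 (RG K 0))
    have hinj : act.ker = ⊥ := by
      by_contra hne
      have hsub : Subsingleton (Sylow 7 (RG K 0)) := ⟨fun A B => by
        have hle : (A : Subgroup (RG K 0)) ≤ normalizer ((B : Subgroup (RG K 0)) : Set (RG K 0)) :=
          fun k hk => Sylow.smul_eq_iff_mem_normalizer.1
            (Equiv.congr_fun (MonoidHom.mem_ker.1 (seven_le_of_normal hK hcore hne A hk)) B)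
        have hp := IsPGroup.to_sup_of_normal_right' A.isPGroup' B.isPGroup' hle
        refine Sylow.ext ?_
        rw [← A.is_maximal' hp le_sup_left]
        exact B.is_maximal' hp le_sup_right⟩
      rw [Nat.card_of_subsingleton P] at h
      omega
    have hdvd := card_dvd_of_injective act ((MonoidHom.ker_eq_bot_iff _).1 hinj)
    rw [Nat.card_perm, h, card_R3 hK] at hdvd
    exact absurd hdvd (by decide)
  · exact h

theorem isSimple_kernel {N : Subgroup (RG K 0)} [N.Normal] (hN : Nat.card N = 504) :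
    IsSimpleGroup N := by
  haveI : Fact (Nat.Prime 7) := ⟨by norm_num⟩
  haveI : Nontrivial N := Finite.one_lt_card_iff_nontrivial.1 (by omega)
  have hNne : N ≠ ⊥ := fun e => by rw [e, card_bot] at hN; omega
  have hnN : Nat.card (Sylow 7 N) = 36 := by
    rw [card_sylow_of_le N (seven_le_of_normal hK hcore hNne), card_sylow_seven hK hcore]
  have hcore7 : Cfsg.pPrimeCore 7 N = ⊥ := by
    by_contra hne
    haveI : ((Cfsg.pPrimeCore 7 N).map N.subtype).Normal := ConjAct.normal_of_characteristic_of_normal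
    have h28 := dvd_of_normal hK hcore (M := (Cfsg.pPrimeCore 7 N).map N.subtype)
      (fun e => hne ((Subgroup.map_eq_bot_iff_of_injective _ N.subtype_injective).1 e))
    rw [Nat.card_congr (equivMapOfInjective _ _ N.subtype_injective).toEquiv.symm] at h28
    exact absurd (Nat.dvd_gcd ((by norm_num : (7 : ℕ) ∣ 28).trans h28) dvd_rfl)
      (by rw [Nat.Coprime.gcd_eq_one (CfsgLib.Core.coprime_card_pPrimeCore 7 N)]; decide)
  refine ⟨fun M hM => ?_⟩
  haveI := hM
  by_cases h7 : 7 ∣ Nat.card M
  · right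
    have hMle : ∀ P : Sylow 7 N, (P : Subgroup N) ≤ M :=
      le_of_normal_of_dvd (card_sylow_prime hN (by norm_num)) h7
    have hnM : Nat.card (Sylow 7 M) = 36 := by rw [card_sylow_of_le M hMle, hnN]
    obtain ⟨S⟩ := (inferInstance : Nonempty (Sylow 7 M))
    have h36 : 36 ∣ Nat.card M := hnM ▸ S.card_dvd_index.trans (index_dvd_card _)
    have hd : Nat.card M ∣ 504 := hN ▸ card_subgroup_dvd_card M
    obtain ⟨k, hk⟩ : 252 ∣ Nat.card M :=
      Nat.Coprime.mul_dvd_of_dvd_of_dvd (m := 7) (n := 36) (by norm_num) h7 h36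
    rw [hk] at hd
    have hk2 : k ∣ 2 := Nat.dvd_of_mul_dvd_mul_left (by norm_num) (by simpa using hd : 252 * k ∣ 252 * 2)
    rcases (Nat.dvd_prime Nat.prime_two).1 hk2 with rfl | rfl
    · exfalso
      refine pPrimeCore_ne_bot (hk.trans (mul_one _)) hnM ?_
      haveI : ((Cfsg.pPrimeCore 7 M).map M.subtype).Normal :=
        ConjAct.normal_of_characteristic_of_normal
      have hco := CfsgLib.Core.coprime_card_pPrimeCore 7 M
      rw [Nat.card_congr (equivMapOfInjective _ _ M.subtype_injective).toEquiv] at hco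
      have hle := CfsgLib.Core.le_pPrimeCore (N := (Cfsg.pPrimeCore 7 M).map M.subtype) hco
      rw [hcore7, le_bot_iff, map_eq_bot_iff_of_injective _ M.subtype_injective] at hle
      exact hle
    · exact eq_top_of_card_eq M (by rw [hk, hN])
  · left
    rw [eq_bot_iff, ← hcore7]
    exact CfsgLib.Core.le_pPrimeCore ((Nat.Prime.coprime_iff_not_dvd (by norm_num)).2 h7).symm

theorem commutator_eq {N : Subgroup (RG K 0)} [N.Normal] (hN : Nat.card N = 504)
    (hle : commutator (RG K 0) ≤ N) : commutator (RG K 0) = N := by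
  haveI := isSimple_kernel hK hcore hN
  rcases IsSimpleGroup.eq_bot_or_eq_top_of_normal ((commutator (RG K 0)).subgroupOf N) inferInstance
    with h | h
  · exfalso
    rw [subgroupOf_eq_bot, disjoint_iff, inf_eq_left.2 hle] at h
    haveI hB : (BR K 0).Normal := ⟨fun a ha g => by
      have hc : g * a * g⁻¹ * a⁻¹ ∈ commutator (RG K 0) := by
        rw [commutator_def, ← commutatorElement_def]
        exact commutator_mem_commutator (mem_top g) (mem_top a)
      rw [h, mem_bot, mul_inv_eq_one] at hc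
      rw [hc]; exact ha⟩
    have hself := normalCore_eq_self (BR K 0)
    rw [hcore] at hself
    have h54 := card_B3 hK
    rw [← hself, card_bot] at h54
    omega
  · exact le_antisymm hle (subgroupOf_eq_top.1 h)

end CfsgLib.Lie.Ree.Three
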